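import Cfsg.Agent.H1.ES

/-! H1.ES2: extraspecial 2-groups. -/

open Pointwise Cfsg Subgroup
open scoped commutatorElement

namespace H1

variable {G : Type*} [Group G] {Q : Subgroup G} {x y z g : G} {m : ℕ}

theorem zp2 (h : z ^ 2 = 1) {w : G} : w ∈ zpowers z ↔ w = 1 ∨ w = z := by
  refine ⟨?_, by rintro (rfl | rfl); exacts [one_mem _, mem_zpowers _]⟩
  rintro ⟨k, rfl⟩
  have h' : z ^ (2 : ℤ) = 1 := by exact_mod_cast h
  obtain ⟨j, rfl | rfl⟩ := Int.even_or_odd' k <;> simp [zpow_add, zpow_mul, h']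

open Classical in
noncomputable def sg (x : G) : ℤ := if x ^ 2 = 1 then 1 else -1

noncomputable def SS (Q : Subgroup G) : ℤ := ∑ᶠ q ∈ (Q : Set G), sg q

theorem sg_pos (h : x ^ 2 = 1) : sg x = 1 := if_pos h

theorem sg_neg (h : x ^ 2 ≠ 1) : sg x = -1 := if_neg h

theorem sg_cases (x : G) : sg x = 1 ∨ sg x = -1 := (em _).imp sg_pos sg_neg

theorem sg_mul (hz : orderOf z = 2) {a b : G} (ha : a ^ 2 ∈ zpowers z) (hb : b ^ 2 ∈ zpowers z)
    (h : Commute a b) : sg (a * b) = sg a * sg b := by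
  obtain ⟨h1, h2⟩ := (orderOf_eq_prime_iff (p := 2)).1 hz
  unfold sg
  rw [h.mul_pow]
  rcases (zp2 h1).1 ha with e | e <;> rcases (zp2 h1).1 hb with e' | e' <;>
    simp [e, e', h2, ← pow_two, h1]

theorem sq_anti (e : ⁅x, y⁆ = z) (hx : Commute x z) (hy : Commute y z) :
    (y * x) ^ 2 = y ^ 2 * x ^ 2 * z := by
  rw [L.mul_pow_class2 (z := z) (by rw [← (hy.mul_left hx).symm.eq, ← e, commutatorElement_def]; group)
    hy hx]
  simp

theorem sg_anti (hz : orderOf z = 2) (ha : x ^ 2 ∈ zpowers z) (hb : y ^ 2 ∈ zpowers z)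
    (e : ⁅x, y⁆ = z) (hx : Commute x z) (hy : Commute y z) : sg (y * x) = -(sg x * sg y) := by
  obtain ⟨h1, h2⟩ := (orderOf_eq_prime_iff (p := 2)).1 hz
  unfold sg
  rw [sq_anti e hx hy]
  rcases (zp2 h1).1 ha with e | e <;> rcases (zp2 h1).1 hb with e' | e' <;>
    simp [e, e', h2, ← pow_two, h1]

variable [Finite G]

theorem finsum_cst (s : Set G) (c : ℤ) : ∑ᶠ _ ∈ s, c = c * s.ncard := by
  rw [finsum_mem_eq_finite_toFinset_sum _ s.toFinite, Set.ncard_eq_toFinset_card s, Finset.sum_const,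
    nsmul_eq_mul, mul_comm]

theorem SS_count (Q : Subgroup G) : SS Q = 2 * {x | x ∈ Q ∧ x ^ 2 = 1}.ncard - Nat.card Q := by
  have h1 : (Q : Set G) = {x | x ∈ Q ∧ x ^ 2 = 1} ∪ {x | x ∈ Q ∧ x ^ 2 ≠ 1} := by
    ext x; simp only [SetLike.mem_coe, Set.mem_union, Set.mem_setOf_eq]; tauto
  have h2 : Disjoint {x | x ∈ Q ∧ x ^ 2 = 1} {x | x ∈ Q ∧ x ^ 2 ≠ 1} :=
    Set.disjoint_left.2 fun x h h' => h'.2 h.2
  have h3 : Nat.card Q = _ := (congrArg Set.ncard h1).trans (Set.ncard_union_eq h2)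
  rw [SS, h1, finsum_mem_union h2 (Set.toFinite _) (Set.toFinite _),
    finsum_mem_congr rfl fun x hx => sg_pos hx.2, finsum_mem_congr rfl fun x hx => sg_neg hx.2,
    finsum_cst, finsum_cst, h3]
  push_cast; ring

theorem SS_top : SS (⊤ : Subgroup G) = 2 * Nat.card {x : G // x ^ 2 = 1} - Nat.card G := by
  rw [SS_count, card_top]
  simp only [mem_top, true_and]
  rfl

theorem sum_two {K : Subgroup G} (f : G → ℤ) (h1 : g ∈ normalizer (K : Set G)) (h2 : g ^ 2 ∈ K)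
    (h3 : g ∉ K) : ∑ᶠ q ∈ ((K ⊔ zpowers g : Subgroup G) : Set G), f q =
      ∑ᶠ q ∈ (K : Set G), f q + ∑ᶠ q ∈ (K : Set G), f (g * q) := by
  have hg : g ∈ K ⊔ zpowers g := mem_sup_right (mem_zpowers g)
  rw [← finsum_mem_image (mul_right_injective g).injOn, ← finsum_mem_union (Set.disjoint_left.2 (by
    rintro _ h ⟨q, hq, rfl⟩
    exact h3 ((mul_mem_cancel_right hq).1 h))) (Set.toFinite _) (Set.toFinite _)]
  refine finsum_mem_congr (Set.ext fun q => ⟨fun h => or_iff_not_imp_left.2 fun h4 => ⟨g⁻¹ * q,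
    L.mul_mem_of_relIndex_two (relIndex_sup_zpowers Nat.prime_two h1 h3 h2) (inv_mem hg) h
      (mt inv_mem_iff.1 h3) h4, by simp⟩, ?_⟩) fun _ _ => rfl
  rintro (h | ⟨q, hq, rfl⟩)
  exacts [mem_sup_left h, mul_mem hg (mem_sup_left hq)]

omit [Finite G] in
theorem sum_sg (hz : orderOf z = 2) {C : Subgroup G} (ha : g ^ 2 ∈ zpowers z)
    (h : ∀ c ∈ C, c ^ 2 ∈ zpowers z ∧ Commute g c) :
    ∑ᶠ q ∈ (C : Set G), sg (g * q) = sg g * SS C := by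
  rw [SS, mul_finsum_mem]
  exact finsum_mem_congr rfl fun c hc => sg_mul hz ha (h c hc).1 (h c hc).2

theorem WS.SS_step (h : WS 2 Q z) (h1 : ∀ x ∈ Q, x ^ 2 ∈ zpowers z) (hx : x ∈ Q) (hy : y ∈ Q)
    (e : ⁅x, y⁆ = z) : SS Q = (1 + sg x + sg y - sg x * sg y) * SS (H1.CC Q x y) := by
  have h2 := (h.CC hx hy).mem
  have h3 : H1.CC Q x y ≤ Q := fun _ h => (mem_CC.1 h).1
  have h4 := fun f => sum_two f (h.norm h3 h2 hx) (zpowers_le.2 h2 (h1 x hx)) (h.idx hx hy e).1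
  conv_lhs => rw [← h.gen hx hy e]
  rw [SS, sum_two _ (h.norm (sup_le h3 (zpowers_le.2 hx)) (mem_sup_left h2) hy)
    (mem_sup_left (zpowers_le.2 h2 (h1 y hy))) (h.idx hx hy e).2, h4, h4 fun q => sg (y * q)]
  simp only [← mul_assoc]
  rw [sum_sg h.ord (h1 x hx) fun c hc => ⟨h1 c (h3 hc), (mem_CC.1 hc).2.1.symm⟩,
    sum_sg h.ord (h1 y hy) fun c hc => ⟨h1 c (h3 hc), (mem_CC.1 hc).2.2.symm⟩,
    sum_sg h.ord (h1 _ (mul_mem hy hx)) fun c hc => ⟨h1 c (h3 hc),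
      ((mem_CC.1 hc).2.2.mul_right (mem_CC.1 hc).2.1).symm⟩,
    sg_anti h.ord (h1 x hx) (h1 y hy) e (h.cen x hx) (h.cen y hy), ← SS]
  ring

theorem SS_exp (h : ∀ x ∈ Q, x ^ 2 = 1) : SS Q = Nat.card Q := by
  rw [SS, finsum_mem_congr rfl fun x hx => sg_pos (h x hx), finsum_cst, one_mul]; rfl

theorem SS_zero (hz : orderOf z = 2) (h : ∀ x ∈ Q, x ^ 2 ∈ zpowers z) (hg : g ∈ Q)
    (h1 : ∀ x ∈ Q, Commute g x) (h2 : g ^ 2 ≠ 1) : SS Q = 0 := by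
  have h3 := sum_sg hz (h g hg) fun c hc => ⟨h c hc, h1 c hc⟩
  rw [← finsum_mem_image (mul_right_injective g).injOn, sg_neg h2, show (g * ·) '' (Q : Set G) = Q
    from Set.ext fun q => ⟨by rintro ⟨q, hq, rfl⟩; exact mul_mem hg hq,
      fun hq => ⟨g⁻¹ * q, mul_mem (inv_mem hg) hq, by simp⟩⟩, ← SS] at h3
  omega

theorem WS.SS_val (h : WS 2 Q z) (h1 : ∀ x ∈ Q, x ^ 2 ∈ zpowers z) :
    ∃ r, Nat.card Q = Nat.card (Q ⊓ centralizer (Q : Set G) : Subgroup G) * 2 ^ (2 * r) ∧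
      |SS Q| = 2 ^ r * |SS (Q ⊓ centralizer (Q : Set G))| := by
  induction Q using WellFoundedLT.induction with | _ Q ih =>
  rcases h.cases with h2 | ⟨x, hx, y, hy, e⟩
  · exact ⟨0, by rw [inf_eq_left.2 fun x hx y hy => (h2 y hy x hx).eq]; simp⟩
  · obtain ⟨r, hr, hr'⟩ := ih _ (h.CC_lt hx hy e) (h.CC hx hy) fun c hc => h1 c (mem_CC.1 hc).1
    refine ⟨r + 1, by rw [h.card_CC hx hy e, hr, h.Z_CC hx hy e]; ring, ?_⟩
    rw [h.SS_step h1 hx hy e, abs_mul, hr', h.Z_CC hx hy e]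
    rcases sg_cases x with e | e <;> rcases sg_cases y with e' | e' <;> rw [e, e'] <;> norm_num <;> ring

theorem SS_zp (h : orderOf z = 2) : SS (zpowers z) = 2 := by
  have h1 := ((orderOf_eq_prime_iff (p := 2)).1 h).1
  rw [SS_exp fun x hx => by rcases (zp2 h1).1 hx with rfl | rfl <;> simp [h1], Nat.card_zpowers, h]
  rfl

theorem XP.sq (h : XP 2 m Q z) (hx : x ∈ Q) : x ^ 2 = 1 ∨ x ^ 2 = z := (zp2 h.zp).1 (h.pow h.nd hx)

theorem XP.SS_val (h : XP 2 m Q z) : SS Q = 2 ^ (m + 1) ∨ SS Q = -2 ^ (m + 1) := by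
  obtain ⟨r, h1, h2⟩ := h.toWS.SS_val fun x hx => h.pow h.nd hx
  rw [h.Z_eq h.nd] at h1 h2
  rw [h.cd, h.card_zp, ← pow_succ'] at h1
  obtain rfl : m = r := by have := Nat.pow_right_injective le_rfl h1; omega
  rw [SS_zp h.ord] at h2
  exact (abs_eq (by positivity)).1 h2

theorem XP.pair_inv (h : XP 2 m Q z) (hx : x ∈ Q) (h1 : x ∉ zpowers z) (h2 : x ^ 2 = 1) :
    ∃ y ∈ Q, ⁅x, y⁆ = z ∧ y ^ 2 = 1 := by
  obtain ⟨y, hy, e⟩ := h.pair' hx h1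
  rcases h.sq hy with h3 | h3
  · exact ⟨y, hy, e, h3⟩
  refine ⟨y * x, mul_mem hy hx, by rw [L.commutatorElement_mul_right', e]; simp, ?_⟩
  rw [sq_anti e (h.cen x hx) (h.cen y hy), h2, h3, mul_one, ← pow_two, h.zp]

theorem XP.SS_inv (h : XP 2 m Q z) (hx : x ∈ Q) (hy : y ∈ Q) (e : ⁅x, y⁆ = z) (h1 : x ^ 2 = 1)
    (h2 : y ^ 2 = 1) : SS Q = 2 * SS (H1.CC Q x y) := by
  rw [h.SS_step (fun x hx => h.pow h.nd hx) hx hy e, sg_pos h1, sg_pos h2]; ring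

theorem XP.dich (h : XP 2 (m + 1) Q z) : ∃ x ∈ Q, ∃ y ∈ Q, ⁅x, y⁆ = z ∧
    ((x ^ 2 = 1 ∧ y ^ 2 = 1 ∧ SS Q = 2 * SS (H1.CC Q x y)) ∨
      (m = 0 ∧ x ^ 2 = z ∧ y ^ 2 = z ∧ SS Q = -4)) := by
  by_cases h1 : ∃ x ∈ Q, x ∉ zpowers z ∧ x ^ 2 = 1
  · obtain ⟨x, hx, h1, h2⟩ := h1
    obtain ⟨y, hy, e, h3⟩ := h.pair_inv hx h1 h2
    exact ⟨x, hx, y, hy, e, .inl ⟨h2, h3, h.SS_inv hx hy e h2 h3⟩⟩
  push Not at h1
  have h2 : ∀ x ∈ Q, x ∉ zpowers z → x ^ 2 = z := fun x hx h2 => (h.sq hx).resolve_left (h1 x hx h2)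
  obtain ⟨x, hx, h3⟩ := h.exists_nc
  obtain ⟨y, hy, e⟩ := h.pair' hx h3
  have h4 : y ∉ zpowers z := fun h4 => h.ne (e ▸ cm_iff.2 (cm_of_zp (h.cen x hx) h4))
  have h5 := h.CC hx hy e
  obtain rfl : m = 0 := by
    rcases m with _ | m
    · rfl
    obtain ⟨c, hc, h6⟩ := h5.exists_nc
    obtain ⟨h7, h8, -⟩ := mem_CC.1 hc
    refine (h1 _ (mul_mem h7 hx) (fun h9 => (h.idx hx hy e).1
      ((mul_mem_cancel_left hc).1 (h5.zle h9))) ?_).elim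
    rw [h8.mul_pow, h2 c h7 h6, h2 x hx h3, ← pow_two, h.zp]
  refine ⟨x, hx, y, hy, e, .inr ⟨rfl, h2 x hx h3, h2 y hy h4, ?_⟩⟩
  rw [h.SS_step (fun x hx => h.pow h.nd hx) hx hy e, sg_neg (h1 x hx h3), sg_neg (h1 y hy h4), h5.zero,
    SS_zp h.ord]
  rfl

variable {G' : Type*} [Group G'] [Finite G'] {Q' : Subgroup G'} {z' : G'}

theorem XP.gr_two (h : XP 2 m Q z) (h' : XP 2 m Q' z') (h1 : SS Q = SS Q') :
    ∃ Γ, Gr Q Q' Γ ∧ (z, z') ∈ Γ := by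
  induction m generalizing Q Q' with
  | zero => exact ⟨_, by rw [h.zero, h'.zero]; exact gr_zero h.ord h'.ord, mem_zpowers _⟩
  | succ m ih =>
    obtain ⟨x, hx, y, hy, e, h2⟩ := h.dich
    obtain ⟨x', hx', y', hy', e', h2'⟩ := h'.dich
    have h3 := h.CC hx hy e
    have h3' := h'.CC hx' hy' e'
    have key : SS (H1.CC Q x y) = SS (H1.CC Q' x' y') ∧ ((x ^ 2, x' ^ 2) = 1 ∧ (y ^ 2, y' ^ 2) = 1 ∨
        (x ^ 2, x' ^ 2) = (z, z') ∧ (y ^ 2, y' ^ 2) = (z, z')) := by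
      rcases h2 with ⟨a1, a2, a3⟩ | ⟨rfl, a1, a2, a3⟩ <;>
        rcases h2' with ⟨b1, b2, b3⟩ | ⟨b0, b1, b2, b3⟩
      · exact ⟨by omega, .inl ⟨Prod.ext a1 b1, Prod.ext a2 b2⟩⟩
      · subst b0
        rw [h3.zero, SS_zp h.ord] at a3
        omega
      · rw [h3'.zero, SS_zp h'.ord] at b3
        omega
      · exact ⟨by rw [h3.zero, h3'.zero, SS_zp h.ord, SS_zp h'.ord],
          .inr ⟨Prod.ext a1 b1, Prod.ext a2 b2⟩⟩
    obtain ⟨Γ, h4, h5⟩ := ih h3 h3' key.1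
    refine ⟨_, h4.step h.toWS h'.toWS hx hy e hx' hy' e' h5 ?_ ?_, mem_sup_left (mem_sup_left h5)⟩ <;>
      rcases key.2 with ⟨a1, a2⟩ | ⟨a1, a2⟩ <;> simp only [Prod.pow_mk, a1, a2, one_mem, h5]

theorem XP.equiv_two (h : XP 2 m (⊤ : Subgroup G) z) (h' : XP 2 m (⊤ : Subgroup G') z')
    (h1 : SS (⊤ : Subgroup G) = SS (⊤ : Subgroup G')) : Nonempty (G ≃* G') :=
  let ⟨_, h2, _⟩ := h.gr_two h' h1
  ⟨(h2.equiv (by rw [← card_top, h.cd, ← h'.cd, card_top])).choose⟩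

theorem XP.elem_le (h : XP 2 m Q z) {A : Subgroup G} (hA : A ≤ Q) (h1 : IsElementaryAbelian 2 A) :
    Nat.card A ≤ 2 ^ (m + 1) ∧ (Nat.card A = 2 ^ (m + 1) → SS Q = 2 ^ (m + 1)) := by
  wlog hz : z ∈ A generalizing A
  · have h2 := this (sup_le hA h.zle) (L.isElem_sup h1 (L.isElem_zpowers h.zp)
      fun a ha w hw => (cm_of_zp (h.cen a (hA ha)) hw).symm.eq) (mem_sup_right (mem_zpowers z))
    have h3 := card_le_of_le (le_sup_left : A ≤ A ⊔ zpowers z)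
    exact ⟨h3.trans h2.1, fun e => h2.2 (le_antisymm h2.1 (e ▸ h3))⟩
  induction m generalizing Q A with
  | zero =>
    rw [h.zero, SS_zp h.ord]
    exact ⟨(card_le_of_le (hA.trans h.zero.le)).trans h.card_zp.le, fun _ => rfl⟩
  | succ m ih =>
    by_cases h2 : A ≤ zpowers z
    · have h3 := (card_le_of_le h2).trans h.card_zp.le
      have : 2 < 2 ^ (m + 1 + 1) := by rw [pow_succ, pow_succ]; have := Nat.one_le_two_pow (n := m); omega
      exact ⟨by omega, fun _ => by omega⟩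
    obtain ⟨x, hx, h2⟩ := SetLike.not_le_iff_exists.1 h2
    obtain ⟨y, hy, e, h3⟩ := h.pair_inv (hA hx) h2 (h1.2 x hx)
    obtain ⟨h4, h5⟩ := ih (h.CC (hA hx) hy e) (A := A ⊓ centralizer {y}) (fun a ha => mem_CC.2
      ⟨hA ha.1, L.le_centralizer_of_comm h1.1 hx a ha.1, mem_centralizer_singleton_iff.1 ha.2⟩)
      (L.isElem_of_le h1 inf_le_left) ⟨hz, mem_centralizer_singleton_iff.2 (h.cen y hy).symm⟩
    have h6 := (L.relIndex_centralizer_le fun a ha => h.comm y hy a (hA ha)).trans h.card_zp.le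
    rw [← inf_relIndex_right, inf_comm] at h6
    have h7 := (L.card_eq_of_relIndex inf_le_left rfl).trans_le (Nat.mul_le_mul_left _ h6)
    refine ⟨by omega, fun e' => ?_⟩
    rw [h.SS_inv (hA hx) hy e (h1.2 x hx) h3, h5 (by omega)]; ring

theorem XP.exists_elem (h : XP 2 m Q z) : ∃ A ≤ Q, IsElementaryAbelian 2 A ∧
    (Nat.card A = 2 ^ (m + 1) ∨ (Nat.card A = 2 ^ m ∧ SS Q = -2 ^ (m + 1))) := by
  induction m generalizing Q with
  | zero => exact ⟨_, h.zle, L.isElem_zpowers h.zp, .inl h.card_zp⟩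
  | succ m ih =>
    obtain ⟨x, hx, y, hy, e, ⟨h1, -, h2⟩ | ⟨rfl, -, -, h2⟩⟩ := h.dich
    · obtain ⟨A, h3, h4, h5⟩ := ih (h.CC hx hy e)
      have h6 : ∀ a ∈ A, Commute a x := fun a ha => (mem_CC.1 (h3 ha)).2.1
      refine ⟨A ⊔ zpowers x, sup_le (h3.trans (h.CC_lt hx hy e).le) (zpowers_le.2 hx), L.isElem_sup h4
        (L.isElem_zpowers h1) fun a ha w hw => (cm_of_zp (h6 a ha) hw).symm.eq, ?_⟩
      rw [L.card_eq_of_relIndex le_sup_left (relIndex_sup_zpowers Nat.prime_two (mem_norm_of_cm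
        fun a ha => by rw [cm_iff.2 (h6 a ha).symm]; exact one_mem _)
        (fun h7 => (h.idx hx hy e).1 (h3 h7)) (h1 ▸ one_mem _)), h2]
      exact h5.imp (fun e => by rw [e]; ring) fun e => by rw [e.1, e.2]; constructor <;> ring
    · exact ⟨_, h.zle, L.isElem_zpowers h.zp, .inr ⟨h.card_zp, h2⟩⟩

theorem XP.rank (h : XP 2 m Q z) : (∀ A ≤ Q, IsElementaryAbelian 2 A → Nat.card A ≤ 2 ^ m) ↔
    SS Q = -2 ^ (m + 1) := by
  have h0 : (0 : ℤ) < 2 ^ (m + 1) := by positivity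
  refine ⟨fun h1 => ?_, fun h1 A hA h2 => ?_⟩
  · obtain ⟨A, hA, h2, h3 | h3⟩ := h.exists_elem
    · have := h1 A hA h2
      have := Nat.one_le_two_pow (n := m)
      omega
    · exact h3.2
  · obtain ⟨h4, h5⟩ := h.elem_le hA h2
    obtain ⟨k, hk⟩ := L.exists_card_eq_pow (isPGroup_of_pow_eq_one h2.2)
    rw [hk] at h4 h5 ⊢
    rw [Nat.pow_le_pow_iff_right one_lt_two] at h4 ⊢
    exact by_contra fun h6 => by have := h5 (by congr 1; omega); omega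

theorem XP.card_four (h : XP 2 m ⊤ z) :
    Nat.card {x : G // x ^ 2 = 1} + Nat.card {x : G // orderOf x = 4} = Nat.card G := by
  classical
  rw [← Nat.card_sum, ← Nat.card_congr (Equiv.sumCompl fun x : G => x ^ 2 = 1)]
  refine Nat.card_congr (Equiv.sumCongr (Equiv.refl _) (Equiv.subtypeEquivRight fun x =>
    ⟨fun e e' => by simpa [e] using orderOf_dvd_of_pow_eq_one e', fun e => ?_⟩))
  refine orderOf_eq_prime_pow (p := 2) (n := 1) e ?_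
  rw [pow_succ, pow_mul, pow_one, (h.sq (mem_top x)).resolve_left e, h.zp]

end H1
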