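import Cfsg.Agent.H1.ES2

/-! H1.ES3: P. Hall's theorem on groups of symplectic type. -/

open Pointwise Cfsg Subgroup
open scoped commutatorElement

namespace H1

variable {G : Type*} [Group G] {p : ℕ} {Q : Subgroup G} {x y z g : G}

/-- elements commuting with `g` modulo `Z` -/
def TT (Z : Subgroup G) [Z.Normal] (g : G) : Subgroup G :=
  (centralizer {QuotientGroup.mk' Z g}).comap (QuotientGroup.mk' Z)

theorem mem_TT {Z : Subgroup G} [Z.Normal] : x ∈ TT Z g ↔ ⁅x, g⁆ ∈ Z := by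
  rw [TT, mem_comap, mem_centralizer_singleton_iff, ← commutatorElement_eq_one_iff_mul_comm,
    ← map_commutatorElement, ← MonoidHom.mem_ker, QuotientGroup.ker_mk']

theorem TT_symm {Z : Subgroup G} [Z.Normal] (h : x ∈ TT Z g) : g ∈ TT Z x := by
  rw [mem_TT, ← commutatorElement_inv]; exact inv_mem (mem_TT.1 h)

theorem TT_self {Z : Subgroup G} [Z.Normal] : g ∈ TT Z g := by simp [mem_TT]

theorem TT_pair {Z : Subgroup G} [Z.Normal] {a b : G} (h : ⁅a, b⁆ ∈ Z) (hx : x ∈ zpowers a ⊔ zpowers b)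
    (hy : y ∈ zpowers a ⊔ zpowers b) : ⁅x, y⁆ ∈ Z :=
  mem_TT.1 (sup_le (zpowers_le.2 (TT_symm (sup_le (zpowers_le.2 TT_self)
    (zpowers_le.2 (TT_symm (mem_TT.2 h))) hy))) (zpowers_le.2 (TT_symm (sup_le
      (zpowers_le.2 (mem_TT.2 h)) (zpowers_le.2 TT_self) hy))) hx)

theorem WS.mul_pow (h : WS p Q z) {q : ℕ} (hq : p ∣ q.choose 2) (hx : x ∈ Q) (hy : y ∈ Q) :
    (x * y) ^ q = x ^ q * y ^ q := by
  have h1 : ⁅Q, Q⁆ ≤ zpowers z := commutator_le.2 h.comm
  exact L.mul_pow_of_class2 (commutator_eq_bot_iff_le_centralizer.2 fun w hw g hg =>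
    cm_of_zp (h.cen g hg) (h1 hw)) (fun w hw => by
      obtain ⟨k, rfl⟩ := h1 hw
      rw [← zpow_natCast, ← zpow_mul, mul_comm, zpow_mul, zpow_natCast,
        L.pow_eq_one_of_dvd h.zp hq, one_zpow]) hx hy

variable [Finite G] [hp : Fact p.Prime]

theorem mem_zp_of_pow {a u : G} {n : ℕ} (ha : orderOf a = p ^ (n + 1)) (hu : u ∈ zpowers a)
    (h : u ^ p = 1) : u ∈ zpowers (a ^ p ^ n) := by
  obtain ⟨k, rfl⟩ := mem_powers_iff_mem_zpowers.2 hu
  rw [← pow_mul, ← orderOf_dvd_iff_pow_eq_one, ha, pow_succ] at h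
  obtain ⟨j, rfl⟩ := Nat.dvd_of_mul_dvd_mul_right hp.out.pos h
  exact ⟨j, by simp [pow_mul]⟩

theorem symp_data (hG : IsPGroup p G) (hs : ∀ A : Subgroup G, A.Characteristic → IsMulCommutative A →
    IsCyclic A) [Nontrivial G] {q : ℕ} (q1 : p ∣ q.choose 2) (q2 : q ∣ p * p) (q3 : p ∣ q) :
    ∃ (a : G) (n : ℕ) (E : Subgroup G), (zpowers a).Characteristic ∧ orderOf a = p ^ (n + 1) ∧
      center G ≤ zpowers a ∧ a ^ p ^ n ∈ center G ∧ WS p E (a ^ p ^ n) ∧ ND E (a ^ p ^ n) ∧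
      (∀ x ∈ E, x ^ q = 1 ∧ ∀ g, ⁅x, g⁆ ∈ zpowers (a ^ p ^ n)) ∧ a ∈ centralizer (E : Set G) ∧
      (∀ g, ∃ u ∈ E, g * u ∈ centralizer (E : Set G)) ∧
      ∀ g ∈ centralizer (E : Set G), Commute g a → g ∈ zpowers a := by
  obtain ⟨U, -, ⟨hU, hU'⟩, h0⟩ := Finite.exists_le_maximal (a := (⊥ : Subgroup G))
    (p := fun A : Subgroup G => A.Characteristic ∧ IsMulCommutative A) ⟨inferInstance, inferInstance⟩
  have hm : ∀ A : Subgroup G, A.Characteristic → A ≤ centralizer (A : Set G) →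
      A ≤ centralizer (U : Set G) → A ≤ U := fun A h1 h2 h3 => le_sup_right.trans (h0 ⟨inferInstance,
        L.comm_of_le_centralizer (by
          rw [H9.centralizer_sup]
          exact sup_le (le_inf (le_centralizer U) (le_centralizer_iff.1 h3)) (le_inf h3 h2))⟩
      le_sup_left)
  have hT := hG.to_subgroup ⊤
  have hc := hs U hU hU'
  obtain ⟨a, rfl⟩ := (Subgroup.isCyclic_iff_exists_zpowers_eq_top _).1 hc
  have hZ := hm (center G) inferInstance (center_le_centralizer _) (center_le_centralizer _)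
  obtain ⟨n, ha⟩ := L.exists_orderOf_eq_pow_succ hT (mem_top a) fun e => L.center_ne_bot hG
    Finite.one_lt_card.ne' (eq_bot_iff.2 (hZ.trans (zpowers_eq_bot.2 e).le))
  set z := a ^ p ^ n
  have hza : z ∈ zpowers a := npow_mem_zpowers _ _
  have hz : orderOf z = p := by
    rw [orderOf_pow, ha, Nat.gcd_eq_right (pow_dvd_pow p n.le_succ), pow_succ',
      Nat.mul_div_cancel _ (pow_pos hp.out.pos n)]
  have := L.char_of_le_cyclic hc (zpowers_le.2 hza)
  have hzc : ∀ g, Commute g z := fun g => L.le_centralizer_of_card_prime hT le_top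
    le_normalizer_of_normal (by rw [Nat.card_zpowers, hz]; exact hp.out) (mem_zpowers z) g (mem_top g)
  have : ((L.omegaCenter p (G ⧸ zpowers a)).comap (QuotientGroup.mk' _)).Characteristic :=
    Characteristic.comap_quotient_mk inferInstance
  set Y := centralizer (zpowers a : Set G) ⊓
    (L.omegaCenter p (G ⧸ zpowers a)).comap (QuotientGroup.mk' _)
  have hY : ∀ y ∈ Y, (∀ u ∈ zpowers a, Commute y u) ∧ (∀ g, ⁅y, g⁆ ∈ zpowers a) ∧ y ^ p ∈ zpowers a :=
    fun y hy => ⟨fun u hu => (hy.1 u hu).symm, L.mem_comap_omegaCenter.1 hy.2⟩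
  have h1 : ∀ y ∈ Y, ∀ g, Commute (y ^ p) g → ⁅y, g⁆ ∈ zpowers z := fun y hy g h =>
    mem_zp_of_pow ha ((hY y hy).2.1 g) (by
      rw [← L.commutatorElement_pow_left ((hY y hy).1 _ ((hY y hy).2.1 g)), cm_iff.2 h])
  have hzY : z ∈ Y := ⟨fun u _ => hzc u, L.mem_comap_omegaCenter.2
    ⟨fun g => by rw [cm_iff.2 (hzc g).symm]; exact one_mem _, pow_mem hza p⟩⟩
  have h2 : WS p Y z := ⟨hzY, hz, fun x _ => hzc x, fun x hx y hy =>
    h1 x hx y ((hY y hy).1 _ (hY x hx).2.2).symm⟩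
  set W := omegaOne q Y
  have hWY : W ≤ Y := L.omegaOne_le _ _
  have h3 : ∀ x ∈ W, x ^ q = 1 := fun x hx => L.pow_eq_one_of_mem_omegaOne (fun x hx y hy e e' => by
    rw [h2.mul_pow q1 hx hy, e, e', one_mul]) hx
  have h4 : ∀ x ∈ W, x ^ p ∈ zpowers z := fun x hx => mem_zp_of_pow ha (hY x (hWY hx)).2.2
    (by rw [← pow_mul]; exact L.pow_eq_one_of_dvd (h3 x hx) q2)
  have h5 := h2.sub hWY (L.mem_omegaOne hzY (L.pow_eq_one_of_dvd h2.zp q3))
  obtain ⟨E, h6, h7, h8, h9⟩ := h5.exists_nd h4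
  have h10 : ∀ x ∈ E, ∀ g, ⁅x, g⁆ ∈ zpowers z := fun x hx g =>
    h1 x (hWY (h6 hx)) g (cm_of_zp (hzc g) (h4 x (h6 hx))).symm
  have hE := h5.sub h6 h7
  refine ⟨a, n, E, hU, ha, hZ, mem_center_iff.2 hzc, hE, h8, fun x hx => ⟨h3 x (h6 hx), h10 x hx⟩,
    fun x hx => (hY x (hWY (h6 hx))).1 a (mem_zpowers a), fun g => ?_, fun g hg hga => ?_⟩
  · obtain ⟨u, hu, h⟩ := hE.inner (g := g) (fun x hx => by
      rw [← commutatorElement_inv]; exact inv_mem (h10 x hx g))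
      fun x hx => cm_of_zp (hzc g) ((hE.Z_eq h8).le hx)
    exact ⟨u, hu, fun x hx => (h x hx).symm⟩
  have h11 := hm (W ⊓ centralizer (W : Set G)) inferInstance
    (inf_le_right.trans (centralizer_le inf_le_left)) (inf_le_left.trans (hWY.trans inf_le_left))
  have h12 : g ∈ centralizer (zpowers a : Set G) ⊓ centralizer (W : Set G) :=
    ⟨fun u hu => (cm_of_zp hga hu).symm, fun w hw => (commute_of_mem_sup (fun x hx => (hg x hx).symm)
      (fun x hx => cm_of_zp hga (h11 hx)) (h9.ge hw)).symm⟩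
  by_contra h13
  obtain ⟨x, hx, h14, h15, h16⟩ := L.exists_central_mod_pow hT (lt_of_le_of_ne (le_inf (le_centralizer _)
    (le_centralizer_iff.1 (hWY.trans inf_le_left))) fun e => h13 (e.ge h12)) le_top
    le_normalizer_of_normal le_normalizer_of_normal
  refine h14 (hm (Y ⊓ centralizer (W : Set G)) inferInstance (fun y hy w hw => ?_)
    (inf_le_left.trans inf_le_left) ⟨⟨hx.1, L.mem_comap_omegaCenter.2
      ⟨fun g => h16 g (mem_top g), h15⟩⟩, hx.2⟩)
  obtain ⟨k, hk⟩ := q3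
  let f : (Y ⊓ centralizer (W : Set G) : Subgroup G) →* zpowers a := MonoidHom.mk' (fun y =>
    ⟨y ^ q, by rw [hk, pow_mul]; exact pow_mem (hY y y.2.1).2.2 k⟩) fun x y =>
      Subtype.ext (h2.mul_pow q1 x.2.1 y.2.1)
  exact congrArg Subtype.val (commutative_of_cyclic_center_quotient f (fun y hy => mem_center_iff.2
    fun w => Subtype.ext (w.2.2 _ (L.mem_omegaOne y.2.1 (congrArg Subtype.val hy))).symm) ⟨w, hw⟩ ⟨y, hy⟩)

end H1
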