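import Cfsg.Agent.H1.Lin3
import Cfsg.Agent.H1.MaxNil

/-! H1.Fpa: coprime fixed point free actions on solvable groups: reduction to faithful modules. -/

open Pointwise Cfsg Module Subgroup
open scoped commutatorElement

namespace H1

universe u v

theorem exists_rep_normal {Γ : Type u} [Group Γ] [Finite Γ] {l : ℕ} [Fact l.Prime] {V : Subgroup Γ} [V.Normal]
    (hV : IsElementaryAbelian l V) : ∃ (W : Type u) (_ : AddCommGroup W) (_ : Module (AlgebraicClosure (ZMod l)) W)
      (_ : FiniteDimensional (AlgebraicClosure (ZMod l)) W) (ρ : Γ →* End (AlgebraicClosure (ZMod l)) W),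
      ρ.ker = centralizer (V : Set Γ) ∧
        ∀ B : Subgroup Γ, ¬ l ∣ Nat.card B → (fix ρ B = ⊥ ↔ V ⊓ centralizer (B : Set Γ) = ⊥) := by
  obtain ⟨W, _, _, _, ρ, h1, h2⟩ := exists_rep (L := ⊤) hV le_normalizer_of_normal
  refine ⟨W, _, _, inferInstance, ρ.comp (topEquiv (G := Γ)).symm.toMonoidHom, Subgroup.ext fun x => h1 ⟨x, trivial⟩,
    fun B hB => ?_⟩
  have e : B.map topEquiv.symm.toMonoidHom = B.subgroupOf ⊤ := by
    ext x
    exact ⟨by rintro ⟨y, hy, rfl⟩; exact hy, fun h => ⟨x, h, rfl⟩⟩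
  rw [← fix_map, e, ← card_eq_one, h2 B le_top hB, Nat.pow_eq_one, Submodule.finrank_eq_zero,
    or_iff_right (Fact.out : l.Prime).ne_one]

section
variable {F : Type*} [Field F] {V : Type*} [AddCommGroup V] [Module F V] {G : Type*} [Group G] [Finite G]
  {ρ : G →* End F V}

/-- a weight vector fixed by the stabilizer of its weight vanishes. -/
theorem orb {B A : Subgroup G} [B.Normal] (hB : (Nat.card B : F) ≠ 0) (hA : (Nat.card A : F) ≠ 0)
    (h0 : fix ρ A = ⊥) {χ : Wt F B} {u : V} (hu : u ∈ wt ρ χ) (h : ∀ a ∈ A, a • χ = χ → ρ a u = u) : u = 0 := by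
  classical
  have := Fintype.ofFinite A
  have := Fintype.ofFinite B
  have h1 : ∑ a : A, ρ a u = 0 := (Submodule.mem_bot F).1 (h0 ▸ sum_mem_fix u)
  have h2 := congrArg (pr ρ χ) h1
  rw [map_sum, map_zero, ← Finset.sum_filter_add_sum_filter_not _ fun a : A => a • χ = χ,
    Finset.sum_eq_zero (s := Finset.filter (fun a : A => ¬ a • χ = χ) _) fun a ha =>
      pr_of_mem_ne (rho_mem_wt hu a) (Ne.symm (Finset.mem_filter.1 ha).2), add_zero,
    Finset.sum_congr rfl (g := fun _ => u) fun a ha => by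
      rw [h a a.2 (Finset.mem_filter.1 ha).2, pr_of_mem hB hu], Finset.sum_const, ← Nat.cast_smul_eq_nsmul F,
    smul_eq_zero] at h2
  refine h2.resolve_left (natCast_ne_zero_of_dvd hA ?_)
  have : (Finset.univ.filter fun a : A => a • χ = χ).card = Nat.card (MulAction.stabilizer A χ) := by
    rw [← Fintype.card_subtype, ← Nat.card_eq_fintype_card]; rfl
  rw [this]
  exact card_subgroup_dvd_card _

theorem rho_eq_one_of_wt [IsAlgClosed F] {B : Subgroup G} (hB : (Nat.card B : F) ≠ 0) (hc : ⁅B, B⁆ ≤ ρ.ker)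
    (b : B) (h : ∀ χ : Wt F B, wt ρ χ ≠ ⊥ → χ b = 1) : ρ b = 1 := by
  have := Fintype.ofFinite B
  ext v
  rw [End.one_apply, ← sub_eq_zero]
  refine eq_zero_of_pr (ρ := ρ) hB (fun a ha => by rw [hc ha]; rfl) fun χ => ?_
  rw [map_sub, pr_rho]
  by_cases h0 : wt ρ χ = ⊥
  · rw [show pr ρ χ v = 0 from (Submodule.mem_bot F).1 (h0 ▸ pr_mem χ v), smul_zero, sub_zero]
  · rw [h χ h0]; simp

theorem comm_le_ker_of_wt [IsAlgClosed F] {B P : Subgroup G} [B.Normal] (hB : (Nat.card B : F) ≠ 0)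
    (hc : ⁅B, B⁆ ≤ ρ.ker) (h : ∀ χ : Wt F B, wt ρ χ ≠ ⊥ → ∀ g ∈ P, g • χ = χ) : ⁅P, B⁆ ≤ ρ.ker := fun a ha =>
  rho_eq_one_of_wt hB hc ⟨a, commutator_le_right _ _ ha⟩ fun χ hχ => Wt.apply_eq_one_of_smul_eq (h χ hχ) ha

theorem wt_smul_ne_bot {B : Subgroup G} [B.Normal] {χ : Wt F B} (h : wt ρ χ ≠ ⊥) (g : G) : wt ρ (g • χ) ≠ ⊥ := by
  obtain ⟨v, hv, h0⟩ := (Submodule.ne_bot_iff _).1 h
  exact (Submodule.ne_bot_iff _).2 ⟨_, rho_mem_wt hv g, fun e => h0 (by rw [← rho_inv_rho (ρ := ρ) g v, e, map_zero])⟩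

theorem exists_stab {B A : Subgroup G} [B.Normal] (hB : (Nat.card B : F) ≠ 0) (hA : (Nat.card A : F) ≠ 0)
    (h0 : fix ρ A = ⊥) {χ : Wt F B} (h : wt ρ χ ≠ ⊥) : ∃ a ∈ A, a ≠ 1 ∧ a • χ = χ := by
  by_contra hc
  push Not at hc
  refine h (eq_bot_iff.2 fun u hu => orb hB hA h0 hu fun a ha e => ?_)
  rw [not_not.1 fun e1 => hc a ha e1 e, map_one]; rfl

/-- an abelian group normalised by `A`: a subgroup `D` contained in all nontrivial subgroups of `A` centralises it -/
theorem comm_le_ker_of_min [IsAlgClosed F] {B A D : Subgroup G} (hn : A ≤ normalizer (B : Set G))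
    (hB : (Nat.card B : F) ≠ 0) (hA : (Nat.card A : F) ≠ 0) (h0 : fix ρ A = ⊥) (hc : ⁅B, B⁆ ≤ ρ.ker) (hD : D ≤ A)
    (h : ∀ a ∈ A, a ≠ 1 → D ≤ zpowers a) : ⁅D, B⁆ ≤ ρ.ker := by
  have hn' : B ⊔ A ≤ normalizer (B : Set G) := sup_le le_normalizer hn
  haveI := H9.normal_subgroupOf' hn'
  have h1 := comm_le_ker_of_wt (ρ := ρ.comp (B ⊔ A).subtype) (B := B.subgroupOf (B ⊔ A)) (P := D.subgroupOf _)
    (by rwa [card_subgroupOf le_sup_left]) (by
      rw [← subgroupOf_commutator le_sup_left le_sup_left]; exact fun x hx => hc hx) fun χ hχ g hg => by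
    obtain ⟨a, ha, a1, a2⟩ := exists_stab (A := A.subgroupOf (B ⊔ A)) (by rwa [card_subgroupOf le_sup_left])
      (by rwa [card_subgroupOf le_sup_right]) (by rwa [fix_subgroupOf le_sup_right]) hχ
    obtain ⟨k, hk⟩ := h a ha (fun e => a1 (Subtype.ext e)) hg
    exact (show g = a ^ k from Subtype.ext hk.symm) ▸ (MulAction.stabilizer _ χ).zpow_mem a2 k
  rw [← subgroupOf_commutator (hD.trans le_sup_right) le_sup_left] at h1
  exact fun x hx => h1 (x := ⟨x, (commutator_le_of_le_normalizer (hD.trans hn)).trans le_sup_left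
    (commutator_comm D B ▸ hx)⟩) hx

end

/-- `A` acts coprimely and without fixed points on the solvable normal subgroup `K`. -/
structure Fpa {Γ : Type*} [Group Γ] (A K : Subgroup Γ) : Prop where
  nrm : K.Normal
  sol : Group.IsSolvable K
  cop : (Nat.card A).Coprime (Nat.card K)
  fpf : K ⊓ centralizer (A : Set Γ) = ⊥
  top : K ⊔ A = ⊤

theorem Fpa.quot {Γ : Type*} [Group Γ] [Finite Γ] {A K N : Subgroup Γ} (h : Fpa A K) [N.Normal] (hN : N ≤ K) :
    Fpa (A.map (QuotientGroup.mk' N)) (K.map (QuotientGroup.mk' N)) :=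
  ⟨h.nrm.map _ (QuotientGroup.mk'_surjective N), isSolvable_map _ h.sol,
    (h.cop.coprime_dvd_left (card_map_dvd _ _)).coprime_dvd_right (card_map_dvd _ _),
    by rw [centralizer_map_mk' hN (coprime_of_le_right h.cop hN) (Or.inr (isSolvable_of_le hN h.sol)), h.fpf,
      Subgroup.map_bot],
    by rw [← Subgroup.map_sup, h.top, map_top_of_surjective _ (QuotientGroup.mk'_surjective N)]⟩

/-- a faithful module for `K A` without fixed points of `A`. -/
structure Lin {Γ : Type*} [Group Γ] {F : Type*} [Field F] {W : Type*} [AddCommGroup W] [Module F W]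
    (ρ : Γ →* End F W) (A K : Subgroup Γ) : Prop extends Fpa A K where
  hA : (Nat.card A : F) ≠ 0
  hF : (Nat.card (H9.Fit K) : F) ≠ 0
  ker : K ⊓ ρ.ker = ⊥
  fixA : fix ρ A = ⊥
  irr : ∀ N : Subgroup Γ, N.Normal → N ≤ K → N ≠ ⊥ → fix ρ N = ⊥
  nt : Nontrivial W

theorem fpa_red {A : Type v} [Group A] (𝒳 : ∀ (Δ : Type u) [Group Δ], Subgroup Δ → Prop)
    (core : ∀ (Γ : Type u) [Group Γ] [Finite Γ] (j : A →* Γ) (K : Subgroup Γ) (F : Type) [Field F] [IsAlgClosed F]
      (W : Type u) [AddCommGroup W] [Module F W] [FiniteDimensional F W] (ρ : Γ →* End F W),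
      Function.Injective j → Lin ρ j.range K → 𝒳 Γ K)
    (Γ : Type u) [Group Γ] [Finite Γ] : ∀ (j : A →* Γ) (K : Subgroup Γ), Function.Injective j → Fpa j.range K →
      ∀ X ≤ K, X.Normal → (∀ (Δ : Type u) [Group Δ] (f : Γ →* Δ), 𝒳 Δ (K.map f) → X ≤ f.ker) →
        Group.IsNilpotent X := by
  revert Γ
  apply group_induction
  intro Γ _ _ ih j K hj h X hX hXn hf
  haveI := h.nrm
  have hinj : ∀ (N : Subgroup Γ) [N.Normal], N ≤ K → Function.Injective ((QuotientGroup.mk' N).comp j) :=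
    fun N _ hN => (injective_iff_map_eq_one _).2 fun a ha => hj (((H1.inf_eq_bot_of_coprime h.cop).le
      ⟨⟨a, rfl⟩, hN ((QuotientGroup.eq_one_iff _).1 ha)⟩).trans (map_one j).symm)
  by_cases hK : K = ⊥
  · rw [show X = ⊥ from le_bot_iff.1 (hK ▸ hX)]; infer_instance
  obtain ⟨V, l, hl, v1, v2, v3, v4, v5, v6, v7⟩ := exists_minimal_normal_elementary K h.sol hK
  haveI := Fact.mk hl
  refine isNilpotent_of_map_of_le_centralizer (QuotientGroup.mk' V) (ih _ (card_quotient_lt v2)
    ((QuotientGroup.mk' V).comp j) _ (hinj V v3) (by rw [MonoidHom.range_comp]; exact h.quot v3) _ (map_mono hX)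
    (hXn.map _ (QuotientGroup.mk'_surjective V)) fun Δ _ f h1 => ?_) ?_
  · rw [map_map] at h1
    rintro _ ⟨x, hx, rfl⟩
    exact hf Δ _ h1 hx
  rw [QuotientGroup.ker_mk']
  obtain ⟨W, _, _, _, ρ, r1, r2⟩ := exists_rep_normal (V := V) ⟨v4, v5⟩
  have hlA : ¬ l ∣ Nat.card j.range := fun e => hl.ne_one (Nat.eq_one_of_dvd_coprimes h.cop e
    ((H9.dvd_card_of_isPGroup v6 v2).trans (card_dvd_of_le v3)))
  set N := K ⊓ centralizer (V : Set Γ) with hN
  let σ : Γ ⧸ N →* End (AlgebraicClosure (ZMod l)) W := QuotientGroup.lift N ρ fun x hx => by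
    rw [r1]; exact hx.2
  have hσ : σ.comp (QuotientGroup.mk' N) = ρ := rfl
  have hq := h.quot (N := N) inf_le_left
  have hcm : ∀ Y : Subgroup (Γ ⧸ N), Y ≤ K.map (QuotientGroup.mk' N) → Y.comap (QuotientGroup.mk' N) ≤ K :=
    fun Y hY => (comap_mono hY).trans (by rw [comap_map_eq, QuotientGroup.ker_mk', sup_eq_left.2 inf_le_left])
  have hbot : ∀ Y : Subgroup (Γ ⧸ N), Y ≤ K.map (QuotientGroup.mk' N) →
      Y.comap (QuotientGroup.mk' N) ≤ centralizer (V : Set Γ) → Y = ⊥ := fun Y h1 h2 => by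
    rw [← map_comap_eq_self_of_surjective (QuotientGroup.mk'_surjective N) Y, Subgroup.map_eq_bot_iff,
      QuotientGroup.ker_mk']
    exact le_inf (hcm Y h1) h2
  have hO : ∀ Y : Subgroup (Γ ⧸ N), Y.Normal → Y ≤ K.map (QuotientGroup.mk' N) → IsPGroup l Y → Y = ⊥ :=
    fun Y h1 h2 h3 => hbot Y h2 (le_centralizer_of_isPGroup_map v6 v7 (by
      have h4 := h3.map (QuotientGroup.map N (centralizer (V : Set Γ)) (MonoidHom.id Γ) inf_le_right)
      rw [← map_comap_eq_self_of_surjective (QuotientGroup.mk'_surjective N) Y, map_map] at h4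
      exact h4))
  refine (hf _ (QuotientGroup.mk' N) (core _ ((QuotientGroup.mk' N).comp j) _ _ W σ (hinj N inf_le_left) ?_)).trans
    (by rw [QuotientGroup.ker_mk']; exact inf_le_right)
  rw [MonoidHom.range_comp]
  refine ⟨hq, natCast_ne_zero_closure fun e => hlA (e.trans (card_map_dvd _ _)),
    natCast_ne_zero_closure fun e => ?_, hbot _ inf_le_left fun x hx => r1 ▸ hx.2, ?_, fun Y y1 y2 y3 => ?_, ?_⟩
  · haveI := hq.nrm
    obtain ⟨S, hS⟩ := exists_isSylowIn (p := l) (H9.Fit (K.map (QuotientGroup.mk' N)))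
    exact hS.eq_bot_iff.1 (hO S (normalizer_eq_top_iff.1 (top_le_iff.1 ((H9.normalizer_Fit
      le_normalizer_of_normal).trans (hS.normalizer_le_of_nilpotent (H9.Fit_nil _))))) (hS.le.trans (H9.Fit_le _))
      hS.isPGroup) e
  · rw [fix_map, hσ, r2 _ hlA]
    exact eq_bot_iff.2 ((inf_le_inf_right _ v3).trans h.fpf.le)
  · obtain ⟨Y', q, hq', w1, w2, w3, -, -, w4, -⟩ := exists_minimal_normal_elementary Y
      (isSolvable_of_le y2 hq.sol) y3
    haveI := Fact.mk hq'
    refine eq_bot_iff.2 ((fix_anti w3).trans (le_of_eq ?_))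
    obtain ⟨B, hB⟩ := exists_isSylowIn (p := q) (Y'.comap (QuotientGroup.mk' N))
    have e := (hB.map (QuotientGroup.mk' N)).eq_of_isPGroup
      (by rwa [map_comap_eq_self_of_surjective (QuotientGroup.mk'_surjective N)])
    rw [map_comap_eq_self_of_surjective (QuotientGroup.mk'_surjective N)] at e
    have hql : q ≠ l := by rintro rfl; exact w2 (hO Y' w1 (w3.trans y2) w4)
    rw [← e, fix_map, hσ, r2 B fun hd => hql (isPGroup_iff_isPiNum.1 hB.isPGroup l hl hd).symm]
    have e2 : Y'.comap (QuotientGroup.mk' N) = B ⊔ N := by rw [← e, comap_map_eq, QuotientGroup.ker_mk']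
    have e3 : V ⊓ centralizer (B : Set Γ) = V ⊓ centralizer (Y'.comap (QuotientGroup.mk' N) : Set Γ) := by
      refine le_antisymm (le_inf inf_le_left (le_centralizer_iff.1 ?_)) (inf_le_inf_left _ (centralizer_le hB.le))
      rw [e2]
      exact sup_le (le_centralizer_iff.1 inf_le_right) (inf_le_right.trans (centralizer_le inf_le_left))
    rw [e3]
    refine (v7 _ inferInstance inf_le_left).resolve_right fun e4 => w2 (hbot Y' (w3.trans y2) ?_)
    exact le_centralizer_iff.1 (inf_eq_left.1 e4)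
  · by_contra hW
    rw [not_nontrivial_iff_subsingleton] at hW
    have := (r2 ⊥ (by rw [card_bot]; exact hl.not_dvd_one)).1 (Subsingleton.elim _ _)
    exact v2 (by rwa [inf_eq_left.2 (le_centralizer_iff.1 bot_le)] at this)

/-- if `D` centralises the Fitting subgroup then it centralises `K`. -/
theorem le_centralizer_of_Fit {Γ : Type*} [Group Γ] [Finite Γ] {D K : Subgroup Γ} (hs : Group.IsSolvable K)
    (hn : D ≤ normalizer (K : Set Γ)) (hc : (Nat.card D).Coprime (Nat.card K))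
    (h : D ≤ centralizer (H9.Fit K : Set Γ)) : D ≤ centralizer (K : Set Γ) := by
  refine le_centralizer_of_section (N := H9.Fit K) ((le_inf (commutator_le_of_le_normalizer hn) ?_).trans
    (H9.centralizer_Fit_le_of_solvable hs)) h (coprime_of_le_right hc (H9.Fit_le K))
  refine (commutator_mono le_rfl h).trans ?_
  rw [commutator_comm]
  exact commutator_le_of_le_normalizer (le_normalizer_centralizer (H9.le_normalizer_Fit K))

theorem core_four {Γ : Type*} [Group Γ] [Finite Γ] {F : Type*} [Field F] [IsAlgClosed F] {W : Type*}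
    [AddCommGroup W] [Module F W] {ρ : Γ →* End F W} {K : Subgroup Γ} {s : Γ} (hs : s ^ 4 = 1)
    (h : Lin ρ (zpowers s) K) : IsMulCommutative K := by
  haveI := h.nrm
  have hD : zpowers (s * s) ≤ zpowers s := zpowers_le.2 (mul_mem (mem_zpowers s) (mem_zpowers s))
  have h4 : s * s * (s * s) = 1 := by rw [← hs]; simp only [pow_succ, pow_zero, one_mul, mul_assoc]
  have hfp : K ⊓ centralizer {s} = ⊥ := by rw [← centralizer_zpowers]; exact h.fpf
  have key : ∀ X ≤ H9.Fit K, zpowers s ≤ normalizer (X : Set Γ) → X ≤ centralizer (zpowers (s * s) : Set Γ) := by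
    intro X
    induction X using WellFoundedLT.induction with | ind X ih
    intro hX hn
    have hXK := hX.trans (H9.Fit_le K)
    by_contra hne
    obtain ⟨⟨q, hq, hXq⟩, h1, h2, h3⟩ := min_action hD hn (le_normalizer_of_le_centralizer
      ((le_centralizer _).trans (centralizer_le hD))) ⟨coprime_of_le_right h.cop hXK, Or.inl (isSolvable_zpowers s)⟩
      (fun Y hY => ih Y hY (hY.le.trans hX)) hne
    haveI := Fact.mk hq
    suffices ⁅X, X⁆ = ⊥ by
      have h5 := comm_le_ker_of_min hn (natCast_ne_zero_of_dvd h.hF (card_dvd_of_le hX)) h.hA h.fixA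
        (this.le.trans bot_le) hD fun a ha a1 => ?_
      · rw [commutator_comm, h1] at h5
        exact hne (((le_inf hXK h5).trans h.ker.le).trans bot_le)
      · obtain ⟨k, rfl⟩ := mem_powers_iff_mem_zpowers.2 ha
        simp only at a1 ⊢
        rw [← Nat.div_add_mod k 4, pow_add, pow_mul, hs, one_pow, one_mul] at a1 ⊢
        rw [zpowers_le]
        have : k % 4 = 0 ∨ k % 4 = 1 ∨ k % 4 = 2 ∨ k % 4 = 3 := by omega
        rcases this with e | e | e | e <;> rw [e] at a1 ⊢
        · simp at a1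
        · rw [pow_one]; exact mul_mem (mem_zpowers s) (mem_zpowers s)
        · rw [pow_two]; exact mem_zpowers _
        · rw [show s * s = s ^ 3 * s ^ 3 by rw [← pow_add, show 3 + 3 = 4 + 2 from rfl, pow_add s 4 2, hs,
            one_mul, pow_two]]
          exact mul_mem (mem_zpowers _) (mem_zpowers _)
    have hX0 : X ≠ ⊥ := fun e => hne (e ▸ bot_le)
    have hlt := H9.commutator_lt_of_p hXq hXq le_normalizer hX0
    obtain ⟨x, x1, x2, x3⟩ : ∃ x ∈ X, x ∉ ⁅X, X⁆ ∧ s * s * x * (s * s)⁻¹ = x⁻¹ := by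
      by_contra hc
      push Not at hc
      refine hlt.not_ge (h1.ge.trans (commutator_le.2 fun y hy t ht => ?_))
      rcases (show t = 1 ∨ t = s * s by
        obtain ⟨k, rfl⟩ := ht
        rcases Int.even_or_odd' k with ⟨i, rfl | rfl⟩
        · left; simp only; rw [zpow_mul, zpow_two, h4, one_zpow]
        · right; simp only; rw [zpow_add_one, zpow_mul, zpow_two, h4, one_zpow, one_mul]) with rfl | rfl
      · simp
      · by_contra hy'
        refine hc _ (h1.le (commutator_mem_commutator hy ht)) hy' ?_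
        generalize s * s = t at h4
        have : t * ⁅y, t⁆ * t⁻¹ = t * y * t * y⁻¹ * (t * t)⁻¹ := by rw [commutatorElement_def]; group
        rw [this, h4, inv_one, mul_one, commutatorElement_inv, commutatorElement_def,
          inv_eq_of_mul_eq_one_left h4]
    have hsx := conj_mem_of_mem_normalizer (hn (mem_zpowers s)) x1
    have hY : zpowers x ⊔ zpowers (s * x * s⁻¹) = X := by
      by_contra hc
      refine x2 (h3 _ (lt_of_le_of_ne (sup_le (zpowers_le.2 x1) (zpowers_le.2 hsx)) hc) ?_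
        (mem_sup_left (mem_zpowers x)))
      rw [zpowers_le, ← conj_smul_eq_self_iff, smul_sup, conj_smul_eq_map, conj_smul_eq_map,
        MonoidHom.map_zpowers, MonoidHom.map_zpowers, sup_comm]
      congr 1
      rw [← zpowers_inv (g := x), ← x3]
      congr 1
      simp [mul_assoc]
    have hc := commutator_mem_commutator x1 hsx
    have hcen : ∀ y ∈ X, y * ⁅x, s * x * s⁻¹⁆ = ⁅x, s * x * s⁻¹⁆ * y := fun y hy => h2 hc y (mem_sup_left hy)
    have h5 : ⁅x, s * x * s⁻¹⁆ = 1 := by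
      refine hfp.le ⟨hXK (hlt.le hc), mem_centralizer_singleton_iff.2 ?_⟩
      have e : s * ⁅x, s * x * s⁻¹⁆ * s⁻¹ = x⁻¹ * (⁅x, s * x * s⁻¹⁆ * x) := by
        have : s * ⁅x, s * x * s⁻¹⁆ * s⁻¹ = (s * x * s⁻¹) * (s * s * x * (s * s)⁻¹) * (s * x * s⁻¹)⁻¹ *
          (s * s * x * (s * s)⁻¹)⁻¹ := by rw [commutatorElement_def]; group
        rw [this, x3, commutatorElement_def]
        group
      rw [← hcen x x1, inv_mul_cancel_left] at e
      exact (mul_inv_eq_iff_eq_mul.1 e).symm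
    rw [← hY, commutator_eq_bot_iff_le_centralizer]
    have h6 : zpowers x ≤ centralizer (zpowers (s * x * s⁻¹) : Set Γ) := by
      rw [centralizer_zpowers, zpowers_le, mem_centralizer_singleton_iff]
      exact commutatorElement_eq_one_iff_mul_comm.1 h5
    exact sup_le (le_centralizer_iff.1 (sup_le (le_centralizer _) (le_centralizer_iff.1 h6)))
      (le_centralizer_iff.1 (sup_le h6 (le_centralizer _)))
  have h1 := le_centralizer_of_Fit h.sol le_normalizer_of_normal (coprime_of_le_left h.cop hD)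
    (le_centralizer_iff.1 (key _ le_rfl (H9.normalizer_Fit le_normalizer_of_normal)))
  exact isMulCommutative_of_conj_eq_inv fun k hk =>
    conj_eq_inv_of_fpf (le_normalizer_of_normal (mem_top s)) hfp (h1 (mem_zpowers _)) hk

end H1
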