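import Cfsg.Agent.H1.Fpa

/-! H1.Fpa2: fixed point free actions of the symmetric group of degree three. -/

open Pointwise Cfsg Module Subgroup
open scoped commutatorElement

namespace H1

universe u v

section
variable {F : Type*} [Field F] {V : Type*} [AddCommGroup V] [Module F V] {G : Type*} [Group G] [Finite G]
  {ρ : G →* End F V}

theorem lin3_4_sub [IsAlgClosed F] [FiniteDimensional F V] {K R : Subgroup G} (U : Submodule F V)
    (hU : ∀ g ∈ K ⊔ R, ∀ u ∈ U, ρ g u ∈ U) (hn : R ≤ normalizer (K : Set G)) (hR : (Nat.card R).Prime)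
    (hc : (Nat.card R).Coprime (Nat.card K)) (hK : (Nat.card K : F) ≠ 0) (hR' : (Nat.card R : F) ≠ 0)
    (h0 : ∀ u ∈ U, u ∈ fix ρ R → u = 0) (he : 2 ∣ Nat.card K → (∃ n, Nat.card R = 2 ^ n + 1) → IsMulCommutative K) :
    ∀ g ∈ ⁅K, R⁆, ∀ u ∈ U, ρ g u = u := by
  have hU' : ∀ g : (K ⊔ R : Subgroup G), ∀ u ∈ U, (ρ.comp (K ⊔ R).subtype) g u ∈ U := fun g => hU g g.2
  have e1 := card_subgroupOf (le_sup_left : K ≤ K ⊔ R)
  have e2 := card_subgroupOf (le_sup_right : R ≤ K ⊔ R)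
  have := lin3_4 (ρ := sub _ U hU') (K := K.subgroupOf (K ⊔ R)) (R := R.subgroupOf (K ⊔ R))
    (le_normalizer_subgroupOf _ hn) (e2 ▸ hR) (e1 ▸ e2 ▸ hc) (e1 ▸ hK) (e2 ▸ hR')
    (eq_bot_iff.2 fun u hu => Subtype.ext (h0 u u.2 (by
      rw [mem_fix_sub, fix_subgroupOf le_sup_right] at hu; exact hu)))
    (fun h1 h2 => by
      have := he (e1 ▸ h1) (e2 ▸ h2)
      exact isMulCommutative_of_comm fun x hx y hy => Subtype.ext (comm_of_mem this hx hy))
  rw [← subgroupOf_commutator le_sup_left le_sup_right] at this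
  intro g hg u hu
  have h1 := this (x := ⟨g, mem_sup_left (commutator_le_of_le_normalizer hn hg)⟩) hg
  exact congrArg Subtype.val (LinearMap.congr_fun h1 ⟨u, hu⟩)

theorem rho_eq_one_of_wt' [IsAlgClosed F] {B : Subgroup G} (hB : (Nat.card B : F) ≠ 0) (hc : ⁅B, B⁆ ≤ ρ.ker)
    {g : G} (hg : g ∈ centralizer (B : Set G)) (h : ∀ χ : Wt F B, ∀ v ∈ wt ρ χ, ρ g v = v) : ρ g = 1 := by
  by_contra hne
  obtain ⟨χ, v, hv, h1 | ⟨a, ha, h1⟩⟩ := exists_wt_ne_bot hB hc hne
  · exact h1 (h χ v hv)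
  · exact h1 (by rw [← map_mul, ← map_mul, hg a ha])

omit [Finite G] in
theorem smul_wt_of_centralizer {B : Subgroup G} [B.Normal] {g : G} (hg : g ∈ centralizer (B : Set G))
    (χ : Wt F B) : g • χ = χ := Wt.ext fun a => by
  rw [Wt.smul_apply]
  congr 1
  exact Subtype.ext (by simp only; rw [mul_assoc, hg a a.2, inv_mul_cancel_left])

/-- the elements fixing all translates of `v` under `K` -/
def fixK (ρ : G →* End F V) (K : Subgroup G) (v : V) : Subgroup G where
  carrier := {g | ∀ k ∈ K, ρ g (ρ k v) = ρ k v}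
  one_mem' := fun k _ => by simp
  mul_mem' := fun {x y} hx hy k hk => by rw [rho_mul, hy k hk, hx k hk]
  inv_mem' := fun {x} hx k hk => by rw [← hx k hk, rho_inv_rho, hx k hk]

end

theorem comm_sup_le' {G : Type*} [Group G] {A B C N : Subgroup G} (hA : A ≤ normalizer (N : Set G))
    (hB : B ≤ normalizer (N : Set G)) (h1 : ⁅C, A⁆ ≤ N) (h2 : ⁅C, B⁆ ≤ N) : ⁅C, A ⊔ B⁆ ≤ N := by
  rw [commutator_comm] at h1 h2 ⊢
  exact H9.commutator_sup_le hA hB h1 h2

variable {Γ : Type*} [Group Γ] [Finite Γ]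

theorem Fpa.commutator_eq {A K : Subgroup Γ} (h : Fpa A K) : ⁅K, A⁆ = K := by
  haveI := h.nrm
  have := commutator_sup_centralizer (A := A) (K := K) le_normalizer_of_normal h.cop (Or.inr h.sol)
  rwa [h.fpf, sup_bot_eq] at this

theorem Fpa.commutator_eq' {A K B : Subgroup Γ} (h : Fpa A K) (hB : B ≤ K) (hn : A ≤ normalizer (B : Set Γ)) :
    ⁅B, A⁆ = B := by
  have := commutator_sup_centralizer hn (coprime_of_le_right h.cop hB) (Or.inr (isSolvable_of_le hB h.sol))
  rwa [eq_bot_iff.2 ((inf_le_inf_right _ hB).trans h.fpf.le), sup_bot_eq] at this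

theorem Fpa.inverts {A K : Subgroup Γ} (h : Fpa A K) {f t : Γ} (hA : A ≤ zpowers t ⊔ zpowers f)
    (h1 : t * f * t⁻¹ = f⁻¹) (h2 : t * t = 1) {k : Γ} (hk : k ∈ K ⊓ centralizer {f}) : t * k * t⁻¹ = k⁻¹ := by
  haveI := h.nrm
  refine conj_eq_inv_of_fpf (le_normalizer_inf le_normalizer_of_normal ?_ (mem_zpowers t)) ?_
    (h2 ▸ one_mem _) hk
  · rw [← centralizer_zpowers]
    refine le_normalizer_centralizer (zpowers_le.2 (conj_smul_eq_self_iff.1 ?_))
    rw [conj_smul_eq_map, MonoidHom.map_zpowers, ← zpowers_inv (g := f), ← h1]; rfl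
  · refine eq_bot_iff.2 fun x hx => h.fpf.le ⟨hx.1.1, centralizer_le hA (le_centralizer_iff.1 (sup_le ?_ ?_)
      (mem_zpowers x))⟩ <;> rw [centralizer_zpowers, zpowers_le, mem_centralizer_singleton_iff]
    · exact (mem_centralizer_singleton_iff.1 hx.2).symm
    · exact (mem_centralizer_singleton_iff.1 hx.1.2).symm

theorem Fpa.derived_le {A K : Subgroup Γ} (h : Fpa A K) {f t : Γ} (hf : f ∈ A) (ht : t ∈ A)
    (hA : A ≤ zpowers t ⊔ zpowers f) (h1 : t * f * t⁻¹ = f⁻¹) (h2 : t * t = 1) (h3 : f * f * f = 1)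
    (ho : (Nat.card K).Coprime 2) : ⁅K, K⁆ ≤ ⁅K, zpowers t⁆ := by
  haveI := h.nrm
  have hM : ∀ g : Γ, MulAut.conj g • ⁅K, zpowers t⁆ = ⁅K, zpowers (g * t * g⁻¹)⁆ := fun g => by
    rw [conj_smul_eq_map, map_commutator, MonoidHom.map_zpowers, ← conj_smul_eq_map,
      conj_smul_eq_self_iff.2 (le_normalizer_of_normal (mem_top g))]; rfl
  have hMK : ∀ g : Γ, ⁅K, zpowers g⁆ ≤ K := fun g => commutator_le_left _ _
  have hMn : ∀ g : Γ, K ≤ normalizer ((⁅K, zpowers g⁆ : Subgroup Γ) : Set Γ) := fun g =>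
    normalizer_commutator_ge_left _ _
  set M := ⁅K, zpowers t⁆ with hMd
  have ht' : t ∈ normalizer (M : Set Γ) := normalizer_commutator_ge_right _ _ (mem_zpowers t)
  have htf : t * f = f⁻¹ * t := mul_inv_eq_iff_eq_mul.1 h1
  have hff : f * f = f⁻¹ := eq_inv_of_mul_eq_one_left h3
  have hsup : ∀ g : Γ, f ∈ zpowers t ⊔ zpowers (g * t * g⁻¹) → M ⊔ MulAut.conj g • M = K := fun g hg => by
    refine le_antisymm (sup_le (hMK _) (hM g ▸ hMK _)) (h.commutator_eq.ge.trans ((commutator_mono le_rfl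
      (hA.trans (sup_le le_sup_left (zpowers_le.2 hg)))).trans ?_))
    have hn : ∀ s : Γ, ⁅K, zpowers s⁆ ≤ M ⊔ MulAut.conj g • M →
        zpowers s ≤ normalizer ((M ⊔ MulAut.conj g • M : Subgroup Γ) : Set Γ) := fun s hs =>
      H9.le_normalizer_of_commutator_le hs (sup_le (hMK _) (hM g ▸ hMK _))
    exact comm_sup_le' (hn _ le_sup_left) (hn _ (hM g ▸ le_sup_right)) le_sup_left (hM g ▸ le_sup_right)
  have e1 := hsup f (by
    have : f = (f * t * f⁻¹ * t) ^ 2 := by
      rw [mul_assoc (f * t), ← htf, ← mul_assoc, mul_assoc f, h2, mul_one, pow_two, hff, ← mul_inv_rev, hff, inv_inv]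
    exact (congrArg (· ∈ _) this).mpr
      (pow_mem (mul_mem (mem_sup_right (mem_zpowers _)) (mem_sup_left (mem_zpowers _))) 2))
  have e2 := hsup f⁻¹ (by
    have : f = f⁻¹ * t * f⁻¹⁻¹ * t := by
      rw [inv_inv, mul_assoc f⁻¹, htf, mul_assoc, mul_assoc, h2, mul_one, ← mul_inv_rev, hff, inv_inv]
    exact (congrArg (· ∈ _) this).mpr (mul_mem (mem_sup_right (mem_zpowers _)) (mem_sup_left (mem_zpowers _))))
  set M1 := MulAut.conj f • M with hM1
  set M2 := MulAut.conj f⁻¹ • M with hM2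
  have n0 : K ≤ normalizer (M : Set Γ) := hMn _
  have n1 : K ≤ normalizer (M1 : Set Γ) := by rw [hM1, hM]; exact hMn _
  have n2 : K ≤ normalizer (M2 : Set Γ) := by rw [hM2, hM]; exact hMn _
  have l1 : M1 ≤ K := e1 ▸ le_sup_right
  have l2 : M2 ≤ K := e2 ▸ le_sup_right
  have c1 : MulAut.conj f • M1 = M2 := by rw [hM1, conj_smul_conj_smul, hff]
  have c2 : MulAut.conj f • M2 = M := conj_smul_inv_smul _ _
  have key : M1 ⊓ M2 ≤ M := by
    haveI : (M ⊓ (M1 ⊓ M2)).Normal := by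
      rw [← normalizer_eq_top_iff, eq_top_iff, ← h.top]
      refine sup_le (le_normalizer_inf n0 (le_normalizer_inf n1 n2)) (hA.trans (sup_le ?_ ?_)) <;>
        rw [zpowers_le, ← conj_smul_eq_self_iff, smul_inf, smul_inf]
      · rw [conj_smul_eq_self_iff.2 ht', hM1, hM2, conj_smul_conj_smul, conj_smul_conj_smul, htf,
          show t * f⁻¹ = f * t by rw [← hff, ← mul_assoc, htf, mul_assoc, htf, ← mul_assoc, ← mul_inv_rev, hff,
            inv_inv], ← conj_smul_conj_smul, ← conj_smul_conj_smul, conj_smul_eq_self_iff.2 ht', inf_comm M1]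
      · rw [c1, c2, ← hM1, inf_comm M2, inf_left_comm]
    intro w hw
    have w1 : f * w * f⁻¹ ∈ M := c2 ▸ conj_mem_conj_smul hw.2
    have w2 : f⁻¹ * w * f⁻¹⁻¹ ∈ M := conj_inv_smul_smul f M ▸ conj_mem_conj_smul hw.1
    have hu := mul_mem w1 w2
    set u := f * w * f⁻¹ * (f⁻¹ * w * f⁻¹⁻¹) with hud
    have hwK := l1 hw.1
    have hy : w * u ∈ K := mul_mem hwK (hMK _ hu)
    have h4 := (h.quot (N := M ⊓ (M1 ⊓ M2)) (inf_le_left.trans (hMK _))).inverts
      (f := QuotientGroup.mk' _ f) (t := QuotientGroup.mk' _ t) (by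
        rw [← MonoidHom.map_zpowers, ← MonoidHom.map_zpowers, ← Subgroup.map_sup]; exact map_mono hA)
      (by rw [← map_inv, ← map_mul, ← map_mul, h1, map_inv]) (by rw [← map_mul, h2, map_one])
      (k := QuotientGroup.mk' _ (w * u)) ⟨mem_map_of_mem _ hy, mem_centralizer_singleton_iff.2 (by
        rw [← map_mul, ← map_mul, QuotientGroup.mk'_apply, QuotientGroup.mk'_apply, QuotientGroup.eq]
        have : (w * u * f)⁻¹ * (f * (w * u)) = f⁻¹ * ⁅u⁻¹, w⁻¹⁆ * f⁻¹⁻¹ := by
          have e : f * (w * u) = u * w * f := by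
            have : f * (w * u) = f * w * f⁻¹ * ((f * f) * w * (f * f)⁻¹) * w * f := by rw [hud]; group
            rw [this, hff]
          rw [e, commutatorElement_def]; group
        rw [this]
        refine Normal.conj_mem inferInstance _ (mem_inf.2 ⟨commutator_le_of_le_normalizer n0
          (commutator_mem_commutator (inv_mem hu) (inv_mem hwK)), ?_⟩) _
        have := commutator_le_of_le_normalizer (le_normalizer_inf n1 n2)
          (commutator_mem_commutator (inv_mem hw) (inv_mem (hMK _ hu)))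
        rwa [← inv_mem_iff, commutatorElement_inv] at this)⟩
    rw [← map_inv, ← map_inv, ← map_mul, ← map_mul, QuotientGroup.mk'_apply, QuotientGroup.mk'_apply,
      QuotientGroup.eq] at h4
    have h5 : (w * u) ^ 2 ∈ M := by
      have h6 := mul_mem (commutator_mem_commutator hy (mem_zpowers t) : _ ∈ M) (inv_mem h4.1)
      have h7 := conj_mem_of_mem_normalizer' (n0 hy) (inv_mem h4.1)
      have : (w * u) ^ 2 = ⁅w * u, t⁆ * ((w * u)⁻¹ * ((t * (w * u) * t⁻¹)⁻¹ * (w * u)⁻¹)⁻¹ * (w * u)) := by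
        rw [pow_two, commutatorElement_def]; group
      rw [this]
      exact mul_mem (commutator_mem_commutator hy (mem_zpowers t)) h7
    have h6 : w * u ∈ M := zpowers_le.2 h5 (mem_zpowers_pow_iff.2
      (Nat.Coprime.coprime_dvd_left (orderOf_dvd_card_of_mem hy) ho).symm)
    exact (M.mul_mem_cancel_right hu).1 h6
  have k1 : ⁅M1, K⁆ ≤ M := by
    rw [← e2]
    refine comm_sup_le' le_normalizer (l2.trans n0) ?_ ((le_inf
      (commutator_le_of_le_normalizer (l2.trans n1)) ?_).trans key) <;> rw [commutator_comm]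
    · exact commutator_le_of_le_normalizer (l1.trans n0)
    · exact commutator_le_of_le_normalizer (l1.trans n2)
  nth_rewrite 1 [← e1]
  exact H9.commutator_sup_le le_normalizer (l1.trans n0) (commutator_le_of_le_normalizer n0) k1

theorem core_s3 {F : Type*} [Field F] [IsAlgClosed F] {W : Type*} [AddCommGroup W] [Module F W]
    [FiniteDimensional F W] {ρ : Γ →* End F W} {A K : Subgroup Γ} (h : Lin ρ A K) {f : Γ} (hf : f ∈ A)
    (h3 : orderOf f = 3) (ho : (Nat.card K).Coprime 2)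
    (hS : ∀ a ∈ A, a ≠ 1 → (f ∈ zpowers a ∧ a ∈ zpowers f) ∨ (a * a = 1 ∧ a * f * a⁻¹ = f⁻¹ ∧
      ∀ b ∈ A, b ≠ 1 → b ≠ a → A ≤ zpowers a ⊔ zpowers b)) (hA : ¬ A ≤ zpowers f) : IsMulCommutative K := by
  haveI := h.nrm
  have hf1 : f ≠ 1 := fun e => by simp [e] at h3
  have hf3 : f * f * f = 1 := by rw [← pow_orderOf_eq_one f, h3]; simp only [pow_succ, pow_zero, one_mul]
  by_cases hK : ⁅K, K⁆ = ⊥
  · exact le_centralizer_iff_isMulCommutative.1 (commutator_eq_bot_iff_le_centralizer.1 hK)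
  exfalso
  haveI : (H9.Fit K).Normal := normalizer_eq_top_iff.1 (top_le_iff.1 (H9.normalizer_Fit le_normalizer_of_normal))
  set B := H9.Fit K ⊓ centralizer (H9.Fit K : Set Γ) with hB
  have hBK : B ≤ K := inf_le_left.trans (H9.Fit_le K)
  have hB1 : (Nat.card B : F) ≠ 0 := natCast_ne_zero_of_dvd h.hF (card_dvd_of_le inf_le_left)
  have hB2 : ⁅B, B⁆ ≤ ρ.ker := (commutator_eq_bot_iff_le_centralizer.2
    (inf_le_right.trans (centralizer_le inf_le_left))).le.trans bot_le
  have hB0 : B ≠ ⊥ := by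
    refine nilpotent_inf_centralizer_ne_bot (H9.Fit_nil K) le_rfl le_normalizer fun e => hK ?_
    have := H9.centralizer_Fit_le_of_solvable h.sol
    rw [e, inf_eq_left.2 (le_centralizer_iff.1 bot_le), le_bot_iff] at this
    rw [this, commutator_bot_left]
  have hnA : ∀ χ : Wt F B, wt ρ χ ≠ ⊥ → ¬ A ≤ MulAction.stabilizer Γ χ := fun χ h1 h2 => by
    have : χ = 1 := Wt.ext fun a => Wt.apply_eq_one_of_smul_eq (P := A) h2 (by
      rw [commutator_comm, h.commutator_eq' hBK le_normalizer_of_normal]; exact a.2)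
    exact h1 (by rw [this, wt_one, h.irr B inferInstance hBK hB0])
  by_cases hc : ∀ χ : Wt F B, wt ρ χ ≠ ⊥ → f • χ = χ
  · have hfA := zpowers_le.2 hf
    have h1 : ⁅H9.Fit K, zpowers f⁆ ≤ ρ.ker := fun g hg => rho_eq_one_of_wt' hB1 hB2
      (le_centralizer_iff.1 inf_le_right (commutator_le_left _ _ hg)) fun χ v hv => by
      by_cases h0 : wt ρ χ = ⊥
      · rw [show v = 0 from (Submodule.mem_bot F).1 (h0 ▸ hv), map_zero]
      have h2 : H9.Fit K ⊔ zpowers f ≤ MulAction.stabilizer Γ χ := sup_le (fun x hx =>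
        smul_wt_of_centralizer (le_centralizer_iff.1 inf_le_right hx) χ) (zpowers_le.2 (hc χ h0))
      refine lin3_4_sub (wt ρ χ) (fun x hx u hu => (h2 hx : x • χ = χ) ▸ rho_mem_wt hu x) le_normalizer_of_normal
        (by rw [Nat.card_zpowers, h3]; norm_num) (coprime_of_le_left (coprime_of_le_right h.cop (H9.Fit_le K)) hfA)
        h.hF (natCast_ne_zero_of_dvd h.hA (card_dvd_of_le hfA)) (fun u hu hu' => orb hB1 h.hA h.fixA hu
          fun a ha e => hu' a ?_) (fun e => absurd (Nat.eq_one_of_dvd_coprimes ho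
            (e.trans (card_dvd_of_le (H9.Fit_le K))) dvd_rfl) (by norm_num)) g hg v hv
      by_contra hne
      have ha1 : a ≠ 1 := fun e => hne (e ▸ one_mem _)
      rcases hS a ha ha1 with h4 | ⟨-, -, h4⟩
      · exact hne h4.2
      · exact hnA χ h0 ((h4 f hf hf1 fun e => hne (e ▸ mem_zpowers f)).trans
          (sup_le (zpowers_le.2 e) (zpowers_le.2 (hc χ h0))))
    have h2 := le_centralizer_of_Fit h.sol le_normalizer_of_normal (coprime_of_le_left h.cop hfA)
      (le_centralizer_iff.1 (commutator_eq_bot_iff_le_centralizer.1 (eq_bot_iff.2 ((le_inf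
        ((commutator_le_left _ _).trans (H9.Fit_le K)) h1).trans h.ker.le))))
    obtain ⟨t, ht, ht'⟩ := SetLike.not_le_iff_exists.1 hA
    obtain ⟨s1, s2, s3⟩ := (hS t ht fun e => ht' (e ▸ one_mem _)).resolve_left fun e => ht' e.2
    haveI := isMulCommutative_of_conj_eq_inv fun k hk => h.inverts (s3 f hf hf1 fun e => ht' (e ▸ mem_zpowers f))
      s2 s1 (k := k) ⟨hk, mem_centralizer_singleton_iff.2 (h2 (mem_zpowers f) k hk)⟩
    exact hK (commutator_eq_bot_iff_le_centralizer.2 (le_centralizer K))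
  push Not at hc
  obtain ⟨χ, h0, hc⟩ := hc
  obtain ⟨t, ht, t1, t2⟩ := exists_stab hB1 h.hA h.fixA h0
  obtain ⟨s1, s2, s3⟩ := (hS t ht t1).resolve_left fun e =>
    hc ((zpowers_le (H := MulAction.stabilizer Γ χ)).2 t2 e.1)
  have hD : ∀ k ∈ K, ∀ a ∈ A, a • k • χ = k • χ → a = 1 ∨ a = t := fun k hk a ha e => by
    by_contra hne
    push Not at hne
    have h1 : A ≤ K ⊔ MulAction.stabilizer Γ χ := (s3 a ha hne.1 hne.2).trans (sup_le
      (zpowers_le.2 (mem_sup_right t2)) (zpowers_le.2 (by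
        have : a = k * (k⁻¹ * a * k) * k⁻¹ := by group
        rw [this]
        refine mul_mem (mul_mem (mem_sup_left hk) (mem_sup_right ?_)) (mem_sup_left (inv_mem hk))
        rw [MulAction.mem_stabilizer_iff, mul_smul, mul_smul, e, inv_smul_smul])))
    obtain ⟨n, -, hn⟩ := glauberman (MulAction.stabilizer Γ χ) (B := A) (N := K) le_normalizer_of_normal h.cop
      (Or.inr h.sol) fun b hb => by
        obtain ⟨y, hy, z, hz, e⟩ := (mem_sup_of_le_normalizer_left le_normalizer_of_normal).1 (h1 hb)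
        exact ⟨y, hy, z, hz, e.symm⟩
    refine hnA _ (wt_smul_ne_bot h0 n⁻¹) fun b hb => ?_
    have := hn (conj_mem_conj_smul hb)
    rw [MulAction.mem_stabilizer_iff, mul_smul, mul_smul, smul_eq_iff_eq_inv_smul] at this
    exact this
  have hneg : ∀ k ∈ K, ∀ u ∈ wt ρ (k • χ), ρ t u = -u := fun k hk u hu => by
    obtain ⟨a, ha, a1, a2⟩ := exists_stab hB1 h.hA h.fixA (wt_smul_ne_bot h0 k)
    rw [(hD k hk a ha a2).resolve_left a1] at a2
    refine eq_neg_of_add_eq_zero_left (orb hB1 h.hA h.fixA (add_mem (a2 ▸ rho_mem_wt hu t) hu) fun b hb e => ?_)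
    rcases hD k hk b hb e with rfl | rfl
    · simp
    · rw [map_add, ← rho_mul, s1, map_one, add_comm]; rfl
  obtain ⟨v, hv, hv0⟩ := (Submodule.ne_bot_iff _).1 h0
  have h1 : ⁅K, zpowers t⁆ ≤ fixK ρ K v := commutator_le.2 fun k hk s hs x hx => by
    have ht2 : orderOf t = 2 := two_of s1 t1
    rcases (mem_zpowers_two ht2).1 hs with rfl | rfl
    · simp
    · rw [commutatorElement_def, two_inv ht2, rho_mul, rho_mul, rho_mul, hneg x hx _ (rho_mem_wt hv x), map_neg,
        ← rho_mul k⁻¹, map_neg, hneg _ (mul_mem (inv_mem hk) hx) _ (rho_mem_wt hv _), neg_neg, ← rho_mul,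
        mul_inv_cancel_left]
  have h2 := (h.derived_le hf ht (s3 f hf hf1 fun e => hc (e ▸ t2)) s2 s1 hf3 ho).trans h1
  refine hv0 ((h.irr _ inferInstance (commutator_le_left _ _) hK).le fun g hg => ?_)
  simpa using h2 hg 1 K.one_mem

end H1
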