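import Cfsg.Agent.H1.Fpa2

/-! H1.HB1: linear algebra for Hall-Higman's Theorem B: centralizers of nilpotent maps, blocks. -/

open Cfsg Module Subgroup
open scoped commutatorElement

namespace H1

universe u v

variable {F : Type*} [Field F] {V : Type*} [AddCommGroup V] [Module F V]

/-- endomorphisms commuting with `T` -/
def cen (T : End F V) : Submodule F (End F V) where
  carrier := {f | T * f = f * T}
  add_mem' := fun {a b} (ha : T * a = a * T) (hb : T * b = b * T) => show T * (a + b) = (a + b) * T by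
    rw [mul_add, add_mul, ha, hb]
  zero_mem' := show T * 0 = 0 * T by simp
  smul_mem' := fun c a (ha : T * a = a * T) => show T * (c • a) = (c • a) * T by
    rw [mul_smul_comm, smul_mul_assoc, ha]

theorem mem_cen {T f : End F V} : f ∈ cen T ↔ T * f = f * T := Iff.rfl

theorem cen_sub_one (T : End F V) : cen (T - 1) = cen T := Submodule.ext fun f => by
  rw [mem_cen, mem_cen, sub_mul, mul_sub, one_mul, mul_one, sub_left_inj]

theorem cen_step {U : Type*} [AddCommGroup U] [Module F U] [FiniteDimensional F U] [FiniteDimensional F V]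
    (ι : U →ₗ[F] V) (τ : V →ₗ[F] U) (hι : Function.Injective ι) (hτ : Function.Surjective τ) :
    finrank F (cen (τ ∘ₗ ι)) + finrank F (LinearMap.ker τ) ^ 2 ≤ finrank F (cen (ι ∘ₗ τ)) := by
  obtain ⟨π, hπ⟩ := ι.exists_leftInverse_of_injective (LinearMap.ker_eq_bot.2 hι)
  obtain ⟨σ, hσ⟩ := τ.exists_rightInverse_of_surjective (LinearMap.range_eq_top.2 hτ)
  have h1 : ∀ w, π (ι w) = w := fun w => LinearMap.congr_fun hπ w
  have h2 : ∀ w, τ (σ w) = w := fun w => LinearMap.congr_fun hσ w
  have h3 : ∀ w, (LinearMap.range ι).mkQ (ι w) = 0 := fun w => (Submodule.Quotient.mk_eq_zero _).2 ⟨w, rfl⟩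
  let Ψ : (cen (τ ∘ₗ ι) × ((V ⧸ LinearMap.range ι) →ₗ[F] LinearMap.ker τ)) →ₗ[F] cen (ι ∘ₗ τ) :=
    { toFun := fun a => ⟨ι ∘ₗ a.1.1 ∘ₗ π + σ ∘ₗ a.1.1 ∘ₗ τ ∘ₗ (1 - ι ∘ₗ π) +
          (LinearMap.ker τ).subtype ∘ₗ a.2 ∘ₗ (LinearMap.range ι).mkQ, LinearMap.ext fun v => by
        have e2 : τ (ι (a.1.1 (π v))) = a.1.1 (τ (ι (π v))) := LinearMap.congr_fun a.1.2 (π v)
        have e4 : τ (a.2 ((LinearMap.range ι).mkQ v)) = 0 := (a.2 _).2
        simp only [End.mul_apply, LinearMap.add_apply, LinearMap.comp_apply, Submodule.subtype_apply, map_add,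
          LinearMap.sub_apply, End.one_apply, h1, e2, h3, e4, h2, sub_self, map_zero,
          add_zero, Submodule.coe_zero, map_sub, add_sub_cancel]⟩
      map_add' := fun a b => Subtype.ext (LinearMap.ext fun v => by simp; abel)
      map_smul' := fun c a => Subtype.ext (LinearMap.ext fun v => by simp [smul_sub]) }
  have hi : Function.Injective Ψ := LinearMap.ker_eq_bot.1 (eq_bot_iff.2 fun a ha => by
    have e : ∀ v, ι (a.1.1 (π v)) + σ (a.1.1 (τ (v - ι (π v)))) + a.2 ((LinearMap.range ι).mkQ v) = 0 :=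
      fun v => LinearMap.congr_fun (congrArg Subtype.val ha) v
    have e1 : a.1 = 0 := Subtype.ext (LinearMap.ext fun w => hι (by
      have := e (ι w)
      rw [h1, sub_self, h3] at this
      simpa using this))
    refine Prod.ext e1 (LinearMap.ext fun v => ?_)
    obtain ⟨v, rfl⟩ := (LinearMap.range ι).mkQ_surjective v
    have := e v
    rw [e1] at this
    exact Subtype.ext (by simpa using this))
  have := LinearMap.finrank_le_finrank_of_injective hi
  rw [Module.finrank_prod, Module.finrank_linearMap] at this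
  have e1 := (LinearMap.range ι).finrank_quotient_add_finrank
  have e2 := τ.finrank_range_add_finrank_ker
  rw [LinearMap.finrank_range_of_inj hι] at e1
  rw [LinearMap.range_eq_top.2 hτ, finrank_top] at e2
  rwa [show finrank F (V ⧸ LinearMap.range ι) = finrank F (LinearMap.ker τ) by omega, ← sq] at this

theorem pow_intw {U : Type*} [AddCommGroup U] [Module F U] {T : End F V} {S : End F U} {ι : U →ₗ[F] V}
    (h : ∀ u, ι (S u) = T (ι u)) (j : ℕ) (u : U) : ι ((S ^ j) u) = (T ^ j) (ι u) := by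
  induction j with
  | zero => rfl
  | succ j ih => rw [pow_succ', pow_succ', End.mul_apply, End.mul_apply, h, ih]

theorem cen_nil (h : ℕ) : ∀ (V : Type v) [AddCommGroup V] [Module F V] [FiniteDimensional F V] (T : End F V),
    T ^ h = 0 → ∃ a : ℕ → ℕ, ∑ i ∈ Finset.range h, a i = finrank F V ∧
      ∑ i ∈ Finset.range h, a i ^ 2 ≤ finrank F (cen T) ∧ ∀ i, T ^ i = 0 → a i = 0 := by
  induction h with
  | zero =>
    intro V _ _ _ T hT
    haveI : Subsingleton V := ⟨fun a b => by
      rw [show a = 0 from LinearMap.congr_fun hT a, show b = 0 from LinearMap.congr_fun hT b]⟩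
    exact ⟨fun _ => 0, by simp [Module.finrank_zero_of_subsingleton], by simp, fun _ _ => rfl⟩
  | succ h ih =>
    intro V _ _ _ T hT
    let S : End F (LinearMap.range T) := T.rangeRestrict ∘ₗ (LinearMap.range T).subtype
    have e : ∀ i, T ^ (i + 1) = 0 → S ^ i = 0 := fun i hi => LinearMap.ext fun w => Subtype.ext (by
      obtain ⟨_, v, rfl⟩ := w
      exact (pow_intw (ι := (LinearMap.range T).subtype) (S := S) (T := T) (fun _ => rfl) i _).trans
        (LinearMap.congr_fun ((pow_succ T i).symm.trans hi) v))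
    obtain ⟨a, h1, h2, h3⟩ := ih _ S (e h hT)
    refine ⟨fun i => Nat.rec (finrank F (LinearMap.ker T)) (fun i _ => a i) i, ?_, ?_, ?_⟩
    · rw [Finset.sum_range_succ']
      exact (congrArg (· + _) h1).trans T.finrank_range_add_finrank_ker
    · rw [Finset.sum_range_succ']
      have := cen_step (LinearMap.range T).subtype T.rangeRestrict (Submodule.injective_subtype _)
        T.surjective_rangeRestrict
      rw [LinearMap.ker_rangeRestrict] at this
      exact (Nat.add_le_add_right h2 _).trans this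
    · rintro (_ | i) hi
      · haveI : Subsingleton V := ⟨fun a b => by
          rw [show a = 0 from LinearMap.congr_fun hi a, show b = 0 from LinearMap.congr_fun hi b]⟩
        exact Module.finrank_zero_of_subsingleton
      · exact h3 i (e i hi)

theorem sq_le_cen {V : Type v} [AddCommGroup V] [Module F V] [FiniteDimensional F V] {T : End F V} {h : ℕ}
    (hT : T ^ h = 0) : finrank F V ^ 2 ≤ h * finrank F (cen T) := by
  obtain ⟨a, h1, h2, -⟩ := cen_nil h V T hT
  have := sq_sum_le_card_mul_sum_sq (s := Finset.range h) (f := a)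
  rw [h1, Finset.card_range] at this
  exact this.trans (Nat.mul_le_mul_left _ h2)

theorem crit {V : Type v} [AddCommGroup V] [Module F V] [FiniteDimensional F V] {T : End F V} {h : ℕ}
    (e : finrank F V ^ 2 + h = 1 + h * finrank F (cen T)) (h1 : 1 < finrank F V) (hT : T ^ (h - 1) = 0) :
    h = finrank F V + 1 ∧ T ^ (h - 2) ≠ 0 := by
  rcases h with _ | h
  · have := sq_le_cen hT; simp at this; omega
  rw [Nat.add_sub_cancel] at hT
  obtain ⟨a, a1, a2, a3⟩ := cen_nil (h + 1) V T (by rw [pow_succ, hT, zero_mul])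
  have := (arith25 (fun i : Fin (h + 1) => a i) (Fintype.card_fin _) (by rw [← a1, Finset.sum_range])
    (by rw [← Finset.sum_range fun i => a i ^ 2]; exact a2) e).2 (Fin.last h) (a3 h hT) h1
  refine ⟨this, fun h2 => ?_⟩
  have h3 := sq_le_cen h2
  obtain ⟨N, hN⟩ : ∃ N, finrank F V = N + 1 := ⟨finrank F V - 1, by omega⟩
  obtain rfl : h = N + 1 := by omega
  rw [hN] at h3 e
  rw [show N + 1 + 1 - 2 = N by omega] at h3
  have h4 : finrank F (cen T) = N + 1 := Nat.eq_of_mul_eq_mul_left (show 0 < N + 1 + 1 by omega) (by nlinarith)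
  rw [h4] at h3
  nlinarith

/-- `S` is the action of `T ^ m` on a subspace whose first `m` translates under `T` are independent -/
def Blk {U : Type*} [AddCommGroup U] [Module F U] (T : End F V) (m : ℕ) (S : End F U) : Prop :=
  ∃ (ι : U →ₗ[F] V) (π : V →ₗ[F] U), (∀ u, π (ι u) = u) ∧ (∀ u, ι (S u) = (T ^ m) (ι u)) ∧
    ∀ i, ¬ m ∣ i → ∀ u, π ((T ^ i) (ι u)) = 0

variable {U : Type*} [AddCommGroup U] [Module F U] {W : Type*} [AddCommGroup W] [Module F W]

theorem Blk.trans {T : End F V} {S : End F U} {R : End F W} {m m' : ℕ} (h : Blk T m S) (h' : Blk S m' R) :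
    Blk T (m * m') R := by
  obtain ⟨ι, π, h1, h2, h3⟩ := h
  obtain ⟨ι', π', k1, k2, k3⟩ := h'
  refine ⟨ι ∘ₗ ι', π' ∘ₗ π, fun u => by simp [h1, k1], fun u => by
    rw [LinearMap.comp_apply, k2, pow_intw h2, pow_mul]; rfl, fun i hi u => ?_⟩
  by_cases hm : m ∣ i
  · obtain ⟨j, rfl⟩ := hm
    rw [LinearMap.comp_apply, LinearMap.comp_apply, pow_mul, ← pow_intw h2, h1]
    exact k3 j (fun e => hi (Nat.mul_dvd_mul_left _ e)) u
  · rw [LinearMap.comp_apply, LinearMap.comp_apply, h3 i hm, map_zero]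

theorem blk_one {T : End F V} {S : End F U} (ι : U →ₗ[F] V) (hi : Function.Injective ι)
    (h : ∀ u, ι (S u) = T (ι u)) : Blk T 1 S := by
  obtain ⟨π, hπ⟩ := ι.exists_leftInverse_of_injective (LinearMap.ker_eq_bot.2 hi)
  exact ⟨ι, π, fun u => LinearMap.congr_fun hπ u, by simpa using h, fun i hi => absurd (one_dvd i) hi⟩

theorem Blk.pow_eq_one {T : End F V} {S : End F U} {m j : ℕ} (h : Blk T m S) (hT : T ^ (m * j) = 1) :
    S ^ j = 1 := by
  obtain ⟨ι, π, h1, h2, -⟩ := h
  refine LinearMap.ext fun u => ?_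
  rw [← h1 ((S ^ j) u), pow_intw h2, ← pow_mul, hT]
  exact h1 u

theorem sub_one_pow_char {p : ℕ} [Fact p.Prime] [CharP F p] (T : End F V) (k : ℕ) :
    (T - 1) ^ p ^ k = T ^ p ^ k - 1 := by
  have := congrArg (Polynomial.aeval T) (sub_pow_char_pow (R := Polynomial F) (p := p) (n := k) Polynomial.X 1)
  simpa using this

theorem sub_one_pow_pred {p : ℕ} [hp : Fact p.Prime] [CharP F p] (T : End F V) (k : ℕ) :
    (T - 1) ^ (p ^ k - 1) = ∑ i ∈ Finset.range (p ^ k), T ^ i := by
  have : (Polynomial.X - 1 : Polynomial F) ^ (p ^ k - 1) = ∑ i ∈ Finset.range (p ^ k), Polynomial.X ^ i := by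
    refine mul_right_cancel₀ (Polynomial.X_sub_C_ne_zero (1 : F)) ?_
    rw [map_one, geom_sum_mul, ← pow_succ, Nat.sub_add_cancel (Nat.one_le_pow _ _ hp.out.pos), sub_pow_char_pow,
      one_pow]
  simpa using congrArg (Polynomial.aeval T) this

theorem Blk.ne_zero {p : ℕ} [hp : Fact p.Prime] [CharP F p] {T : End F V} {S : End F U} {k s : ℕ}
    (h : Blk T (p ^ k) S) (hs : (S - 1) ^ s ≠ 0) : (T - 1) ^ (p ^ k * (s + 1) - 1) ≠ 0 := fun e => hs (by
  obtain ⟨ι, π, h1, h2, h3⟩ := h
  have h0 := Nat.one_le_pow k _ hp.out.pos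
  refine LinearMap.ext fun u => ?_
  rw [show p ^ k * (s + 1) - 1 = p ^ k - 1 + p ^ k * s by rw [mul_add]; omega, pow_add, pow_mul, sub_one_pow_char,
    sub_one_pow_pred] at e
  have := congrArg π (LinearMap.congr_fun e (ι u))
  rw [End.mul_apply, ← pow_intw (S := S - 1) (fun u => by simp [h2]), LinearMap.sum_apply, map_sum,
    Finset.sum_eq_single 0 (fun i hi i0 => h3 i (fun d => absurd (Finset.mem_range.1 hi)
      (Nat.le_of_dvd (by omega) d).not_gt) _) (fun h => absurd (Finset.mem_range.2 h0) h)] at this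
  simpa [h1] using this)

end H1
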