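import Cfsg.Agent.H1.HB1
import Cfsg.Agent.H1.ES3

/-! H1.HB2: Clifford reduction for a cyclic `p`-group acting on a `q`-group (Hall-Higman, Shult). -/

open Cfsg Module
open scoped commutatorElement

namespace H1

universe u v

variable {F : Type*} [Field F]

section

variable {V : Type*} [AddCommGroup V] [Module F V] {G : Type*} [Group G] {ρ : G →* End F V}

theorem extra_w [IsAlgClosed F] [FiniteDimensional F V] [Nontrivial V] [Finite G] {P Z H : Subgroup G}
    [hPn : P.Normal] (hG : P ⊔ H = ⊤) (hZP : Z ≤ P) (hZ : Z ≤ Subgroup.center G)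
    (hP' : ⁅P, P⁆ ≤ Z) (hs : ∀ T : Submodule F V, (∀ g, ∀ u ∈ T, ρ g u ∈ T) → T = ⊥ ∨ T = ⊤)
    (hnd : ∀ x ∈ P, x ∉ Z → ∃ y ∈ P, ρ ⁅y, x⁆ ≠ 1) (hH : IsCyclic H)
    (hf : ∀ h ∈ H, h ≠ 1 → ∀ x ∈ P, ⁅x, h⁆ ∈ Z → x ∈ Z) (hne : ¬ P ≤ Z) (hP : (Nat.card P : F) ≠ 0)
    : finrank F V ^ 2 = Z.relIndex P ∧
      finrank F V ^ 2 + Nat.card H = 1 + Nat.card H * finrank F (fix (cjr ρ) H) := by
  classical
  have hs' := simple_of_extra hG hZP hZ hP' hs hnd hH hf hP
  haveI : Z.Normal := ⟨fun z hz g => by rwa [Subgroup.mem_center_iff.1 (hZ hz) g, mul_inv_cancel_right]⟩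
  let π := QuotientGroup.mk' Z
  let σ : G ⧸ Z →* End F (End F V) := QuotientGroup.lift Z (cjr ρ) fun z hz => LinearMap.ext fun f => by
    obtain ⟨c, hc⟩ := schur (B := ⊤) (fun T hT => hs T fun g => hT g trivial) (f := ρ z) fun g _ => by
      rw [← map_mul, ← map_mul, Subgroup.mem_center_iff.1 (hZ hz)]
    exact cjr_eq_iff.2 (by simp [hc])
  have hσ : σ.comp π = cjr ρ := rfl
  haveI := hPn.map π (QuotientGroup.mk'_surjective Z)
  have e1 : Nat.card (P.map π) = Z.relIndex P := by rw [← Subgroup.relIndex_ker, QuotientGroup.ker_mk']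
  have e2 : Nat.card (H.map π) = Nat.card H := by
    rw [← Subgroup.relIndex_ker, QuotientGroup.ker_mk', ← Subgroup.inf_relIndex_right,
      show Z ⊓ H = ⊥ from eq_bot_iff.2 fun h hh => by_contra fun h1 => hne fun x hx => hf h hh.2 h1 x hx (by
        rw [commutatorElement_eq_one_iff_mul_comm.2 (Subgroup.mem_center_iff.1 (hZ hh.1) x)]; exact one_mem _),
      Subgroup.relIndex_bot_left]
  have hP1 : (Nat.card (P.map π) : F) ≠ 0 := natCast_ne_zero_of_dvd hP (P.card_map_dvd π)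
  have hc : ⁅P.map π, P.map π⁆ = ⊥ := by
    rwa [← Subgroup.map_commutator, Subgroup.map_eq_bot_iff, QuotientGroup.ker_mk']
  have hc' : ∀ a ∈ ⁅P.map π, P.map π⁆, σ a = 1 := fun a ha => by rw [Subgroup.mem_bot.1 (hc.le ha), map_one]
  have f1 : fix σ (P.map π) = Submodule.span F {1} := by rw [fix_map, hσ, fix_cjr_eq hs']
  have f2 : fix σ (P.map π ⊔ H.map π) = Submodule.span F {1} := by
    rw [← Subgroup.map_sup, fix_map, hσ, fix_cjr_eq fun T hT => hs' T fun g hg => hT g (Subgroup.mem_sup_left hg)]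
  have w := wielandt_linear (ρ := σ) hP1 hc' (R := H.map π) (fpf_iff.2 (by
    rintro _ ⟨h, hh, rfl⟩ _ ⟨x, hx, rfl⟩ e
    refine or_iff_not_imp_left.2 fun h1 => (QuotientGroup.eq_one_iff x).2 (hf h hh (fun e => h1 (by
      rw [e, map_one])) x hx ((QuotientGroup.eq_one_iff _).1 ?_))
    change π _ = 1
    rw [map_commutatorElement, commutatorElement_eq_one_iff_mul_comm, e]))
  rw [f1, f2, finrank_span_singleton one_ne_zero, e2, mul_one, Module.finrank_linearMap, ← sq, fix_map, hσ] at w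
  have hN : finrank F V ^ 2 = Z.relIndex P := by
    haveI := finite_wt hP1
    haveI := Fintype.ofFinite (Wt F (P.map π))
    have k1 : ∀ x : P.map π, ∃ ψ : Wt F (P.map π), ∃ y ∈ P, π y = x ∧ ρ y ∈ wt σ ψ := by
      rintro ⟨_, y, hy, rfl⟩
      obtain ⟨ψ, hψ⟩ := exists_char_mod (ρ := σ.comp (P.map π).subtype) (U := ⊥) (by simp) (w := ρ y)
        (by simpa using rho_ne_zero y) (by
          rintro ⟨_, x, hx, rfl⟩
          obtain ⟨c, hc⟩ := schur (B := ⊤) (fun T hT => hs T fun g => hT g trivial) (f := ρ ⁅x, y⁆) fun g _ => by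
            rw [← map_mul, ← map_mul, Subgroup.mem_center_iff.1 (hZ (hP' (Subgroup.commutator_mem_commutator hx hy)))]
          refine ⟨c, sub_eq_zero.2 ?_⟩
          change cjr ρ x (ρ y) = _
          rw [cjr_rho, show x * y * x⁻¹ = ⁅x, y⁆ * y by simp [commutatorElement_def], map_mul, hc, smul_mul_assoc,
            one_mul])
      exact ⟨ψ, y, hy, rfl, fun a => sub_eq_zero.1 (hψ a)⟩
    have k2 : ∀ ψ : Wt F (P.map π), ∀ y, ρ y ∈ wt σ ψ → ∀ f ∈ wt σ ψ, ∃ c : F, c • 1 = ρ y⁻¹ * f :=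
      fun ψ y hy f hf => by
        rw [← Submodule.mem_span_singleton, ← fix_cjr_eq hs']
        intro x hx
        have h1 : cjr ρ x (ρ y) = _ := hy ⟨π x, x, hx, rfl⟩
        have h2 : cjr ρ x f = _ := hf ⟨π x, x, hx, rfl⟩
        have h3 : cjr ρ x (ρ y) * cjr ρ x (ρ y⁻¹ * f) = cjr ρ x f := by
          simp only [cjr_apply, ← mul_assoc, ← map_mul]; simp
        rw [h1, h2, smul_mul_assoc] at h3
        conv_rhs => rw [← smul_right_injective _ (Units.ne_zero _) h3, ← mul_assoc, ← map_mul, inv_mul_cancel,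
          map_one, one_mul]
    choose ψ y hy hπ hψ using k1
    have k3 : Function.Bijective ψ := (Nat.bijective_iff_injective_and_card ψ).2 ⟨fun a b e => ?_, by
      rw [card_wt hP1, show commutator (P.map π) = ⊥ from L.commutator_eq_bot_iff_comm'.2
        (H9.comm_iff_commutator.2 hc), Subgroup.index_bot]⟩
    · rw [sq, ← Module.finrank_linearMap, finrank_eq_sum_wt hP1 hc', ← e1, Nat.card_eq_of_bijective _ k3,
        Nat.card_eq_fintype_card, Fintype.card_eq_sum_ones]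
      refine Finset.sum_congr rfl fun χ _ => ?_
      obtain ⟨x, rfl⟩ := k3.2 χ
      refine (finrank_eq_one_iff_of_nonzero' (⟨_, hψ x⟩ : wt σ (ψ x))
        fun e => rho_ne_zero _ (congrArg Subtype.val e)).2 fun f => ?_
      obtain ⟨c, hc⟩ := k2 _ _ (hψ x) f f.2
      refine ⟨c, Subtype.ext ?_⟩
      change c • ρ (y x) = f
      rw [← mul_one (ρ (y x)), ← mul_smul_comm, hc, ← mul_assoc, ← map_mul, mul_inv_cancel, map_one, one_mul]
    · obtain ⟨c, hc⟩ := k2 _ _ (hψ a) _ (e ▸ hψ b)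
      refine Subtype.ext (hπ a ▸ hπ b ▸ QuotientGroup.eq.2 (by_contra fun h => ?_))
      obtain ⟨w, -, hw⟩ := hnd _ (P.mul_mem (P.inv_mem (hy a)) (hy b)) h
      rw [← map_mul] at hc
      refine hw ?_
      rw [commutatorElement_def, map_mul, map_mul, map_mul, ← hc, mul_smul_comm, mul_one, smul_mul_assoc, ← map_mul,
        mul_inv_cancel, map_one, hc, ← map_mul, mul_inv_cancel, map_one]
  exact ⟨hN, w⟩

theorem fix_cjr_zpowers (x : G) : fix (cjr ρ) (Subgroup.zpowers x) = cen (ρ x) :=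
  Submodule.ext fun _ => mem_fix_zpowers.trans cjr_eq_iff

theorem blk_wt {U : Type*} [AddCommGroup U] [Module F U] {B : Subgroup G} [Finite B] [B.Normal]
    (hB : (Nat.card B : F) ≠ 0) (χ : Wt F B) (x : G) {S : End F U} (ι : U →ₗ[F] V) (hi : Function.Injective ι)
    (hw : ∀ u, ι u ∈ wt ρ χ) (hS : ∀ u, ι (S u) = ρ (x ^ MulAction.period x χ) (ι u)) :
    Blk (ρ x) (MulAction.period x χ) S := by
  haveI := Fintype.ofFinite B
  obtain ⟨π, hπ⟩ := ι.exists_leftInverse_of_injective (LinearMap.ker_eq_bot.2 hi)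
  refine ⟨ι, π ∘ₗ pr ρ χ, fun u => ?_, fun u => by rw [hS, map_pow], fun i hi u => ?_⟩
  · rw [LinearMap.comp_apply, pr_of_mem hB (hw u)]; exact LinearMap.congr_fun hπ u
  · rw [LinearMap.comp_apply, ← map_pow, pr_of_mem_ne (rho_mem_wt (hw u) _)
      fun e => hi (MulAction.pow_smul_eq_iff_period_dvd.1 e.symm), map_zero]

end

/-- outcome of the Clifford reduction -/
def HS (p q n : ℕ) {V : Type v} [AddCommGroup V] [Module F V] (T : End F V) (c : Prop) : Prop :=
  ∃ (U : Type v) (_ : AddCommGroup U) (_ : Module F U) (_ : FiniteDimensional F U) (_ : Nontrivial U) (S : End F U)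
    (k j : ℕ), k + j = n ∧ Blk T (p ^ k) S ∧ (j = 0 ∨ (c ∧ 0 < j ∧ (∃ m, finrank F U ^ 2 = q ^ m) ∧ 1 < finrank F U ∧
      finrank F U ^ 2 + p ^ j = 1 + p ^ j * finrank F (cen S)))

variable {p q n : ℕ} {V U : Type v} [AddCommGroup V] [Module F V] [AddCommGroup U] [Module F U]

theorem HS.mono {T : End F V} {c c' : Prop} (h : HS p q n T c) (hc : c → c') : HS p q n T c' := by
  obtain ⟨U, _, _, _, _, S, k, j, h1, h2, h3⟩ := h
  exact ⟨U, _, _, inferInstance, inferInstance, S, k, j, h1, h2, h3.imp_right fun h => ⟨hc h.1, h.2⟩⟩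

theorem Blk.hs {T : End F V} {S : End F U} {c : Prop} {k : ℕ} (h : Blk T (p ^ k) S) (h' : HS p q n S c) :
    HS p q (k + n) T c := by
  obtain ⟨U, _, _, _, _, R, k', j, h1, h2, h3⟩ := h'
  exact ⟨U, _, _, inferInstance, inferInstance, R, k + k', j, by omega, pow_add p k k' ▸ h.trans h2, h3⟩

/-- the statement proved by induction -/
def HP (F : Type*) [Field F] (p q n N : ℕ) : Prop :=
  ∀ (G : Type u) [Group G] [Finite G] (V : Type v) [AddCommGroup V] [Module F V] [FiniteDimensional F V]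
    (ρ : G →* End F V) (K : Subgroup G) [K.Normal] (x : G), K ⊔ Subgroup.zpowers x = ⊤ → Nat.card K = N →
      IsPGroup q K → x ^ p ^ (n + 1) = 1 → ¬ ⁅K, Subgroup.zpowers (x ^ p ^ n)⁆ ≤ ρ.ker →
        HS p q (n + 1) (ρ x) (¬ IsMulCommutative K)

open Subgroup H9

theorem HP.amb {N : ℕ} (h : HP.{u, v} F p q n N) {G : Type u} [Group G] [Finite G] [FiniteDimensional F V]
    {K : Subgroup G} {x : G} (ρ : (K ⊔ zpowers x : Subgroup G) →* End F V) (hn : x ∈ normalizer (K : Set G))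
    (hN : Nat.card K = N) (hK : IsPGroup q K) (hx : x ^ p ^ (n + 1) = 1) {a : (K ⊔ zpowers x : Subgroup G)}
    (ha : (a : G) ∈ ⁅K, zpowers (x ^ p ^ n)⁆) (ha1 : ρ a ≠ 1) :
    HS p q (n + 1) (ρ ⟨x, mem_sup_right (mem_zpowers x)⟩) (¬ IsMulCommutative K) := by
  haveI := normal_subgroupOf' (V := K) (sup_le le_normalizer (zpowers_le.2 hn))
  have e : ∀ (y : G) (hy : y ∈ K ⊔ zpowers x), zpowers (⟨y, hy⟩ : (K ⊔ zpowers x : Subgroup G)) =
      (zpowers y).subgroupOf _ := fun y hy => by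
    rw [← subgroupOf_map_subtype' _ (zpowers _), MonoidHom.map_zpowers]; rfl
  refine (h _ V ρ (K.subgroupOf _) _ (by rw [e, ← subgroupOf_sup le_sup_left le_sup_right, subgroupOf_self])
    (by rw [card_subgroupOf le_sup_left, hN]) (hK.of_equiv (subgroupOfEquivOfLe le_sup_left).symm)
    (Subtype.ext hx) fun h' => ha1 (h' ?_)).mono fun h1 h2 => h1 ?_
  · have hy : x ^ p ^ n ∈ K ⊔ zpowers x := mem_sup_right (pow_mem (mem_zpowers x) _)
    rw [show (⟨x, mem_sup_right (mem_zpowers x)⟩ : (K ⊔ zpowers x : Subgroup G)) ^ p ^ n = ⟨_, hy⟩ from rfl, e,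
      ← subgroupOf_commutator le_sup_left (zpowers_le.2 hy)]
    exact ha
  · exact ⟨⟨fun a b => Subtype.ext (Subtype.ext
      (congrArg Subtype.val (h2.1.1 ⟨a.1.1, a.2⟩ ⟨b.1.1, b.2⟩) : a.1.1 * b.1.1 = b.1.1 * a.1.1))⟩⟩

theorem top_mem_zpowers [hp : Fact p.Prime] {G : Type*} [Group G] [Finite G] {x g : G} (hx : x ^ p ^ (n + 1) = 1)
    (hg : g ∈ zpowers x) (h1 : g ≠ 1) : x ^ p ^ n ∈ zpowers g := by
  by_cases h : x ^ p ^ n = 1
  · rw [h]; exact one_mem _
  have ho := orderOf_eq_prime_pow h hx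
  obtain ⟨i, -, hi⟩ := (Nat.dvd_prime_pow hp.out).1 (ho ▸ orderOf_dvd_of_mem_zpowers hg)
  obtain ⟨i, rfl⟩ : ∃ j, i = j + 1 := ⟨i - 1, by
    rcases i with _ | i
    · exact absurd (orderOf_eq_one_iff.1 hi) h1
    · rfl⟩
  have h2 := mem_zp_of_pow ho (pow_mem hg (p ^ i)) (by rw [← pow_mul, ← pow_succ, ← hi, pow_orderOf_eq_one])
  have h3 := FT.eq_zpowers_of_card_prime (by
    rw [Nat.card_zpowers, orderOf_eq_prime (p := p) (by rw [← pow_mul, ← pow_succ, hx]) h]; exact hp.out) h2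
    (pow_ne_one_of_lt_orderOf (pow_pos hp.out.pos i).ne' (hi ▸ Nat.pow_lt_pow_right hp.out.one_lt i.lt_succ_self))
  exact zpowers_le.2 (pow_mem (mem_zpowers g) _) (h3.ge (mem_zpowers _))

theorem hp_all [IsAlgClosed F] [hp : Fact p.Prime] [hq : Fact q.Prime] (hpq : p ≠ q) (h0 : (q : F) ≠ 0) (n N : ℕ) :
    HP.{u, v} F p q n N := by
  induction n using Nat.strong_induction_on generalizing N with | _ n ihn
  induction N using Nat.strong_induction_on with | _ N ihN
  intro G _ _ V _ _ _ ρ K _ x hG hN hK hx hne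
  subst hN
  have hc : ∀ B ≤ K, (Nat.card B : F) ≠ 0 := fun B hB => by
    obtain ⟨k, hk⟩ := IsPGroup.iff_card.1 (hK.to_le hB)
    rw [hk, Nat.cast_pow]; exact pow_ne_zero _ h0
  have hQ : ∀ (V : Type v) [AddCommGroup V] [Module F V] [FiniteDimensional F V] (ρ : G →* End F V),
      K ⊓ ρ.ker ≠ ⊥ → ¬ ⁅K, zpowers (x ^ p ^ n)⁆ ≤ ρ.ker → HS p q (n + 1) (ρ x) (¬ IsMulCommutative K) :=
    fun V _ _ _ ρ h1 h2 => by
      let f := QuotientGroup.mk' (K ⊓ ρ.ker)
      refine (ihN _ ?_ _ V (QuotientGroup.lift (K ⊓ ρ.ker) ρ fun _ h => h.2) (K.map f) (f x) (by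
        rw [← MonoidHom.map_zpowers, ← Subgroup.map_sup, hG]
        exact map_top_of_surjective _ (QuotientGroup.mk'_surjective _)) rfl (hK.map f) (by rw [← map_pow, hx, map_one])
        fun h => h2 fun a ha => h (x := f a) ?_).mono fun h1 h2 => h1 (by infer_instance)
      · rw [← relIndex_ker, QuotientGroup.ker_mk', ← ((K ⊓ ρ.ker).subgroupOf K).index_mul_card,
          card_subgroupOf inf_le_left]
        exact lt_mul_of_one_lt_right (Nat.pos_of_ne_zero (index_ne_zero_of_finite (H := _)))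
          ((one_lt_card_iff_ne_bot _).2 h1)
      · rw [← map_pow, ← MonoidHom.map_zpowers, ← map_commutator]; exact mem_map_of_mem f ha
  by_cases hf : K ⊓ ρ.ker = ⊥
  swap
  · exact hQ V ρ hf hne
  have hyx : zpowers (x ^ p ^ n) ≤ zpowers x := zpowers_le.2 (pow_mem (mem_zpowers x) _)
  by_cases hm : ∀ X < K, zpowers x ≤ normalizer (X : Set G) → X ≤ centralizer (zpowers (x ^ p ^ n) : Set G)
  swap
  · push Not at hm
    obtain ⟨X, h1, h2, h3⟩ := hm
    obtain ⟨a, ha, ha1⟩ := (bot_or_exists_ne_one _).resolve_left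
      fun e => h3 (commutator_eq_bot_iff_le_centralizer.1 e)
    have ha2 := commutator_le_left' (hyx.trans h2) ha
    exact ((ihN _ (card_lt_of_lt h1)).amb (ρ.comp (X ⊔ zpowers x).subtype) (zpowers_le.1 h2) rfl (hK.to_le h1.le) hx
      (a := ⟨a, mem_sup_left ha2⟩) ha fun e => ha1 (mem_bot.1 (hf.le ⟨h1.le ha2, e⟩))).mono
        fun h h' => h (comm_of_le h' h1.le)
  have hxp : IsPGroup p (zpowers x) := isPGroup_zpowers_of_pow hx
  have hcx : ∀ g ∈ zpowers x, zpowers x ≤ centralizer {g} := fun g hg => zpowers_le.2 (by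
    obtain ⟨k, rfl⟩ := hg
    exact mem_centralizer_singleton_iff.2 (Commute.self_zpow x k))
  obtain ⟨-, h2, h3, h4⟩ := min_action hyx le_normalizer_of_normal
    ((le_centralizer_iff.1 (zpowers_le_centralizer_iff.2 (hcx _ (hyx (mem_zpowers _))))).trans
    (centralizer_le_normalizer' _)) (copA_of_p hxp (by
      obtain ⟨k, hk⟩ := IsPGroup.iff_card.1 hK
      exact hk ▸ Nat.Coprime.pow_left _ ((Nat.coprime_primes hq.out hp.out).2 hpq.symm))) hm
    fun h => hne ((commutator_eq_bot_iff_le_centralizer.2 h).le.trans bot_le)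
  have hle : ⁅K, K⁆ ≤ K := commutator_le_of_le le_rfl le_rfl
  have hper : ∀ {B : Subgroup G} [B.Normal] (χ : Wt F B), ∃ k ≤ n + 1, MulAction.period x χ = p ^ k := fun χ =>
    (Nat.dvd_prime_pow hp.out).1 (MulAction.pow_smul_eq_iff_period_dvd.1 (by rw [hx, one_smul]))
  by_cases h6 : ⁅K, K⁆ = ⊥
  · have := mt (comm_le_ker_of_wt (ρ := ρ) (B := K) (P := zpowers (x ^ p ^ n)) (hc K le_rfl) (h6.le.trans bot_le))
      (by rwa [commutator_comm])
    push Not at this
    obtain ⟨χ, c1, g, hg, c2⟩ := this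
    obtain ⟨k, hk, e⟩ := hper χ
    obtain rfl : k = n + 1 := by_contra fun h => c2 ((zpowers_le (H := MulAction.stabilizer G χ)).2
      (MulAction.pow_smul_eq_iff_period_dvd.2 (e ▸ pow_dvd_pow p (by omega))) hg)
    exact ⟨wt ρ χ, _, _, inferInstance, Submodule.nontrivial_iff_ne_bot.2 c1, 1, n + 1, 0, rfl, e ▸ blk_wt (hc K le_rfl) χ x
      (wt ρ χ).subtype (Submodule.injective_subtype _) (fun u => u.2) fun u => by rw [e, hx, map_one]; rfl, Or.inl rfl⟩
  obtain ⟨a, ha, ha1⟩ := (bot_or_exists_ne_one _).resolve_left h6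
  have hZ : ⁅⁅K, K⁆, ⁅K, K⁆⁆ = ⊥ :=
    commutator_eq_bot_iff_le_centralizer.2 (h3.trans (centralizer_le (hle.trans le_sup_left)))
  have := mt (rho_eq_one_of_wt (ρ := ρ) (hc _ hle) (hZ.le.trans bot_le) ⟨a, ha⟩)
    fun e => ha1 (mem_bot.1 (hf.le ⟨hle ha, e⟩))
  push Not at this
  obtain ⟨χ, c1, c2⟩ := this
  have c3 : K ⊔ zpowers (x ^ p ^ n) ≤ MulAction.stabilizer G χ := fun g hg =>
    smul_wt_of_centralizer (le_centralizer_iff.1 h3 hg) χ
  have c4 : ∀ u ∈ wt ρ χ, u ≠ 0 → ρ a u ≠ u := fun u hu u0 e =>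
    c2 (Units.ext (smul_left_injective F u0 ((hu ⟨a, ha⟩).symm.trans (e.trans (one_smul F u).symm))))
  obtain ⟨k, -, e⟩ := hper χ
  obtain ⟨j, rfl⟩ : ∃ j, n = k + j := Nat.exists_eq_add_of_le ((Nat.pow_dvd_pow_iff_le_right hp.out.one_lt).1
    (e ▸ MulAction.pow_smul_eq_iff_period_dvd.1 (c3 (mem_sup_right (mem_zpowers _)))))
  have c5 : K ⊔ zpowers (x ^ p ^ k) ≤ MulAction.stabilizer G χ := sup_le (le_sup_left.trans c3)
    (zpowers_le.2 (MulAction.pow_smul_eq_iff_period_dvd.2 (e ▸ dvd_rfl)))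
  rcases k with _ | k
  swap
  · obtain ⟨u, hu, u0⟩ := (Submodule.ne_bot_iff _).1 c1
    have := (ihn j (by omega) _).amb (K := K) (x := x ^ p ^ (k + 1))
      (sub (ρ.comp (K ⊔ zpowers (x ^ p ^ (k + 1))).subtype) (wt ρ χ) fun g u hu => (c5 g.2 : _ = χ) ▸ rho_mem_wt hu g)
      (le_normalizer_of_normal (K := ⊤) trivial) rfl hK (by rw [← pow_mul, ← pow_add]; exact hx)
      (a := ⟨a, mem_sup_left (hle ha)⟩) (by rw [← pow_mul, ← pow_add, h2]; exact hle ha)
      fun e => c4 u hu u0 (congrArg Subtype.val (LinearMap.congr_fun e ⟨u, hu⟩))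
    refine Blk.hs (k := k + 1) ?_ this
    have := fun S => blk_wt (ρ := ρ) (hc _ hle) χ x (S := S) (wt ρ χ).subtype (Submodule.injective_subtype _) fun u => u.2
    rw [e] at this
    exact this _ fun u => rfl
  rw [pow_zero, pow_one, hG] at c5
  simp only [zero_add] at *
  obtain ⟨U, hU, u1, u2, u3⟩ := exists_simple (ρ := ρ) c1 fun g u hu => (c5 trivial : g • χ = χ) ▸ rho_mem_wt hu g
  haveI := Submodule.nontrivial_iff_ne_bot.2 u2
  have hb : Blk (ρ x) (p ^ 0) (sub ρ U hU x) := blk_one U.subtype (Submodule.injective_subtype _) fun _ => rfl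
  refine zero_add (j + 1) ▸ hb.hs ?_
  by_cases hf' : K ⊓ (sub ρ U hU).ker = ⊥
  swap
  · obtain ⟨u, hu, u0⟩ := (Submodule.ne_bot_iff _).1 u2
    exact hQ U _ hf' fun h => c4 u (u1 hu) u0 (congrArg Subtype.val (LinearMap.congr_fun (h (h2.ge (hle ha))) ⟨u, hu⟩))
  have hZc : ⁅K, K⁆ ≤ center G := fun z hz => mem_center_iff.2 fun g => by
    have hz' : g⁻¹ * z * g * z⁻¹ ∈ ⁅K, K⁆ := mul_mem (Normal.conj_mem' inferInstance _ hz g) (inv_mem hz)
    have : g⁻¹ * z * g * z⁻¹ = 1 := mem_bot.1 (hf'.le ⟨hle hz', LinearMap.ext fun u => Subtype.ext (by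
      have := u1 u.2 ⟨_, hz'⟩
      rw [Wt.smul_eq_iff.1 (c5 trivial : g • χ = χ) z hz] at this
      exact this.trans (one_smul F _))⟩)
    calc g * z = g * (g⁻¹ * z * g * z⁻¹) * z := by rw [this, mul_one]
      _ = z * g := by group
  have hlt := commutator_lt_of_p hK hK le_normalizer fun e => h6 (eq_bot_iff.2 (hle.trans e.le))
  have hx1 : x ^ p ^ j ≠ 1 := fun e => h6 (eq_bot_iff.2 (hle.trans (h2.ge.trans (by simp [e]))))
  have := extra_w (ρ := sub ρ U hU) hG hle hZc le_rfl u3 (fun y hy hyZ => by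
      by_contra h; push Not at h
      exact hyZ (h4 (K ⊓ centralizer K) (lt_of_le_of_ne inf_le_left fun e => h6
        (commutator_eq_bot_iff_le_centralizer.2 (inf_eq_left.1 e))) le_normalizer_of_normal ⟨hy, fun z hz =>
          commutatorElement_eq_one_iff_mul_comm.1 (mem_bot.1 (hf'.le
            ⟨hle (commutator_mem_commutator hz hy), h z hz⟩))⟩)) inferInstance
    (fun g hg g1 y hy e => h4 (K ⊓ TT ⁅K, K⁆ g) (lt_of_le_of_ne inf_le_left fun e => hlt.not_ge ?_) ?_ ⟨hy, mem_TT.2 e⟩)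
    hlt.not_ge (hc K le_rfl)
  · rw [Nat.card_zpowers, orderOf_eq_prime_pow hx1 hx, fix_cjr_zpowers] at this
    obtain ⟨m, hm⟩ := L.exists_relIndex_eq_pow (N := ⁅K, K⁆) hK
    refine ⟨U, _, _, inferInstance, inferInstance, _, 0, j + 1, zero_add _, blk_one LinearMap.id (fun _ _ h => h)
      fun _ => rfl, Or.inr ⟨fun h => h6 (comm_iff_commutator.1 h), by omega, ⟨m, this.1.trans hm⟩, ?_, this.2⟩⟩
    have h1 : finrank F U ≠ 1 := fun e => hlt.not_ge (relIndex_eq_one.1 (by rw [← this.1, e, one_pow]))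
    have := Module.finrank_pos (R := F) (M := U)
    omega
  · exact h2.ge.trans ((commutator_mono le_rfl (zpowers_le.2 (top_mem_zpowers hx hg g1))).trans
      (commutator_zpowers_le' (le_normalizer_of_normal (K := ⊤) trivial) fun v hv => mem_TT.1 (inf_eq_left.1 e hv)))
  · refine normalizer_inf le_normalizer_of_normal (zpowers_le.2 (mem_norm_of_cm fun a ha => ?_))
    have e : g = x * g * x⁻¹ := by
      rw [mem_centralizer_singleton_iff.1 (hcx g hg (mem_zpowers x)), mul_inv_cancel_right]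
    rw [commutatorElement_def]
    refine mul_mem (mem_TT.2 ?_) (inv_mem ha)
    rw [e, ← conjugate_commutatorElement]
    exact Normal.conj_mem inferInstance _ (mem_TT.1 ha) x

end H1
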