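import Cfsg.Agent.H1.HB2
import Cfsg.Agent.H1.FF4
import Cfsg.Agent.H1.PLen

/-! H1.HB3: Hall-Higman's Theorem B. -/

open Cfsg Module Subgroup H9
open scoped commutatorElement

namespace H1

universe u v

variable {F : Type*} [Field F] {p q n : ℕ}

/-- conclusion of Theorem B -/
def HD (p q n : ℕ) {V : Type*} [AddCommGroup V] [Module F V] (T : End F V) (c : Prop) : Prop :=
  (T - 1) ^ (p ^ n - 1) ≠ 0 ∨ (c ∧ ∃ j m, 1 ≤ j ∧ j ≤ n ∧ 1 ≤ m ∧ p ^ j - 1 = q ^ m ∧
    (T - 1) ^ (p ^ (n - j) * (p ^ j - 1) - 1) ≠ 0)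

theorem HS.hd [hp : Fact p.Prime] [hq : Fact q.Prime] [CharP F p] {V : Type v} [AddCommGroup V] [Module F V]
    {T : End F V} {c : Prop} (h : HS p q n T c) : HD p q n T c := by
  obtain ⟨U, _, _, _, _, S, k, j, rfl, h2, rfl | ⟨h3, h4, ⟨m, h5⟩, h6, h7⟩⟩ := h
  · exact Or.inl (by simpa using h2.ne_zero (s := 0) (by simp))
  by_cases h8 : (S - 1) ^ (p ^ j - 1) = 0
  · obtain ⟨e1, e2⟩ := crit (by rwa [cen_sub_one]) h6 h8
    obtain ⟨i, -, hi⟩ := (Nat.dvd_prime_pow hq.out).1 (h5 ▸ dvd_pow_self _ two_ne_zero : finrank F U ∣ q ^ m)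
    refine Or.inr ⟨h3, j, i, h4, by omega, Nat.pos_of_ne_zero fun e => by rw [e, pow_zero] at hi; omega, by omega, ?_⟩
    have := h2.ne_zero e2
    rwa [show p ^ j - 2 + 1 = p ^ j - 1 by omega, ← Nat.add_sub_cancel (n := k) (m := j)] at this
  · have := h2.ne_zero h8
    rw [Nat.sub_add_cancel (Nat.one_le_pow _ _ hp.out.pos), ← pow_add] at this
    exact Or.inl this

/-- Theorem B, for a `q`-group normalized by `x` -/
theorem hb_lin [hp : Fact p.Prime] [hq : Fact q.Prime] [CharP F p] (hpq : p ≠ q) {V : Type*} [AddCommGroup V]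
    [Module F V] [FiniteDimensional F V] {G : Type*} [Group G] [Finite G] (ρ : G →* End F V) {K : Subgroup G} {x : G}
    (hn : x ∈ normalizer (K : Set G)) (hK : IsPGroup q K) (hx : x ^ p ^ (n + 1) = 1) {a : G}
    (ha : a ∈ ⁅K, zpowers (x ^ p ^ n)⁆) (ha1 : ρ a ≠ 1) : HD p q (n + 1) (ρ x) (¬ IsMulCommutative K) := by
  let E := AlgebraicClosure F
  let β := Module.End.baseChangeHom F E V
  have hβ : ∀ f, β f = 0 → f = 0 := fun f h => by
    have := finrank_range_baseChange (F := E) f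
    rw [show f.baseChange E = 0 from h, LinearMap.range_zero, finrank_bot] at this
    exact LinearMap.range_eq_bot.1 (Submodule.finrank_eq_zero.1 this.symm)
  have h1 := ((hp_all (F := E) hpq (fun e => hpq ((Nat.prime_dvd_prime_iff_eq hp.out hq.out).1
    ((CharP.cast_eq_zero_iff E p q).1 e))) n _).amb ((β.toMonoidHom.comp ρ).comp (K ⊔ zpowers x).subtype) hn rfl hK hx
    (a := ⟨a, mem_sup_left (commutator_le_left' (zpowers_le.2 (pow_mem hn _)) ha)⟩) ha
    fun e => ha1 (sub_eq_zero.1 (hβ _ (by rw [map_sub, map_one]; exact sub_eq_zero.2 e)))).hd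
  have e : ∀ k, (β (ρ x) - 1) ^ k ≠ 0 → (ρ x - 1) ^ k ≠ 0 := fun k h h' => h (by
    simpa using congrArg β h')
  exact h1.imp (e _) fun ⟨c, j, m, h1, h2, h3, h4, h5⟩ => ⟨c, j, m, h1, h2, h3, h4, e _ h5⟩

variable {G : Type*} [Group G] [Finite G] [hp : Fact p.Prime]

theorem PS.cc (h : PS p G) (hO : pCore p G = ⊥) : centralizer (pPrimeCore p G : Set G) ≤ pPrimeCore p G := by
  have := cc_of_psol h (Op_top (G := G) p ▸ hO)
  rwa [Op'_top, top_inf_eq] at this

theorem PS.exists_q (h : PS p G) (hO : pCore p G = ⊥) {A B : Subgroup G} (hB : IsPGroup p B) (hA : A ≤ B)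
    (h0 : A ≠ ⊥) : ∃ q, q.Prime ∧ p ≠ q ∧ ∃ K ≤ pPrimeCore p G, IsPGroup q K ∧ B ≤ normalizer (K : Set G) ∧
      ¬ K ≤ centralizer (A : Set G) := by
  by_contra h1
  push Not at h1
  refine h0 (eq_bot_iff.2 ((le_inf le_rfl ((le_centralizer_iff.1 (le_of_forall_syl fun q hq => ?_)).trans
    (h.cc hO))).trans (copA_of_p (hB.to_le hA) pPrimeCore_coprime).inf_eq_bot.le))
  obtain ⟨Q, hQ, h2⟩ := cop_exists_syl le_normalizer_of_normal (copA_of_p hB pPrimeCore_coprime) q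
  refine ⟨Q, hQ, ?_⟩
  by_cases e : p = q
  · subst e
    exact ((le_inf le_rfl hQ.le).trans (copA_of_p hQ.isP pPrimeCore_coprime).inf_eq_bot.le).trans bot_le
  · exact h1 q hq.out e Q hQ.le hQ.isP h2

/-- Theorem B -/
theorem thmB [CharP F p] {V : Type*} [AddCommGroup V] [Module F V] [FiniteDimensional F V] (h : PS p G)
    (hO : pCore p G = ⊥) (ρ : G →* End F V) (hρ : Function.Injective ρ) {x : G} (h1 : x ^ p ^ n ≠ 1)
    (hx : x ^ p ^ (n + 1) = 1) : ∃ q, q.Prime ∧ p ≠ q ∧ ∃ K : Subgroup G, IsPGroup q K ∧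
      HD p q (n + 1) (ρ x) (¬ IsMulCommutative K) := by
  obtain ⟨q, hq, hpq, K, -, k1, k2, k3⟩ := h.exists_q hO (isPGroup_zpowers_of_pow hx)
    (zpowers_le.2 (pow_mem (mem_zpowers x) (p ^ n))) (by simpa using h1)
  haveI := Fact.mk hq
  obtain ⟨a, ha, ha1⟩ := (bot_or_exists_ne_one _).resolve_left
    fun e => k3 (commutator_eq_bot_iff_le_centralizer.1 e)
  exact ⟨q, hq, hpq, K, k1, hb_lin hpq ρ (zpowers_le.1 k2) k1 hx ha fun e => ha1 (hρ (e.trans ρ.map_one.symm))⟩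

/-- all `q`-subgroups are abelian -/
def AbQ (q : ℕ) (G : Type*) [Group G] : Prop := ∀ K : Subgroup G, IsPGroup q K → IsMulCommutative K

omit hp in
theorem abQ_of_sylow [Fact q.Prime] (Q : Sylow q G) (h : IsMulCommutative (Q : Subgroup G)) : AbQ q G := fun K hK => by
  obtain ⟨P, hP⟩ := hK.exists_le_sylow
  refine comm_of_le ?_ hP
  let e := Sylow.equiv P Q
  exact ⟨⟨fun a b => e.injective (by rw [map_mul, map_mul, h.1.1])⟩⟩

omit hp in
theorem AbQ.of_surj [Fact q.Prime] (h : AbQ q G) {H : Type*} [Group H] {f : G →* H} (hf : Function.Surjective f) :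
    AbQ q H := fun K hK => by
  haveI := Finite.of_surjective f hf
  obtain ⟨P, hP⟩ := exists_isSylowIn (p := q) (K.comap f)
  have h1 := hP.map f
  rw [map_comap_eq_self_of_surjective hf] at h1
  rw [← h1.eq_of_isPGroup hK]
  haveI := h P hP.isPGroup
  infer_instance

/-- reduced situation: `O_p` is elementary abelian and self-centralizing -/
structure Red (p : ℕ) (Γ : Type*) [Group Γ] : Prop where
  ps : PS p Γ
  el : IsElementaryAbelian p (pCore p Γ)
  cc : centralizer (pCore p Γ : Set Γ) ≤ pCore p Γ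

theorem PS.exists_red {G : Type u} [Group G] [Finite G] (h : PS p G) : ∃ (Γ : Type u) (_ : Group Γ) (_ : Finite Γ)
    (f : G →* Γ), Function.Surjective f ∧ Red p Γ ∧ (pCore p Γ).comap f = pPrimePCore p G := by
  let R := pCore p (G ⧸ pPrimeCore p G)
  have : (L.Phi R).Normal := normalizer_eq_top_iff.1 (top_le_iff.1 (L.normalizer_Phi le_normalizer_of_normal))
  have hR : IsPGroup p (L.Phi R) := pCore_isPGroup.to_le (L.Phi_le R)
  let g := QuotientGroup.mk' (L.Phi R)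
  refine ⟨_, _, inferInstance, g.comp (QuotientGroup.mk' _), (QuotientGroup.mk'_surjective _).comp
    (QuotientGroup.mk'_surjective _), ⟨(h.quot _).quot _, ?_, fun x hx => ?_⟩, by
      rw [← comap_comap, comap_pCore_quotient _ hR]; rfl⟩
  · rw [← map_pCore_quotient _ hR]
    refine ⟨comm_iff_commutator.2 ?_, ?_⟩
    · rw [← map_commutator, Subgroup.map_eq_bot_iff, QuotientGroup.ker_mk']
      exact L.commutator_le_Phi pCore_isPGroup
    · rintro _ ⟨x, hx, rfl⟩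
      rw [← map_pow]
      exact (QuotientGroup.eq_one_iff _).2 (L.pow_mem_Phi pCore_isPGroup hx)
  · obtain ⟨x, rfl⟩ := QuotientGroup.mk'_surjective _ x
    rw [← map_pCore_quotient _ hR] at hx ⊢
    refine mem_map_of_mem _ ((h.quot _).mem_pCore pPrimeCore_quotient_pPrimeCore fun y hy =>
      (QuotientGroup.eq_one_iff _).1 ?_)
    change g _ = 1
    rw [map_mul, map_mul, map_mul, show g x * g y = g y * g x from (hx _ (mem_map_of_mem g hy)).symm, map_inv, map_inv]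
    group

/-- the module `O_p(Γ)` -/
structure Mod (p : ℕ) (Γ : Type u) [Group Γ] [Fact p.Prime] where
  V : Type u
  [i1 : AddCommGroup V]
  [i2 : Module (ZMod p) V]
  [i3 : Finite V]
  σ : (Γ ⧸ pCore p Γ) →* End (ZMod p) V
  inj : Function.Injective σ
  e : V → Γ
  e_inj : Function.Injective e
  e_mem : ∀ v, e v ∈ pCore p Γ
  e_surj : ∀ x ∈ pCore p Γ, ∃ v, e v = x
  e_add : ∀ v w, e (v + w) = e v * e w
  e_act : ∀ (x : Γ) v, e (σ x v) = x * e v * x⁻¹

attribute [instance] Mod.i1 Mod.i2 Mod.i3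

theorem Red.mod {Γ : Type u} [Group Γ] [Finite Γ] (h : Red p Γ) : Nonempty (Mod p Γ) := by
  let _ : CommGroup (pCore p Γ) := { (inferInstance : Group (pCore p Γ)) with mul_comm := h.el.1.1.1 }
  obtain ⟨_, ρ, hρ⟩ := exists_rep_aux (M := pCore p Γ) (fun v => Subtype.ext (h.el.2 v v.2)) MulAut.conjNormal
  replace hρ : ∀ (x : Γ) (v : Additive (pCore p Γ)), ((ρ x v).toMul : Γ) = x * v.toMul * x⁻¹ :=
    fun x v => congrArg Subtype.val (hρ x v)
  refine ⟨⟨Additive (pCore p Γ), QuotientGroup.lift _ ρ fun x hx => LinearMap.ext fun v => Subtype.ext ?_,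
    (injective_iff_map_eq_one _).2 fun x hx => ?_, fun v => v.toMul, fun _ _ h => Subtype.ext h, fun v => v.toMul.2,
    fun x hx => ⟨Additive.ofMul ⟨x, hx⟩, rfl⟩, fun _ _ => rfl, hρ⟩⟩
  · exact (hρ x v).trans (mul_inv_eq_iff_eq_mul.2 (congrArg Subtype.val (mul_comm ⟨x, hx⟩ v.toMul)))
  · obtain ⟨x, rfl⟩ := QuotientGroup.mk'_surjective _ x
    refine (QuotientGroup.eq_one_iff x).2 (h.cc fun y hy => ?_)
    have := hρ x (Additive.ofMul ⟨y, hy⟩)
    rw [show ρ x = 1 from hx] at this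
    exact (eq_mul_inv_iff_mul_eq.1 this)

namespace Mod

variable {Γ : Type u} [Group Γ] (M : Mod p Γ)

theorem e_zero : M.e 0 = 1 := by
  have := M.e_add 0 0
  rw [add_zero] at this
  exact mul_left_cancel (this.symm.trans (mul_one _).symm)

theorem e_eq_one {v : M.V} : M.e v = 1 ↔ v = 0 := M.e_zero ▸ M.e_inj.eq_iff

theorem e_neg (v : M.V) : M.e (-v) = (M.e v)⁻¹ := eq_inv_of_mul_eq_one_left (by rw [← M.e_add, neg_add_cancel, e_zero])

theorem e_comm (x : Γ) (v : M.V) : M.e ((M.σ x - 1) v) = ⁅x, M.e v⁆ := by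
  rw [LinearMap.sub_apply, sub_eq_add_neg, M.e_add, e_neg, M.e_act]; rfl

theorem mul_pow (x : Γ) (v : M.V) (m : ℕ) :
    (M.e v * x) ^ m = M.e ((∑ i ∈ Finset.range m, M.σ x ^ i) v) * x ^ m := by
  induction m with
  | zero => simp [e_zero]
  | succ m ih =>
    rw [pow_succ, ih, Finset.sum_range_succ, LinearMap.add_apply, M.e_add, ← map_pow, ← QuotientGroup.mk_pow, M.e_act,
      pow_succ]
    group

theorem mul_pow_p (x : Γ) (v : M.V) (k : ℕ) :
    (M.e v * x) ^ p ^ k = M.e (((M.σ x - 1) ^ (p ^ k - 1)) v) * x ^ p ^ k := by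
  rw [mul_pow, sub_one_pow_pred]

theorem hd [Finite Γ] (h : PS p Γ) {x : Γ} (h1 : x ^ p ^ n ∉ pCore p Γ) (h2 : x ^ p ^ (n + 1) ∈ pCore p Γ) :
    ∃ q, q.Prime ∧ p ≠ q ∧ HD p q (n + 1) (M.σ x) (¬ AbQ q Γ) := by
  obtain ⟨q, hq, hpq, K, hK, h3⟩ := thmB (h.quot _) pCore_quotient_pCore M.σ M.inj (x := x)
    (fun e => h1 ((QuotientGroup.eq_one_iff _).1 e)) ((QuotientGroup.eq_one_iff _).2 h2)
  haveI := Fact.mk hq
  exact ⟨q, hq, hpq, h3.imp_right fun h => ⟨fun h' => h.1 (h'.of_surj (QuotientGroup.mk'_surjective _) K hK), h.2⟩⟩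

end Mod

/-- the exceptional case of Theorem B does not occur -/
def NE (p : ℕ) (G : Type*) [Group G] : Prop :=
  ∀ q j m, q.Prime → p ≠ q → 1 ≤ j → 1 ≤ m → p ^ j - 1 = q ^ m → AbQ q G

theorem NE.of_surj (h : NE p G) {H : Type*} [Group H] {f : G →* H} (hf : Function.Surjective f) : NE p H :=
  fun q j m h1 h2 h3 h4 h5 => by
    haveI := Fact.mk h1
    exact (h q j m h1 h2 h3 h4 h5).of_surj hf

/-- `p`-elements have order dividing `p ^ e` -/
def PE (p e : ℕ) (G : Type*) [Group G] : Prop := ∀ (x : G) (k : ℕ), x ^ p ^ k = 1 → x ^ p ^ e = 1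

theorem exists_lift_pow {H : Type*} [Group H] {f : G →* H} (hf : Function.Surjective f) {y : H} {k : ℕ}
    (h : y ^ p ^ k = 1) : ∃ x k, f x = y ∧ x ^ p ^ k = 1 := by
  obtain ⟨g, rfl⟩ := hf y
  obtain ⟨i, -, hi⟩ := (Nat.dvd_prime_pow hp.out).1 (orderOf_dvd_of_pow_eq_one h)
  obtain ⟨x, -, h1, j, h2⟩ := exists_lift_p f g ⟨i, hi⟩
  exact ⟨x, j, h1, h2 ▸ pow_orderOf_eq_one x⟩

theorem PE.of_surj {e : ℕ} (h : PE p e G) {H : Type*} [Group H] {f : G →* H} (hf : Function.Surjective f) :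
    PE p e H := fun y k hy => by
  obtain ⟨x, j, rfl, h1⟩ := exists_lift_pow hf hy
  rw [← map_pow, h x j h1, map_one]

theorem pe_of_sylow {e : ℕ} (h : ∀ P : Sylow p G, ∀ x ∈ (P : Subgroup G), x ^ p ^ e = 1) : PE p e G := fun x _ hx => by
  obtain ⟨P, hP⟩ := (isPGroup_zpowers_of_pow hx).exists_le_sylow
  exact h P x (hP (mem_zpowers x))

theorem pe_quot {e : ℕ} {N : Subgroup G} [N.Normal] (h : ∀ (x : G) (k : ℕ), x ^ p ^ k = 1 → x ^ p ^ e ∈ N) :
    PE p e (G ⧸ N) := fun y k hy => by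
  obtain ⟨x, j, rfl, h1⟩ := exists_lift_pow (QuotientGroup.mk'_surjective N) hy
  exact (QuotientGroup.eq_one_iff _).2 (h x j h1)

theorem pow_of_pow_mem {N : Subgroup G} (hN : IsPGroup p N) {x : G} {k : ℕ} (h : x ^ p ^ k ∈ N) :
    ∃ j, x ^ p ^ j = 1 := by
  obtain ⟨j, hj⟩ := hN ⟨_, h⟩
  exact ⟨k + j, by rw [pow_add, pow_mul]; exact congrArg Subtype.val hj⟩

theorem PE.zero (h : PE p 0 G) : PLengthLE p 0 G := pl_zero.2 (hp.out.coprime_iff_not_dvd.2 fun d => by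
  obtain ⟨x, hx⟩ := exists_prime_orderOf_dvd_card' p d
  have := h x 1 (by rw [pow_one, ← hx, pow_orderOf_eq_one])
  rw [pow_zero, pow_one] at this
  exact hp.out.ne_one (by rw [← hx, this, orderOf_one])).symm

theorem Mod.sub_pow_eq {Γ : Type u} [Group Γ] [Finite Γ] (M : Mod p Γ) {e k : ℕ} (h : PE p e Γ) {x : Γ}
    (hx : x ^ p ^ k = 1) : (M.σ x - 1) ^ (p ^ e - 1) = 0 := LinearMap.ext fun v => by
  have h1 := M.mul_pow_p x v k
  rw [hx, mul_one] at h1
  obtain ⟨j, hj⟩ := pow_of_pow_mem pCore_isPGroup (h1 ▸ M.e_mem _)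
  have := h _ j hj
  rw [M.mul_pow_p, h x k hx, mul_one] at this
  exact M.e_eq_one.1 this

theorem pl_of_pe (e : ℕ) : ∀ (G : Type u) [Group G] [Finite G], PS p G → NE p G → PE p e G → PLengthLE p e G := by
  induction e with
  | zero => exact fun G _ _ _ _ h => h.zero
  | succ e ih =>
    intro G _ _ h h1 h2
    refine pl_succ.2 (ih _ (h.quot _) (h1.of_surj (QuotientGroup.mk'_surjective _)) (pe_quot fun x k hx => ?_))
    obtain ⟨Γ, _, _, f, hf, hR, e1⟩ := h.exists_red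
    obtain ⟨M⟩ := hR.mod
    rw [← e1, mem_comap, map_pow]
    by_contra h3
    have hx' : f x ^ p ^ k = 1 := by rw [← map_pow, hx, map_one]
    obtain ⟨q, hq, hpq, h4 | ⟨h4, j, m, h5, -, h6, h7, -⟩⟩ := M.hd hR.ps h3 (by
      rw [h2.of_surj hf _ _ hx']; exact one_mem _)
    · exact h4 (M.sub_pow_eq (h2.of_surj hf) hx')
    · exact h4 (h1.of_surj hf q j m hq hpq h5 h6 h7)

end H1
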