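import Cfsg.Agent.H1.MaxNil

/-! H1.Hughes: splitting automorphisms and the Hughes subgroup (Hughes–Thompson, Kegel). -/

open Pointwise Cfsg Subgroup
open scoped commutatorElement

namespace H1

universe u

theorem split_id {G : Type*} [Group G] [Finite G] {V : Type*} [CommGroup V] (ρ : G →* MulAut V)
    {T : Subgroup G} [Fintype T] {s : G} (hs : s ∈ normalizer (T : Set G)) {p : ℕ} (hp : p.Prime)
    (h1 : ∀ t ∈ T, (t * s) ^ p = 1) (h2 : ∀ t ∈ T, ∀ v, ∏ i ∈ Finset.range p, ρ ((t * s) ^ i) v = 1)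
    (v : V) : ∏ t : T, ρ t v = v ^ Nat.card T := by
  classical
  have hm : ∀ (i : ℕ) (t : G), t ∈ T → (t * s) ^ i * (s ^ i)⁻¹ ∈ T := by
    intro i t ht
    induction i with
    | zero => simpa using T.one_mem
    | succ n ih =>
      have : (t * s) ^ (n + 1) * (s ^ (n + 1))⁻¹ =
          ((t * s) ^ n * (s ^ n)⁻¹) * (s ^ n * t * (s ^ n)⁻¹) := by
        rw [pow_succ, pow_succ]; group
      rw [this]
      exact mul_mem ih (conj_mem_of_mem_normalizer (pow_mem hs n) ht)
  have hb : ∀ i, 0 < i → i < p → ∏ t : T, ρ (((t : G) * s) ^ i) v = ∏ t : T, ρ t (ρ (s ^ i) v) := by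
    intro i h3 h4
    have hc : i.Coprime p := ((Nat.Prime.coprime_iff_not_dvd hp).2 (Nat.not_dvd_of_pos_of_lt h3 h4)).symm
    have hinj : Function.Injective fun t : T => (⟨_, hm i t t.2⟩ : T) := by
      intro a b e
      have e1 : ((a : G) * s) ^ i = ((b : G) * s) ^ i := mul_right_cancel (congrArg Subtype.val e)
      obtain ⟨j, -, hj⟩ := Nat.exists_mul_mod_eq_one_of_coprime hc hp.one_lt
      have e2 : ∀ c : T, (((c : G) * s) ^ i) ^ j = c * s := fun c => by
        rw [← pow_mul, ← Nat.div_add_mod (i * j) p, hj, pow_add, pow_mul, h1 c c.2, one_pow, one_mul, pow_one]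
      exact Subtype.ext (mul_right_cancel ((e2 a).symm.trans (e1 ▸ e2 b)))
    exact Fintype.prod_bijective _ (Finite.injective_iff_bijective.1 hinj) _ _ fun t => by
      rw [← MulAut.mul_apply, ← map_mul]; simp
  have h5 : ∏ i ∈ Finset.range p, ∏ t : T, ρ (((t : G) * s) ^ i) v = 1 := by
    rw [Finset.prod_comm]
    exact Finset.prod_eq_one fun t _ => h2 t t.2 v
  have h6 : ∏ i ∈ Finset.range p, ∏ t : T, ρ t (ρ (s ^ i) v) = 1 := by
    rw [Finset.prod_comm]
    refine Finset.prod_eq_one fun t _ => ?_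
    have := h2 1 T.one_mem v
    simp only [one_mul] at this
    rw [← map_prod, this, map_one]
  have h0 : 0 ∈ Finset.range p := Finset.mem_range.2 hp.pos
  rw [← Finset.mul_prod_erase _ _ h0] at h5 h6
  rw [Finset.prod_congr rfl fun i hi => hb i (Nat.pos_of_ne_zero (Finset.ne_of_mem_erase hi))
    (Finset.mem_range.1 (Finset.mem_of_mem_erase hi))] at h5
  have := mul_right_cancel (h5.trans h6.symm)
  simpa [Nat.card_eq_fintype_card] using this.symm

open scoped IsMulCommutative in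
theorem le_centralizer_of_split {G : Type*} [Group G] [Finite G] {V T : Subgroup G} (hV : IsMulCommutative V)
    (hT : T ≤ normalizer (V : Set G)) {s : G} (hsV : s ∈ normalizer (V : Set G))
    (hs : s ∈ normalizer (T : Set G)) {p : ℕ} (hp : p.Prime) (hc : (Nat.card V).Coprime (Nat.card T))
    (h : ∀ v ∈ V, ∀ t ∈ T, (v * (t * s)) ^ p = 1) : T ≤ centralizer (V : Set G) := by
  set L := normalizer (V : Set G)
  let ρ : L →* MulAut V := V.normalizerMonoidHom
  have hρ : ∀ (x : L) (v : V), (ρ x v : G) = x * v * (x : G)⁻¹ := fun _ _ => rfl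
  have := Fintype.ofFinite (T.subgroupOf L)
  have key : ∀ (x : L) (v : V) (n : ℕ), ((v : G) * x) ^ n =
      ((∏ i ∈ Finset.range n, ρ (x ^ i) v : V) : G) * (x : G) ^ n := by
    intro x v n
    induction n with
    | zero => simp
    | succ n ih =>
      rw [Finset.prod_range_succ, pow_succ, ih, coe_mul, hρ, coe_pow, pow_succ]; group
  have h1 : ∀ t ∈ T.subgroupOf L, (t * ⟨s, hsV⟩) ^ p = 1 := fun t ht =>
    Subtype.ext (by simpa using h 1 V.one_mem t ht)
  have h2 := split_id ρ (T := T.subgroupOf L) (s := ⟨s, hsV⟩)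
    (le_normalizer_subgroupOf L (zpowers_le.2 hs) (mem_subgroupOf.2 (mem_zpowers s))) hp h1 fun t ht v => by
      have h3 := key (t * ⟨s, hsV⟩) v p
      have h4 : ((v : G) * ((t * ⟨s, hsV⟩ : L) : G)) ^ p = 1 := h v v.2 t ht
      have h5 : ((t * ⟨s, hsV⟩ : L) : G) ^ p = 1 := congrArg Subtype.val (h1 t ht)
      rw [h4, h5, mul_one] at h3
      exact Subtype.ext h3.symm
  intro t ht v hv
  have h3 : ρ ⟨t, hT ht⟩ ⟨v, hv⟩ = ⟨v, hv⟩ := by
    rw [← card_subgroupOf hT] at hc
    apply (powCoprime hc).injective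
    simp only [powCoprime_apply]
    rw [← map_pow, ← h2, map_prod]
    exact Fintype.prod_equiv (Equiv.mulLeft (⟨⟨t, hT ht⟩, ht⟩ : T.subgroupOf L)) _ _ fun x => by
      rw [← MulAut.mul_apply, ← map_mul]; rfl
  have := congrArg Subtype.val h3
  rw [hρ] at this
  exact (mul_inv_eq_iff_eq_mul.1 this).symm

/-- A proper normal subgroup outside which all elements have order `p` is nilpotent. -/
theorem nilpotent_of_split {p : ℕ} (hp : p.Prime) (G : Type u) [Group G] [Finite G] :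
    ∀ H : Subgroup G, H.Normal → H ≠ ⊤ → (∀ g, g ∉ H → g ^ p = 1) → Group.IsNilpotent H := by
  revert G
  apply group_induction
  intro G _ _ ih H hH h0 h
  have ih1 : ∀ K : Subgroup G, K ≠ ⊤ → ¬ K ≤ H → Group.IsNilpotent (H ⊓ K : Subgroup G) := by
    intro K h1 h2
    have := ih K (card_subgroup_lt h1) (H.subgroupOf K) inferInstance
      (fun e => h2 (subgroupOf_eq_top.1 e)) fun g hg => Subtype.ext (h g hg)
    rw [← subgroupOf_map_subtype]
    exact isNilpotent_map _ this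
  have hfr : ∀ (r : ℕ) [Fact r.Prime] (R : Subgroup G), IsSylowIn r R H → ¬ normalizer (R : Set G) ≤ H :=
    fun r _ R hR e => h0 (by rw [← hR.frattini_top, sup_eq_left.2 e])
  by_cases hb : H = ⊥
  · rw [hb]; infer_instance
  have key : ∃ N : Subgroup G, N.Normal ∧ N ≠ ⊥ ∧ N ≤ H ∧ Group.IsSolvable N := by
    by_cases h3 : ∀ q : ℕ, q.Prime → q ∣ Nat.card H → q = 2
    · haveI : Fact (Nat.Prime 2) := ⟨Nat.prime_two⟩
      exact ⟨H, hH, hb, le_rfl, isSolvable_of_isPGroup (p := 2) (isPGroup_iff_isPiNum.2 h3)⟩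
    push Not at h3
    obtain ⟨r, hr, hd, hr2⟩ := h3
    haveI := Fact.mk hr
    obtain ⟨R, hR⟩ := exists_isSylowIn (p := r) H
    have hR0 : R ≠ ⊥ := fun e => hR.eq_bot_iff.1 e hd
    obtain ⟨W, w1, w2, w3, w4⟩ := exists_W hr2 hR hR0
    by_cases h4 : normalizer (W : Set G) = ⊤
    · exact ⟨W, normalizer_eq_top_iff.1 h4, w2, w1.trans hR.le, isSolvable_of_isPGroup (hR.isPGroup.to_le w1)⟩
    have h5 := H9.npc_iff.2 (w4 (hasNPC_of_nilpotent (ih1 _ h4 fun e => hfr r R hR (w3.trans e)) r))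
    by_cases h6 : H9.Op' r H = ⊥
    · exact ⟨H, hH, hb, le_rfl, isSolvable_of_isPGroup (h5.isPGroup h6)⟩
    have hO : (H9.Op' r H).Normal := normalizer_eq_top_iff.1 (top_le_iff.1
      (H9.normalizer_Op' le_normalizer_of_normal))
    obtain ⟨x, -, hx⟩ := SetLike.not_le_iff_exists.1 fun e => h0 (top_le_iff.1 e)
    have h7 := ih1 (H9.Op' r H ⊔ zpowers x) (fun e => ?_) fun e => hx (e (mem_sup_right (mem_zpowers x)))
    · haveI := isNilpotent_of_le (le_inf (H9.Op'_le r H) le_sup_left) h7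
      exact ⟨_, hO, h6, H9.Op'_le r H, inferInstance⟩
    · have h8 : zpowers x ⊓ H = ⊥ := by
        have hx1 : x ≠ 1 := fun e => hx (e ▸ H.one_mem)
        haveI := Fact.mk hp
        have ho := orderOf_eq_prime (h x hx) hx1
        rcases (isSimpleGroup_of_prime_card (Nat.card_zpowers x ▸ ho)).eq_bot_or_eq_top_of_normal
          (H.subgroupOf (zpowers x)) inferInstance with e1 | e1
        · rw [subgroupOf_eq_bot] at e1; exact e1.symm.eq_bot
        · exact (hx (subgroupOf_eq_top.1 e1 (mem_zpowers x))).elim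
      have h9 := dedekind_left (B := zpowers x) (H9.Op'_le r H) (Or.inr le_normalizer_of_normal)
      rw [e, top_inf_eq, h8, sup_bot_eq] at h9
      exact H9.cop_iff.1 (h9.symm ▸ H9.Op'_cop r H) hd
  obtain ⟨N, n1, n2, n3, n4⟩ := key
  obtain ⟨V, q, hq, v1, v2, v3, v4, -, v5, v6⟩ := exists_minimal_normal_elementary N n4 n2
  haveI := Fact.mk hq
  have hVH := v3.trans n3
  refine isNilpotent_of_map_of_le_centralizer (QuotientGroup.mk' V) (ih _ (card_quotient_lt v2) _
    (hH.map _ (QuotientGroup.mk'_surjective V)) (fun e => h0 ?_) fun g hg => ?_) ?_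
  · have := congrArg (comap (QuotientGroup.mk' V)) e
    rwa [comap_map_eq, QuotientGroup.ker_mk', sup_eq_left.2 hVH, comap_top] at this
  · obtain ⟨g, rfl⟩ := QuotientGroup.mk'_surjective V g
    rw [← map_pow, h g fun e => hg (mem_map_of_mem _ e), map_one]
  rw [QuotientGroup.ker_mk']
  refine le_centralizer_of_isPGroup_map v5 v6 (isPGroup_iff_isPiNum.2 fun r hr hd => ?_)
  by_contra hrq
  haveI := Fact.mk hr
  obtain ⟨R, hR⟩ := exists_isSylowIn (p := r) H
  obtain ⟨s, hs, hsH⟩ := SetLike.not_le_iff_exists.1 (hfr r R hR)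
  have h1 := le_centralizer_of_split v4 le_normalizer_of_normal (le_normalizer_of_normal (mem_top s)) hs hp
    (IsPGroup.coprime_card_of_ne q r (Ne.symm hrq) _ _ v5 hR.isPGroup) fun v hv t ht => h _ fun e =>
      hsH ((H.mul_mem_cancel_left (hR.le ht)).1 ((H.mul_mem_cancel_left (hVH hv)).1 e))
  refine (hR.map (QuotientGroup.mk' (centralizer (V : Set G)))).eq_bot_iff.1 ?_ hd
  rwa [Subgroup.map_eq_bot_iff, QuotientGroup.ker_mk']

theorem index_of_split {p : ℕ} (hp : p.Prime) {G : Type u} [Group G] [Finite G] (hG : ¬ IsPGroup p G)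
    {H : Subgroup G} [hH : H.Normal] (h0 : H ≠ ⊤) (h : ∀ g, g ∉ H → g ^ p = 1) : H.index = p := by
  haveI := Fact.mk hp
  have hn := nilpotent_of_split hp G H hH h0 h
  have hQ : IsPGroup p (G ⧸ H) := fun g => by
    obtain ⟨g, rfl⟩ := QuotientGroup.mk'_surjective H g
    by_cases hg : g ∈ H
    · exact ⟨0, by simpa using hg⟩
    · exact ⟨1, by rw [pow_one, ← map_pow, h g hg, map_one]⟩
  obtain ⟨M, hM, hHM⟩ := (eq_top_or_exists_le_coatom H).resolve_left h0
  have hM' := isCoatom_map_mk' hM hHM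
  have hMi : M.index = p := by
    rw [← index_coatom_of_isPGroup hQ hM', index_map_mk', sup_eq_left.2 hHM]
  haveI hMn : M.Normal := by
    haveI := hQ.isNilpotent
    have h1 := (NormalizerCondition.normal_of_coatom _ normalizerCondition_of_isNilpotent hM').comap
      (QuotientGroup.mk' H)
    rwa [comap_map_eq, QuotientGroup.ker_mk', sup_eq_left.2 hHM] at h1
  obtain ⟨k, hk⟩ := IsPGroup.iff_card.1 hQ
  rw [← index_eq_card] at hk
  by_contra hne
  have hlt : ¬ M ≤ H := fun e => hne (le_antisymm hHM e ▸ hMi)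
  obtain ⟨q, hq, hd, hqp⟩ : ∃ q : ℕ, q.Prime ∧ q ∣ Nat.card H ∧ q ≠ p := by
    by_contra hc
    push Not at hc
    obtain ⟨j, hj⟩ := IsPGroup.iff_card.1 (isPGroup_iff_isPiNum.2 hc : IsPGroup p H)
    exact hG (IsPGroup.of_card (by rw [← H.card_mul_index, hj, hk, ← pow_add]))
  haveI := Fact.mk hq
  obtain ⟨Q, hQ'⟩ := exists_isSylowIn (p := q) H
  haveI : Q.Normal := normalizer_eq_top_iff.1 (top_le_iff.1 ((le_normalizer_of_normal).trans
    (hQ'.normalizer_le_of_normal (hQ'.le_normalizer_of_nilpotent hn))))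
  obtain ⟨V, r, -, v1, v2, v3, v4, -⟩ := exists_minimal_normal_elementary Q
    (isSolvable_of_isPGroup hQ'.isPGroup) fun e => hQ'.eq_bot_iff.1 e hd
  have hVq := hQ'.isPGroup.to_le v3
  have hVH := v3.trans hQ'.le
  obtain ⟨P⟩ : Nonempty (Sylow p G) := inferInstance
  have hP := sylow_inf_normal P M
  have hPM : ¬ (P : Subgroup G) ≤ M := fun e =>
    P.not_dvd_index ((dvd_of_eq hMi.symm).trans (index_dvd_of_le e))
  obtain ⟨s, hs, hsM⟩ := SetLike.not_le_iff_exists.1 hPM
  have h1 := le_centralizer_of_split v4 (T := (P : Subgroup G) ⊓ M) le_normalizer_of_normal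
    (le_normalizer_of_normal (mem_top s)) (le_normalizer_inf le_normalizer le_normalizer_of_normal hs) hp
    (IsPGroup.coprime_card_of_ne q p hqp _ _ hVq hP.isPGroup) fun v hv t ht => h _ fun e =>
      hsM ((M.mul_mem_cancel_left ht.2).1 ((M.mul_mem_cancel_left (hHM (hVH hv))).1 (hHM e)))
  have h2 : ¬ (P : Subgroup G) ⊓ M ≤ H := fun e => by
    have h3 := hP.not_dvd_relIndex_of_le e
    obtain ⟨j, -, hj⟩ := (Nat.dvd_prime_pow hp).1 ((relIndex_dvd_index_of_le hHM).trans (dvd_of_eq hk))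
    rcases j with _ | j
    · exact hlt (relIndex_eq_one.1 hj)
    · exact h3 ((dvd_pow_self p j.succ_ne_zero).trans (dvd_of_eq hj.symm))
  obtain ⟨y, hy, hyH⟩ := SetLike.not_le_iff_exists.1 h2
  refine v2 (eq_bot_iff.2 fun v hv => ?_)
  have h3 := h (v * y) fun e => hyH ((H.mul_mem_cancel_left (hVH hv)).1 e)
  rw [Commute.mul_pow (h1 hy v hv), h y hyH, mul_one] at h3
  obtain ⟨j, hj⟩ := exists_orderOf_eq_pow hVq hv
  have h4 := orderOf_dvd_of_pow_eq_one h3
  exact orderOf_eq_one_iff.1 (Nat.eq_one_of_dvd_coprimes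
    (Nat.Coprime.pow_left j ((Nat.coprime_primes hq hp).2 hqp)) (dvd_of_eq hj) h4)

end H1
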