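import Cfsg.Agent.H1.CS

/-! H1.KPi: numbers of conjugacy classes of π-elements. -/

open Pointwise Cfsg Subgroup
open scoped commutatorElement

namespace H1

universe u

theorem card_le_of_cover {α β : Type*} [Finite β] (q : α → Prop) (F : β → α) (h : ∀ a, q a → ∃ b, F b = a) :
    Nat.card {a // q a} ≤ Nat.card β := by
  choose s hs using h
  exact Nat.card_le_card_of_injective (fun a : {a // q a} => s a.1 a.2) fun a b e =>
    Subtype.ext (by rw [← hs a.1 a.2, ← hs b.1 b.2]; exact congrArg F e)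

theorem two_mul_card_le {α β : Type*} [Finite β] (q : α → Prop) (F : β → α) (h : ∀ a, q a → ∃ b, F b = a)
    (d : β → Prop) (hd : ∀ b, ¬ d b → ∃ b', b' ≠ b ∧ F b' = F b) :
    2 * Nat.card {a // q a} ≤ Nat.card β + Nat.card {b // d b} := by
  classical
  choose s hs using h
  choose t ht1 ht2 using hd
  have := Nat.card_le_card_of_injective (α := Bool × {a // q a}) (β := β ⊕ {b // d b})
    (fun a => if a.1 then Sum.inl (s a.2.1 a.2.2) else
      if h : d (s a.2.1 a.2.2) then Sum.inr ⟨_, h⟩ else Sum.inl (t _ h)) (by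
      have key : ∀ a b : {a // q a}, s a.1 a.2 = s b.1 b.2 → a = b := fun a b e =>
        Subtype.ext (by rw [← hs a.1 a.2, ← hs b.1 b.2, e])
      have key2 : ∀ a b : {a // q a}, ∀ h, s a.1 a.2 ≠ t (s b.1 b.2) h := fun a b h e => by
        have : a = b := Subtype.ext (by rw [← hs a.1 a.2, ← hs b.1 b.2, e, ht2])
        subst this
        exact ht1 _ h e.symm
      rintro ⟨_ | _, a⟩ ⟨_ | _, b⟩ e <;> simp only [Bool.false_eq_true, if_false, if_true] at e
      · split_ifs at e with h1 h2 h2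
        · rw [key a b (congrArg Subtype.val (Sum.inr.inj e))]
        · have := congrArg F (Sum.inl.inj e)
          rw [ht2, ht2, hs, hs] at this
          rw [Subtype.ext this]
      · split_ifs at e with h1
        exact absurd (Sum.inl.inj e).symm (key2 _ _ _)
      · split_ifs at e with h1
        exact absurd (Sum.inl.inj e) (key2 _ _ _)
      · rw [key a b (Sum.inl.inj e)])
  rwa [Nat.card_prod, Nat.card_sum, Nat.card_eq_fintype_card (α := Bool), Fintype.card_bool] at this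

/-- number of classes of elements whose order satisfies `q` -/
noncomputable abbrev kq (q : ℕ → Prop) (G : Type*) [Group G] : ℕ :=
  Nat.card {c : ConjClasses G // ∀ x ∈ c.carrier, q (orderOf x)}

variable {G : Type u} [Group G] [Finite G]

omit [Finite G] in
theorem orderOf_eq_of_isConj {x y : G} (h : IsConj x y) : orderOf x = orderOf y := by
  obtain ⟨c, rfl⟩ := isConj_iff.1 h
  rw [orderOf_conj]

omit [Finite G] in
theorem forall_carrier_mk {q : ℕ → Prop} {g : G} :
    (∀ x ∈ (ConjClasses.mk g).carrier, q (orderOf x)) ↔ q (orderOf g) :=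
  ⟨fun h => h g ConjClasses.mem_carrier_mk, fun h x hx => by
    rwa [orderOf_eq_of_isConj (ConjClasses.mk_eq_mk_iff_isConj.1 (ConjClasses.mem_carrier_iff_mk_eq.1 hx))]⟩

theorem kq_cover {p : ℕ} [Fact p.Prime] (P : Sylow p G) (c : ConjClasses G)
    (hc : ∀ x ∈ c.carrier, ∃ k, orderOf x = p ^ k) : ∃ b : (P : Subgroup G), ConjClasses.mk (b : G) = c := by
  obtain ⟨g, rfl⟩ := ConjClasses.mk_surjective c
  obtain ⟨a, ha⟩ := exists_conj_mem_sylow P ((forall_carrier_mk (q := fun n => ∃ k, n = p ^ k)).1 hc)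
  exact ⟨⟨_, ha⟩, ConjClasses.mk_eq_mk_iff_isConj.2 (isConj_iff.2 ⟨a, rfl⟩).symm⟩

theorem kq_p_le {p : ℕ} [Fact p.Prime] (P : Sylow p G) : kq (fun n => ∃ k, n = p ^ k) G ≤ Nat.card P :=
  card_le_of_cover _ _ (kq_cover P)

theorem kq_mul_le {q r s : ℕ → Prop} {B : ℕ}
    (h : ∀ g : G, q (orderOf g) → ∃ a b, g = a * b ∧ Commute a b ∧ r (orderOf a) ∧ s (orderOf b))
    (hB : ∀ x : G, kq s (centralizer ({x} : Set G)) ≤ B) : kq q G ≤ kq r G * B := by
  classical
  let I := {c : ConjClasses G // ∀ x ∈ c.carrier, r (orderOf x)}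
  let J : I → Type u := fun c =>
    {d : ConjClasses (centralizer ({c.1.out} : Set G)) // ∀ x ∈ d.carrier, s (orderOf x)}
  haveI : Fintype I := Fintype.ofFinite _
  refine (card_le_of_cover _ (fun b : Sigma J => ConjClasses.mk (b.1.1.out * (b.2.1.out : G))) ?_).trans ?_
  · intro c hc
    obtain ⟨g, rfl⟩ := ConjClasses.mk_surjective c
    obtain ⟨a, b, rfl, h1, h2, h3⟩ := h g (forall_carrier_mk.1 hc)
    let c : I := ⟨ConjClasses.mk a, forall_carrier_mk.2 h2⟩
    obtain ⟨u, hu⟩ := isConj_iff.1 (ConjClasses.mk_eq_mk_iff_isConj.1 (Quotient.out_eq c.1).symm : IsConj a c.1.out)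
    have hb : u * b * u⁻¹ ∈ centralizer ({c.1.out} : Set G) := mem_centralizer_singleton_iff.2 (by
      rw [← hu]
      calc _ = u * (b * a) * u⁻¹ := by group
        _ = _ := by rw [← h1.eq]; group)
    let d : J c := ⟨ConjClasses.mk ⟨_, hb⟩, forall_carrier_mk.2 (by rwa [orderOf_mk, orderOf_conj])⟩
    obtain ⟨v, hv⟩ := isConj_iff.1 (ConjClasses.mk_eq_mk_iff_isConj.1 (Quotient.out_eq d.1).symm :
      IsConj ⟨_, hb⟩ d.1.out)
    refine ⟨⟨c, d⟩, ConjClasses.mk_eq_mk_iff_isConj.2 (isConj_iff.2 ⟨(v * u)⁻¹, ?_⟩)⟩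
    have h4 := mem_centralizer_singleton_iff.1 v.2
    have h5 : (d.1.out : G) = v * (u * b * u⁻¹) * (v : G)⁻¹ := (congrArg Subtype.val hv).symm
    simp only [h5]
    calc _ = u⁻¹ * (v : G)⁻¹ * (c.1.out * v) * u * b := by group
      _ = u⁻¹ * c.1.out * u * b := by rw [← h4]; group
      _ = u⁻¹ * (u * a * u⁻¹) * u * b := by rw [hu]
      _ = _ := by group
  · rw [Nat.card_sigma]
    refine (Finset.sum_le_card_nsmul _ _ B fun c _ => hB _).trans ?_
    rw [Finset.card_univ, ← Nat.card_eq_fintype_card, smul_eq_mul]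

theorem split_insert {σ : Finset ℕ} {p : ℕ} [hp : Fact p.Prime] (g : G)
    (h : ∀ r : ℕ, r.Prime → r ∣ orderOf g → r ∈ insert p σ) :
    ∃ a b, g = a * b ∧ Commute a b ∧ (∃ k, orderOf a = p ^ k) ∧ ∀ r : ℕ, r.Prime → r ∣ orderOf b → r ∈ σ := by
  obtain ⟨a, ha, b, hb, e, h1, h2⟩ := exists_p_part p g
  refine ⟨a, b, e, commute_of_mem_zpowers ha hb, h1, fun r hr hd => ?_⟩
  exact (Finset.mem_insert.1 (h r hr (hd.trans (orderOf_dvd_of_mem_zpowers hb)))).resolve_left
    fun e => h2 (e ▸ hd)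

theorem kq_pi_le (σ : Finset ℕ) (hσ : ∀ r ∈ σ, r.Prime) (G : Type u) [Group G] [Finite G] :
    kq (fun n => ∀ r : ℕ, r.Prime → r ∣ n → r ∈ σ) G ≤ ∏ r ∈ σ, r ^ (Nat.card G).factorization r := by
  induction σ using Finset.induction_on generalizing G with
  | empty =>
    refine (card_le_of_cover _ (fun _ : Unit => ConjClasses.mk (1 : G)) fun c hc => ⟨(), ?_⟩).trans (by simp)
    obtain ⟨g, rfl⟩ := ConjClasses.mk_surjective c
    have := (forall_carrier_mk (q := fun n => ∀ r : ℕ, r.Prime → r ∣ n → r ∈ (∅ : Finset ℕ))).1 hc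
    rw [orderOf_eq_one_iff.1 (Nat.eq_one_iff_not_exists_prime_dvd.2 fun r hr hd => by simpa using this r hr hd :
      orderOf g = 1)]
  | insert p σ hp ih =>
    haveI := Fact.mk (hσ p (Finset.mem_insert_self _ _))
    obtain ⟨P⟩ : Nonempty (Sylow p G) := inferInstance
    rw [Finset.prod_insert hp, ← P.card_eq_multiplicity]
    refine (kq_mul_le (s := fun n => ∀ r : ℕ, r.Prime → r ∣ n → r ∈ σ)
      (B := ∏ r ∈ σ, r ^ (Nat.card G).factorization r) split_insert fun x => ?_).trans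
      (Nat.mul_le_mul_right _ (kq_p_le P))
    refine (ih (fun r hr => hσ r (Finset.mem_insert_of_mem hr)) _).trans (Finset.prod_le_prod' fun r hr => ?_)
    exact Nat.pow_le_pow_right (hσ r (Finset.mem_insert_of_mem hr)).pos
      ((Nat.factorization_le_iff_dvd Nat.card_pos.ne' Nat.card_pos.ne').2 (card_subgroup_dvd_card _) r)

theorem kq_insert_le {σ : Finset ℕ} (hσ : ∀ r ∈ σ, r.Prime) {p : ℕ} [Fact p.Prime] :
    kq (fun n => ∀ r : ℕ, r.Prime → r ∣ n → r ∈ insert p σ) G ≤
      kq (fun n => ∃ k, n = p ^ k) G * ∏ r ∈ σ, r ^ (Nat.card G).factorization r := by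
  refine kq_mul_le (s := fun n => ∀ r : ℕ, r.Prime → r ∣ n → r ∈ σ) split_insert fun x => ?_
  refine (kq_pi_le σ hσ _).trans (Finset.prod_le_prod' fun r hr => ?_)
  exact Nat.pow_le_pow_right (hσ r hr).pos
    ((Nat.factorization_le_iff_dvd Nat.card_pos.ne' Nat.card_pos.ne').2 (card_subgroup_dvd_card _) r)

theorem norm_le_cent_of_kq {p : ℕ} [hp : Fact p.Prime] (P : Sylow p G)
    (h : (p + 1) * Nat.card (P : Subgroup G) < 2 * p * kq (fun n => ∃ k, n = p ^ k) G) :
    normalizer ((P : Subgroup G) : Set G) ≤ centralizer ((P : Subgroup G) : Set G) := by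
  set D := (centralizer (normalizer ((P : Subgroup G) : Set G) : Set G)).subgroupOf P with hD
  have h1 := two_mul_card_le _ _ (kq_cover P) (· ∈ D) fun b hb => by
    rw [hD, mem_subgroupOf, mem_centralizer_iff] at hb
    push Not at hb
    obtain ⟨n, hn, hne⟩ := hb
    exact ⟨⟨_, conj_mem_of_mem_normalizer hn b.2⟩, fun e => hne (mul_inv_eq_iff_eq_mul.1 (congrArg Subtype.val e)),
      ConjClasses.mk_eq_mk_iff_isConj.2 (isConj_iff.2 ⟨n, rfl⟩).symm⟩
  rw [le_centralizer_iff, ← subgroupOf_eq_top, ← hD]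
  by_contra hne
  obtain ⟨k, hk⟩ := IsPGroup.iff_card.1 P.isPGroup'
  have h2 : p ∣ D.index := by
    obtain ⟨j, -, hj⟩ := (Nat.dvd_prime_pow hp.out).1 (hk ▸ index_dvd_card D)
    rw [hj]
    exact dvd_pow_self p fun e => hne (index_eq_one.1 (by rw [hj, e, pow_zero]))
  have h3 : Nat.card D * p ≤ Nat.card (P : Subgroup G) := by
    rw [← D.card_mul_index]
    exact Nat.mul_le_mul_left _ (Nat.le_of_dvd (Nat.pos_of_ne_zero index_ne_zero_of_finite) h2)
  have h4 : 2 * kq (fun n => ∃ k, n = p ^ k) G ≤ Nat.card (P : Subgroup G) + Nat.card D := h1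
  nlinarith

theorem hasNPC_of_norm_le {p : ℕ} [Fact p.Prime] (P : Sylow p G)
    (h : normalizer ((P : Subgroup G) : Set G) ≤ centralizer ((P : Subgroup G) : Set G)) :
    HasNormalPComplement p G :=
  ⟨P, _, inferInstance, MonoidHom.ker_transferSylow_isComplement' P h⟩

end H1
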