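import Cfsg.Agent.H1.Reg
import Cfsg.Agent.FT.B4b

/-! H1.Mcy: metacyclic p-groups, p odd. -/

open Pointwise Cfsg Subgroup
open scoped commutatorElement

namespace H1

universe u

variable {G : Type u} [Group G] [Finite G] {p : ℕ} [hp : Fact p.Prime]

theorem pow_mem_of_relIndex_le (hG : IsPGroup p G) {H K : Subgroup G} {j : ℕ}
    (h : H.relIndex K ≤ p ^ j) {y : G} (hy : y ∈ K) : y ^ p ^ j ∈ H := by
  obtain ⟨i, hi⟩ := L.exists_relIndex_eq_pow (N := H) (hG.to_subgroup (zpowers y))
  have h1 := (relIndex_le_of_le_right (H := H) (zpowers_le.2 hy) (L.relIndex_pos _ _).ne').trans h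
  rw [hi, Nat.pow_le_pow_iff_right hp.out.one_lt] at h1
  have h2 : y ^ H.relIndex (zpowers y) ∈ H :=
    pow_index_mem (H := H.subgroupOf (zpowers y)) ⟨y, mem_zpowers y⟩
  obtain ⟨d, rfl⟩ := Nat.exists_eq_add_of_le h1
  rw [pow_add, pow_mul, ← hi]
  exact pow_mem h2 _

theorem eq_of_le_of_index_le {H K : Subgroup G} (h : H ≤ K) (e : H.index ≤ K.index) : H = K := by
  refine eq_of_le_of_card_eq h (le_antisymm (card_le_of_le h) (Nat.le_of_mul_le_mul_right ?_
    (Nat.pos_of_ne_zero (index_ne_zero_of_finite (H := K)))))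
  rw [card_mul_index, ← card_mul_index H]
  exact Nat.mul_le_mul_left _ e

theorem mem_pc_of_lt_zpowers (hG : IsPGroup p G) {c x : G} {M : Subgroup G} (h : M < zpowers c)
    (hx : x ∈ M) : ∃ j : ℕ, x = (c ^ j) ^ p := by
  obtain ⟨j, rfl⟩ := mem_powers_iff_mem_zpowers.2 (h.le hx)
  by_cases hj : p ∣ j
  · obtain ⟨j, rfl⟩ := hj
    exact ⟨j, by simp only [← pow_mul, mul_comm]⟩
  · obtain ⟨k, hk⟩ := hG.exists_orderOf_eq_pow c
    refine absurd (zpowers_le.2 (zpowers_le.2 hx (mem_zpowers_pow_iff.2 ?_))) h.not_ge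
    rw [hk]
    exact ((hp.out.coprime_iff_not_dvd.2 hj).symm.pow_right _)

theorem r1_of_cyclic (h2 : p ≠ 2) (hG : IsPGroup p G) (hc : IsCyclic (commutator G)) : R1 p G := by
  refine ⟨hG, fun a b => ⟨_, hall_petresco (left_mem_pair a b) (right_mem_pair a b) p
    fun i hi c hc' => ?_, by simp [mul_assoc]⟩⟩
  set K := closure ({a, b} : Set G)
  rcases hi.lt_or_eq with hi | hi
  · obtain ⟨k, hk⟩ := hp.out.dvd_choose_self (by omega) hi
    rw [hk, pow_mul]
    exact pow_mem (by simpa using (pow_mem_pc (p := p) (n := 1)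
      (K.lowerCentralSeries_antitone (show 1 ≤ i + 1 by omega) hc'))) _
  have h3 : c ∈ ⁅⁅K, K⁆, K⁆ := K.lowerCentralSeries_antitone (show 2 ≤ i + 1 by omega) hc'
  refine pow_mem ?_ _
  have h4 : ⁅K, K⁆ ≤ commutator G := commutator_mono le_top le_top
  obtain ⟨z, hz0, hz⟩ := exists_eq_zpowers_of_isCyclic (isCyclic_of_le h4)
  by_cases h0 : ⁅K, K⁆ = ⊥
  · rw [h0, commutator_bot_left] at h3; rw [mem_bot.1 h3]; exact one_mem _
  obtain ⟨j, rfl⟩ := mem_pc_of_lt_zpowers hG ((commutator_lt_of_isPGroup (hG.to_subgroup _)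
    (hG.to_subgroup K) (normalizer_commutator_ge_right _ _) h0).trans_eq hz.symm) h3
  simpa using pow_mem_pc (p := p) (n := 1) (pow_mem hz0 j)

theorem card_omega_le {c : G} {n : ℕ} (hc : orderOf c = p ^ n) (k : ℕ) : ∃ N : Subgroup G,
    Nat.card N ≤ p ^ k ∧ ∀ z ∈ zpowers c, z ^ p ^ k = 1 → z ∈ N := by
  refine ⟨zpowers (c ^ p ^ (n - k)), ?_, fun z hz h => ?_⟩
  · rw [Nat.card_zpowers]
    refine orderOf_le_of_pow_eq_one (pow_pos hp.out.pos _) ?_
    rw [← pow_mul, ← pow_add, ← orderOf_dvd_iff_pow_eq_one, hc]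
    exact pow_dvd_pow _ (by omega)
  · obtain ⟨j, rfl⟩ := mem_powers_iff_mem_zpowers.2 hz
    rw [← pow_mul, ← orderOf_dvd_iff_pow_eq_one, hc] at h
    have : p ^ (n - k) ∣ j := Nat.dvd_of_mul_dvd_mul_right (pow_pos hp.out.pos k) (by
      rcases le_total n k with e | e
      · simp [e]
      · rwa [← pow_add, Nat.sub_add_cancel e])
    obtain ⟨i, rfl⟩ := this
    simp only [pow_mul]
    exact pow_mem (mem_zpowers _) _

theorem R1.pow_mem_center (h : R1 p G) {x : G} {k : ℕ} :
    x ^ p ^ k ∈ center G ↔ ∀ y, Commute (y ^ p ^ k) x := by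
  rw [mem_center_iff]
  refine forall_congr' fun y => ?_
  rw [h.commute_iff, ← commutatorElement_inv, inv_pow, inv_eq_one, ← h.commute_iff, eq_comm]
  rfl

/-- odd metacyclic `p`-group -/
structure MG (p : ℕ) (G : Type u) [Group G] : Prop where
  ne : p ≠ 2
  pg : IsPGroup p G
  mc : IsMetacyclic G

namespace MG

variable (h : MG p G)
include h

omit hp in
theorem gen : ∃ a b : G, (zpowers a).Normal ∧ zpowers a ⊔ zpowers b = ⊤ := by
  obtain ⟨a, b, h1, h2⟩ := FT.meta_top_iff.2 h.mc
  exact ⟨a, b, normalizer_eq_top_iff.1 (top_le_iff.1 h1), h2⟩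

omit hp in
theorem sub (L : Subgroup G) : MG p L :=
  ⟨h.ne, h.pg.to_subgroup L, FT.meta_iff.1 ((FT.meta_top_iff.2 h.mc).le le_top)⟩

omit hp in
theorem map {G' : Type*} [Group G'] (f : G →* G') (hf : Function.Surjective f) : MG p G' := by
  have := Finite.of_surjective f hf
  obtain ⟨a, b, h1, h2⟩ := h.gen
  refine ⟨h.ne, h.pg.of_surjective f hf, FT.meta_top_iff.1 ⟨f a, f b, ?_, ?_⟩⟩
  · have := h1.map f hf
    rw [MonoidHom.map_zpowers] at this
    exact le_normalizer_of_normal
  · rw [← MonoidHom.map_zpowers, ← MonoidHom.map_zpowers, ← Subgroup.map_sup, h2,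
      map_top_of_surjective f hf]

omit hp in
theorem cyc : IsCyclic (commutator G) := (FT.meta_top_iff.2 h.mc).der_cyclic

theorem r1 : R1 p G := r1_of_cyclic h.ne h.pg h.cyc

theorem exists_n : ∃ n, Nat.card (commutator G) = p ^ n := L.exists_card_eq_pow (h.pg.to_subgroup _)

theorem index_cent {x : G} {k : ℕ} : (centralizer {x}).index ≤ p ^ k ↔ x ^ p ^ k ∈ center G := by
  refine ⟨fun h1 => h.r1.pow_mem_center.2 fun y => mem_centralizer_singleton_iff.1
    (pow_mem_of_relIndex_le h.pg (by rwa [relIndex_top_right]) (mem_top y)), fun h1 => ?_⟩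
  obtain ⟨c, -, hc⟩ := exists_eq_zpowers_of_isCyclic h.cyc
  obtain ⟨n, hn⟩ := h.pg.exists_orderOf_eq_pow c
  obtain ⟨N, h2, h3⟩ := card_omega_le hn k
  rw [← relIndex_top_right]
  exact (L.relIndex_centralizer_le fun g _ => h3 _ (hc ▸ commutator_mem_commutator trivial trivial)
    ((h.r1.commute_iff _ _ _).1 (mem_center_iff.1 h1 g).symm)).trans h2

omit hp in
theorem card_le {m : ℕ} (h0 : 0 < m) (h1 : ∀ x : G, x ^ m = 1) : Nat.card G ≤ m ^ 2 := by
  obtain ⟨a, b, h2, h3⟩ := h.gen
  have := Nat.le_of_dvd (Nat.mul_pos Nat.card_pos Nat.card_pos) (card_sup_dvd (H := zpowers b) (K := zpowers a)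
    le_normalizer_of_normal)
  rw [sup_comm, h3, card_top, Nat.card_zpowers, Nat.card_zpowers] at this
  exact this.trans (sq m ▸ Nat.mul_le_mul (orderOf_le_of_pow_eq_one h0 (h1 _))
    (orderOf_le_of_pow_eq_one h0 (h1 _)))

theorem index_pc_le (s : ℕ) : (powerClosure p s (⊤ : Subgroup G)).index ≤ p ^ (2 * s) := by
  rw [mul_comm, pow_mul]
  refine (h.map _ (QuotientGroup.mk'_surjective _)).card_le (pow_pos hp.out.pos _) fun x => ?_
  obtain ⟨x, rfl⟩ := QuotientGroup.mk_surjective x
  exact (QuotientGroup.eq_one_iff (x ^ p ^ s)).2 (pow_mem_pc trivial)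

variable {n : ℕ} (hn : Nat.card (commutator G) = p ^ n)
include hn

theorem pc_le_center : powerClosure p n ⊤ ≤ center G := pc_le_iff.2 fun x _ =>
  mem_center_iff.2 fun y => ((h.r1.commute_iff _ _ _).2 (by
    rw [← hn]
    exact pow_card_eq_one_of_mem (commutator_mem_commutator trivial trivial))).symm

theorem le_index_center : p ^ (2 * n) ≤ (center G).index := by
  obtain ⟨a, b, h2, h3⟩ := h.gen
  have h4 : ⁅a, b⁆ ∈ zpowers a := commutator_le_left _ _
    (commutator_mem_commutator (mem_zpowers a) (mem_top b))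
  have h5 : (zpowers ⁅a, b⁆).Normal := ⟨fun x hx g => zpowers_le.2 hx (conj_mem_zpowers_of_isCyclic
    (isCyclic_of_le_zpowers le_rfl) (le_normalizer_of_normal (mem_top g)) (zpowers_le.2 h4 hx))⟩
  have h6 : orderOf ⁅a, b⁆ = p ^ n := by
    rw [← hn, ← Nat.card_zpowers]
    congr 2
    refine le_antisymm (zpowers_le.2 (commutator_mem_commutator trivial trivial)) ?_
    rw [_root_.commutator_def, ← h3, zpowers_eq_closure a, zpowers_eq_closure b, ← Subgroup.closure_union]
    exact comm_pair_le (le_normalizer_of_normal (mem_top _)) (le_normalizer_of_normal (mem_top _))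
      (mem_zpowers _)
  have h7 : ∀ j, a ^ p ^ j ∈ center G → p ^ n ≤ p ^ j := fun j hj =>
    h6 ▸ orderOf_le_of_pow_eq_one (pow_pos hp.out.pos _)
      ((h.r1.commute_iff _ _ _).1 (mem_center_iff.1 hj b).symm)
  obtain ⟨i, hi⟩ := L.exists_relIndex_eq_pow (N := center G) (h.pg.to_subgroup (centralizer {a}))
  obtain ⟨j, hj⟩ := h.pg.index (centralizer {a})
  rw [← relIndex_mul_index (center_le_centralizer {a}), two_mul, pow_add, hi, hj]
  exact Nat.mul_le_mul (h7 _ (pow_mem_of_relIndex_le h.pg hi.le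
    (mem_centralizer_singleton_iff.2 rfl))) (h7 _ (h.index_cent.1 hj.le))

theorem index_center : (center G).index = p ^ (2 * n) :=
  le_antisymm ((index_antitone (h.pc_le_center hn)).trans (h.index_pc_le n)) (h.le_index_center hn)

theorem pc_eq_center : powerClosure p n ⊤ = center G :=
  eq_of_le_of_index_le (h.pc_le_center hn) (h.index_center hn ▸ h.index_pc_le n)

theorem card_coatom {M : Subgroup G} (hM : IsCoatom M) :
    Nat.card (commutator M) = p ^ (n - 1) := by
  obtain ⟨m, hm⟩ := (h.sub M).exists_n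
  rw [hm]
  congr 1
  have hΦ : ∀ y, y ^ p ∈ M := fun y => frattini_le_coatom hM (pow_mem_frattini h.pg y)
  have h1 : ∀ y, ∀ x ∈ M, Commute (y ^ p ^ (m + 1)) x := fun y x hx => by
    have := mem_center_iff.1 ((h.sub M).pc_le_center hm (pow_mem_pc (x := ⟨_, hΦ y⟩) trivial))
      ⟨x, hx⟩
    rw [pow_succ', pow_mul]
    exact (congrArg Subtype.val this).symm
  have h2 : powerClosure p (m + 1) ⊤ ≤ center G := pc_le_iff.2 fun y _ => by
    by_cases hy : y ∈ M
    · exact h.r1.pow_mem_center.2 fun w => h1 w y hy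
    · have := hM.2 (centralizer {y ^ p ^ (m + 1)}) (lt_of_le_of_ne (fun x hx =>
        mem_centralizer_singleton_iff.2 (h1 y x hx).symm) fun e => hy (e ▸
          mem_centralizer_singleton_iff.2 (Commute.self_pow y _)))
      exact mem_center_iff.2 fun g => mem_centralizer_singleton_iff.1 (this ▸ mem_top g)
  have h3 := (h.le_index_center hn).trans ((index_antitone h2).trans (h.index_pc_le _))
  rw [Nat.pow_le_pow_iff_right hp.out.one_lt] at h3
  rcases n with _ | n
  · have h4 := card_le_of_le (commutator_mono (le_top (a := M)) (le_top (a := M)))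
    rw [← L.map_commutator_subtype, card_map_of_injective M.subtype_injective, hm,
      ← _root_.commutator_def, hn, Nat.pow_le_pow_iff_right hp.out.one_lt] at h4
    omega
  have h4 : center G ≤ M := h.pc_eq_center hn ▸ pc_le_iff.2 fun y _ => by
    rw [pow_succ, pow_mul]; exact hΦ _
  have h5 : (center G).subgroupOf M ≤ center M := fun x hx =>
    mem_center_iff.2 fun y => Subtype.ext (mem_center_iff.1 hx y)
  have h6 := Nat.mul_le_mul_right M.index (index_antitone h5)
  rw [← relIndex, relIndex_mul_index h4, h.index_center hn, (h.sub M).index_center hm,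
    index_coatom_of_isPGroup h.pg hM, ← pow_succ, Nat.pow_le_pow_iff_right hp.out.one_lt] at h6
  omega

end MG

theorem mg_aux (k : ℕ) : ∀ (G : Type u) [Group G] [Finite G] (n : ℕ), MG p G →
    Nat.card (commutator G) = p ^ n → ∀ L : Subgroup G, L.index = p ^ k →
      Nat.card (commutator L) = p ^ (n - k) := by
  induction k with
  | zero =>
    intro G _ _ n _ hn L hL
    rw [pow_zero, index_eq_one] at hL
    subst hL
    rw [← card_map_of_injective (subtype_injective _), L.map_commutator_subtype]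
    exact hn
  | succ k ih =>
    intro G _ _ n h hn L hL
    obtain ⟨M, hM, h1⟩ := exists_coatom_ge (H := L) (by
      rintro rfl; exact (Nat.one_lt_pow (by omega) hp.out.one_lt).ne (index_top.symm.trans hL))
    have := ih M _ (h.sub M) (h.card_coatom hn hM) (L.subgroupOf M) (by
      rw [← relIndex_mul_index h1, index_coatom_of_isPGroup h.pg hM, pow_succ] at hL
      exact Nat.eq_of_mul_eq_mul_right hp.out.pos hL)
    rw [show n - (k + 1) = n - 1 - k by omega, ← this, ← card_map_of_injective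
      (subgroupOfEquivOfLe h1).injective (f := (subgroupOfEquivOfLe h1).toMonoidHom),
      _root_.map_commutator_eq, MonoidHom.range_eq_top.2 (subgroupOfEquivOfLe h1).surjective]
    rfl

end H1
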