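import Cfsg.Agent.H1.Mcy
import Cfsg.Agent.H1.SD

/-! H1.Mcy2: metacyclic p-groups, p odd: abelian subgroups, centralizers, factorization. -/

open Pointwise Cfsg Subgroup
open scoped commutatorElement

namespace H1

universe u

variable {G : Type u} [Group G] [Finite G] {p : ℕ} [hp : Fact p.Prime]

omit [Finite G] hp in
theorem isMulCommutative_iff_card {K : Subgroup G} :
    IsMulCommutative K ↔ Nat.card (commutator K) = 1 := by
  rw [card_eq_one, commutator_eq_bot_iff_center_eq_top]
  exact ⟨fun h => eq_top_iff.2 fun a _ => mem_center_iff.2 fun b => h.1.1 b a,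
    fun h => ⟨⟨fun a b => mem_center_iff.1 (h ▸ mem_top b) a⟩⟩⟩

theorem exists_pow_of_pow_eq_one {c z : G} {n k : ℕ} (hc : orderOf c = p ^ n) (hz : z ∈ zpowers c)
    (h : z ^ p ^ k = 1) : ∃ i : ℕ, z = (c ^ i) ^ p ^ (n - k) := by
  obtain ⟨j, rfl⟩ := mem_powers_iff_mem_zpowers.2 hz
  rw [← pow_mul, ← orderOf_dvd_iff_pow_eq_one, hc] at h
  have : p ^ (n - k) ∣ j := Nat.dvd_of_mul_dvd_mul_right (pow_pos hp.out.pos k) (by
    rcases le_total n k with e | e
    · simp [e]
    · rwa [← pow_add, Nat.sub_add_cancel e])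
  obtain ⟨i, rfl⟩ := this
  exact ⟨i, by simp only [← pow_mul, mul_comm]⟩

theorem le_or_le_of_cyclic (hG : IsPGroup p G) {C A B : Subgroup G} (hC : IsCyclic C) (hA : A ≤ C)
    (hB : B ≤ C) : A ≤ B ∨ B ≤ A := by
  obtain ⟨a, ha⟩ := L.exists_card_eq_pow (hG.to_subgroup A)
  obtain ⟨b, hb⟩ := L.exists_card_eq_pow (hG.to_subgroup B)
  obtain ⟨c, -, rfl⟩ := exists_eq_zpowers_of_isCyclic hC
  obtain ⟨n, hn⟩ := hG.exists_orderOf_eq_pow c
  wlog e : a ≤ b generalizing A B a b
  · exact (this _ hb _ ha hB hA (by omega)).symm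
  obtain ⟨N, h1, h2⟩ := card_omega_le hn b
  have h3 : B ≤ N := fun x hx => h2 x (hB hx) (hb ▸ pow_card_eq_one_of_mem hx)
  refine Or.inl fun x hx => eq_of_le_of_card_eq h3 (le_antisymm (card_le_of_le h3) (hb ▸ h1)) ▸
    h2 x (hA hx) (L.pow_eq_one_of_dvd (pow_card_eq_one_of_mem hx) (ha ▸ pow_dvd_pow p e))

namespace MG

variable (h : MG p G)
include h

theorem der_le_pc : commutator G ≤ powerClosure p 1 ⊤ :=
  L.lcs_le_of_index_le h.pg _ 0 (h.index_pc_le 1)

theorem frattini_eq : frattini G = powerClosure p 1 ⊤ :=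
  le_antisymm (frattini_le_of_elementary hp.out h.der_le_pc fun x => by
    simpa using pow_mem_pc (p := p) (n := 1) (mem_top x))
    (pc_le_iff.2 fun x _ => by simpa using pow_mem_frattini h.pg x)

theorem comm_iff' {n k : ℕ} (hn : Nat.card (commutator G) = p ^ n) {K : Subgroup G}
    (hk : K.index = p ^ k) : IsMulCommutative K ↔ n ≤ k := by
  rw [isMulCommutative_iff_card, mg_aux k G n h hn K hk, Nat.pow_eq_one, Nat.sub_eq_zero_iff_le]
  simp [hp.out.ne_one]

theorem comm_iff (K : Subgroup G) : IsMulCommutative K ↔ Nat.card K ≤ (commutator G).index := by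
  obtain ⟨n, hn⟩ := h.exists_n
  obtain ⟨k, hk⟩ := h.pg.index K
  have e : Nat.card K * p ^ k = (commutator G).index * p ^ n := by
    rw [← hk, card_mul_index, ← hn, index_mul_card]
  rw [h.comm_iff' hn hk, ← Nat.mul_le_mul_right_iff (n := Nat.card K) (pow_pos hp.out.pos k), e,
    Nat.mul_le_mul_left_iff (Nat.pos_of_ne_zero index_ne_zero_of_finite),
    Nat.pow_le_pow_iff_right hp.out.one_lt]

theorem maximal_iff (K : Subgroup G) : Maximal (fun K : Subgroup G => IsMulCommutative K) K ↔
    Nat.card K = (commutator G).index := by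
  refine ⟨fun hK => ?_, fun e => ⟨(h.comm_iff K).2 e.le, fun M h1 h2 =>
    (eq_of_le_of_card_eq h2 (le_antisymm (card_le_of_le h2) (e ▸ (h.comm_iff M).1 h1))).ge⟩⟩
  obtain ⟨a, ha⟩ := L.exists_card_eq_pow (h.pg.to_subgroup K)
  obtain ⟨b, hb⟩ := h.pg.index (commutator G)
  have h1 := (h.comm_iff K).1 hK.1
  refine h1.antisymm ?_
  rw [ha, hb, Nat.pow_le_pow_iff_right hp.out.one_lt] at h1
  obtain ⟨d, rfl⟩ := Nat.exists_eq_add_of_le h1
  obtain ⟨S, h2, h3⟩ := Sylow.exists_subgroup_card_pow_prime_le p (n := a) (m := a + d)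
    (hb ▸ index_dvd_card _) K ha (by omega)
  rw [hb, ← h2]
  exact card_le_of_le (hK.2 ((h.comm_iff S).2 (h2.trans hb.symm).le) h3)

theorem card_mul_center : Nat.card G * Nat.card (center G) = (commutator G).index ^ 2 := by
  obtain ⟨n, hn⟩ := h.exists_n
  refine Nat.eq_of_mul_eq_mul_right (pow_pos hp.out.pos (2 * n)) ?_
  rw [mul_assoc, ← h.index_center hn, card_mul_index, h.index_center hn, mul_comm 2, pow_mul,
    ← mul_pow, ← hn, index_mul_card, sq]

theorem index_der {K : Subgroup G} (hK : ¬ IsMulCommutative K) :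
    (commutator K).index = (commutator G).index := by
  obtain ⟨n, hn⟩ := h.exists_n
  obtain ⟨k, hk⟩ := h.pg.index K
  have h1 := mg_aux k G n h hn K hk
  rw [h.comm_iff' hn hk] at hK
  refine Nat.eq_of_mul_eq_mul_right (pow_pos hp.out.pos n) ?_
  rw [← hn, index_mul_card, hn, show n = n - k + k by omega, pow_add, ← mul_assoc, ← h1,
    index_mul_card, ← hk, card_mul_index]

theorem card_mul_le {R C : Subgroup G} (hc : C ≤ centralizer (R : Set G)) :
    Nat.card R * Nat.card C ≤ (commutator G).index ^ 2 := by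
  wlog e : ⁅C, C⁆ ≤ ⁅R, R⁆ generalizing R C
  · rw [mul_comm]
    exact this (le_centralizer_iff.1 hc) ((le_or_le_of_cyclic h.pg h.cyc (commutator_mono le_top
      le_top) (commutator_mono le_top le_top)).resolve_left e)
  have hR : R ≤ normalizer ((⁅R, R⁆ : Subgroup G) : Set G) := normalizer_commutator_ge_right _ _
  have hC : C ≤ normalizer ((⁅R, R⁆ : Subgroup G) : Set G) := (hc.trans (centralizer_le
    (commutator_le_of_le_normalizer le_normalizer))).trans (centralizer_le_normalizer _)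
  have h0 : ⁅C, R⁆ ≤ ⁅R, R⁆ := (commutator_eq_bot_iff_le_centralizer.2 hc).le.trans bot_le
  have h1 : ⁅R ⊔ C, R ⊔ C⁆ = ⁅R, R⁆ := le_antisymm (H9.commutator_sup_le hR hC
    ((commutator_comm_le _ _).trans (H9.commutator_sup_le hR hC le_rfl h0))
    ((commutator_comm_le _ _).trans (H9.commutator_sup_le hR hC ((commutator_comm_le _ _).trans h0)
      e))) (commutator_mono le_sup_left le_sup_left)
  clear hR
  have h2 : Nat.card (commutator ↥(R ⊔ C)) = Nat.card (commutator R) := by
    rw [← card_map_of_injective (subtype_injective _), L.map_commutator_subtype, h1,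
      ← L.map_commutator_subtype, card_map_of_injective (subtype_injective _)]
  by_cases hR : IsMulCommutative R
  · have := (h.comm_iff _).1 (isMulCommutative_iff_card.2 (h2.trans
      (isMulCommutative_iff_card.1 hR)))
    exact sq (commutator G).index ▸ Nat.mul_le_mul ((card_le_of_le le_sup_left).trans this)
      ((card_le_of_le le_sup_right).trans this)
  have h3 : R = R ⊔ C := eq_of_le_of_card_eq le_sup_left (by
    rw [← index_mul_card (commutator R), ← index_mul_card (commutator ↥(R ⊔ C)), h2, h.index_der hR,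
      h.index_der fun h4 => hR (isMulCommutative_of_le le_sup_left h4)])
  rw [← h.index_der hR, ← (h.sub R).card_mul_center, ← card_map_of_injective (subtype_injective R),
    map_center_eq]
  exact Nat.mul_le_mul_left _ (card_le_of_le (le_inf (le_sup_right.trans h3.ge) hc))

end MG

theorem mg_card_le : ∀ (G : Type u) [Group G] [Finite G], MG p G → ∀ x y : G,
    closure {x, y} = ⊤ → Nat.card G ≤ orderOf x * orderOf y := by
  apply group_induction
  intro G _ _ ih h x y e
  by_cases hx : x = 1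
  · have : zpowers y = ⊤ := top_le_iff.1 (e.ge.trans (pair_le (hx ▸ one_mem _) (mem_zpowers y)))
    rw [hx, orderOf_one, one_mul, ← Nat.card_zpowers, this, card_top]
  by_cases hy : y = 1
  · have : zpowers x = ⊤ := top_le_iff.1 (e.ge.trans (pair_le (mem_zpowers x) (hy ▸ one_mem _)))
    rw [hy, orderOf_one, mul_one, ← Nat.card_zpowers, this, card_top]
  set U := powerClosure p 1 (⊤ : Subgroup G)
  have h1 : ∀ g, g ^ p ^ 1 ∈ closure {x ^ p ^ 1, y ^ p ^ 1} ⊔ L.Phi U := fun g => by
    have hg : g ∈ closure {x, y} := e ▸ mem_top g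
    induction hg using closure_induction with
    | mem z hz =>
      rcases hz with rfl | rfl
      exacts [mem_sup_left (left_mem_pair _ _), mem_sup_left (right_mem_pair _ _)]
    | one => simp
    | mul a b _ _ ha hb =>
      obtain ⟨c, h2, h3⟩ := h.r1.2 a b
      rw [pow_one] at *
      rw [h3]
      refine mul_mem (mul_mem ha hb) (mem_sup_right (pc_le_iff.2 (fun z hz => ?_) h2))
      simpa using L.pow_mem_Phi (h.pg.to_subgroup U)
        (h.der_le_pc (commutator_mono le_top le_top hz))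
    | inv a _ ha => simpa using ha
  have h2 := eq_of_sup_frattini (pair_le (pow_mem_pc (mem_top x)) (pow_mem_pc (mem_top y)))
    (pc_le_iff.2 fun g _ => h1 g)
  have : Nontrivial G := ⟨x, 1, hx⟩
  have h3 := ih U (card_subgroup_lt fun e => frattini_ne_top (h.frattini_eq.trans e)) (h.sub U)
    ⟨_, pow_mem_pc (mem_top x)⟩ ⟨_, pow_mem_pc (mem_top y)⟩ (map_injective U.subtype_injective (by
      rw [map_closure_pair, ← MonoidHom.range_eq_map, range_subtype]; exact h2))
  have h4 : ∀ z : G, z ≠ 1 → orderOf z = orderOf (z ^ p ^ 1) * p := fun z hz => by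
    have := h.pg.dvd_orderOf hz
    rw [pow_one, orderOf_pow_of_dvd hp.out.ne_zero this, Nat.div_mul_cancel this]
  rw [← card_mul_index U, h4 x hx, h4 y hy, mul_mul_mul_comm]
  exact Nat.mul_le_mul (by simpa using h3) (by simpa [sq] using h.index_pc_le 1)

theorem MG.exists_disjoint (h : MG p G) : ∃ x y : G, closure {x, y} = ⊤ ∧
    zpowers x ⊓ zpowers y = ⊥ ∧ orderOf x * orderOf y = Nat.card G := by
  have h0 : ∃ m, ∃ x y : G, closure {x, y} = ⊤ ∧ orderOf y ≤ orderOf x ∧ orderOf y = m := by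
    obtain ⟨a, b, -, h1⟩ := h.gen
    rw [zpowers_eq_closure a, zpowers_eq_closure b, ← Subgroup.closure_union] at h1
    rcases le_total (orderOf a) (orderOf b) with e | e
    · exact ⟨_, b, a, by rwa [Set.pair_comm], e, rfl⟩
    · exact ⟨_, a, b, h1, e, rfl⟩
  classical
  obtain ⟨x, y, h1, h2, h3⟩ := Nat.find_spec h0
  have h4 : zpowers x ⊓ zpowers y = ⊥ := by
    by_contra h4
    obtain ⟨z, hz, h5⟩ := exists_mem_orderOf_eq_prime hp.out
      (((h.pg.to_subgroup _).card_eq_or_dvd).resolve_left (mt card_eq_one.1 h4))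
    have h6 : z ^ p ^ 1 = 1 := by rw [pow_one, ← h5, pow_orderOf_eq_one]
    obtain ⟨e, he⟩ := h.pg.exists_orderOf_eq_pow x
    obtain ⟨f, hf⟩ := h.pg.exists_orderOf_eq_pow y
    obtain ⟨i, hi⟩ := exists_pow_of_pow_eq_one he hz.1 h6
    obtain ⟨j, hj⟩ := exists_pow_of_pow_eq_one hf hz.2 h6
    have h7 : z ≠ 1 := by rintro rfl; exact hp.out.ne_one (by simpa using h5.symm)
    have h8 : f ≠ 0 := by
      rintro rfl
      rw [pow_zero, orderOf_eq_one_iff] at hf
      exact h7 (by simpa [hf] using hj)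
    rw [he, hf, Nat.pow_le_pow_iff_right hp.out.one_lt] at h2
    have h9 := (h.r1.pow_pow_eq_iff (f - 1) (y ^ j) ((x ^ i) ^ p ^ (e - f))).1 (by
      rw [← hj, ← pow_mul, ← pow_add, hi]; congr 2; omega)
    have h10 := orderOf_le_of_pow_eq_one (pow_pos hp.out.pos _) h9
    have h11 : p ^ (f - 1) < p ^ f := Nat.pow_lt_pow_right hp.out.one_lt (by omega)
    refine Nat.find_min h0 (h3 ▸ hf ▸ h10.trans_lt h11) ⟨x, _, top_le_iff.1 (h1.ge.trans (pair_le
      (left_mem_pair _ _) ?_)), h10.trans (he ▸ Nat.pow_le_pow_right hp.out.pos (by omega)), rfl⟩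
    refine zpowers_le.2 ((Subgroup.mul_mem_cancel_right _ (inv_mem (pow_mem (pow_mem
      (left_mem_pair _ _) i) _))).1 (right_mem_pair _ _)) (mem_zpowers_pow_iff.2 ?_)
    rw [hf]
    refine ((hp.out.coprime_iff_not_dvd.2 ?_).symm.pow_right _)
    rintro ⟨j, rfl⟩
    refine h7 ?_
    rw [hj, ← pow_mul, ← orderOf_dvd_iff_pow_eq_one, hf, mul_right_comm, ← pow_succ',
      Nat.sub_add_cancel (by omega)]
    exact dvd_mul_right _ _
  refine ⟨x, y, h1, h4, le_antisymm ?_ (mg_card_le G h x y h1)⟩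
  rw [← Nat.card_zpowers, ← Nat.card_zpowers, ← Nat.card_prod]
  exact Nat.card_le_card_of_injective _ (mul_injective_of_disjoint (disjoint_iff.2 h4))

theorem MG.le_card_mul (h : MG p G) {R : Subgroup G} (hR : center G ≤ R) :
    (commutator G).index ^ 2 ≤ Nat.card R * Nat.card (centralizer (R : Set G)) := by
  let f := QuotientGroup.mk' (center G)
  obtain ⟨⟨_, x, hx, rfl⟩, ⟨_, y, hy, rfl⟩, h1, -, h2⟩ :=
    ((h.map f (QuotientGroup.mk'_surjective _)).sub (R.map f)).exists_disjoint
  have h3 : ∀ z : G, (centralizer {z}).index ≤ orderOf (f z) := fun z => by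
    obtain ⟨k, hk⟩ := (h.pg.to_quotient _).exists_orderOf_eq_pow (f z)
    rw [hk, h.index_cent, ← QuotientGroup.eq_one_iff]
    exact hk ▸ pow_orderOf_eq_one (f z)
  have h4 : centralizer {x} ⊓ centralizer {y} ≤ centralizer (R : Set G) := fun g hg => by
    have h5 := congrArg (fun K => (K.map (R.map f).subtype).comap f) h1
    simp only [map_closure_pair, ← MonoidHom.range_eq_map, range_subtype, coe_subtype] at h5
    rw [← map_closure_pair, comap_map_eq, comap_map_eq, QuotientGroup.ker_mk', sup_eq_left.2 hR] at h5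
    have : R ≤ centralizer {g} := h5 ▸ sup_le (pair_le (mem_centralizer_singleton_iff.2
      (mem_centralizer_singleton_iff.1 hg.1).symm) (mem_centralizer_singleton_iff.2
      (mem_centralizer_singleton_iff.1 hg.2).symm)) (center_le_centralizer _)
    exact fun r hr => mem_centralizer_singleton_iff.1 (this hr)
  have h5 := (index_antitone h4).trans (index_inf_le.trans (Nat.mul_le_mul (h3 x) (h3 y)))
  simp only [← orderOf_coe] at h2
  rw [h2, ← relIndex_ker, QuotientGroup.ker_mk'] at h5
  rw [← h.card_mul_center, ← card_mul_index (centralizer (R : Set G)), ← card_mul_relIndex hR]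
  nlinarith [Nat.mul_le_mul_left (Nat.card (centralizer (R : Set G)) * Nat.card (center G)) h5]

theorem MG.mem_pc_iff (h : MG p G) {n s : ℕ} (hn : Nat.card (commutator G) = p ^ n) (hs : s ≤ n)
    {g : G} : g ∈ powerClosure p s ⊤ ↔ (centralizer {g}).index ≤ p ^ (n - s) := by
  refine ⟨fun hg => ?_, fun hg => ?_⟩
  · obtain ⟨x, -, rfl⟩ := h.r1.mem_pc s _ g hg
    rw [h.index_cent, ← pow_mul, ← pow_add, Nat.add_sub_cancel' hs]
    exact h.pc_le_center hn (pow_mem_pc trivial)
  obtain ⟨k, hk⟩ := h.pg.index (centralizer {g})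
  have h1 := (h.sub _).pc_eq_center (mg_aux k G n h hn _ hk)
  have h2 : (⟨g, mem_centralizer_singleton_iff.2 rfl⟩ : centralizer {g}) ∈ center _ :=
    mem_center_iff.2 fun y => Subtype.ext (mem_centralizer_singleton_iff.1 y.2)
  obtain ⟨x, -, hx⟩ := (h.sub _).r1.mem_pc _ _ _ (h1.ge h2)
  rw [hk, Nat.pow_le_pow_iff_right hp.out.one_lt] at hg
  rw [show g = x ^ p ^ (n - k) from congrArg Subtype.val hx, show n - k = n - k - s + s by omega,
    pow_add, pow_mul]
  exact pow_mem_pc trivial

theorem MG.card_pc (h : MG p G) {n s : ℕ} (hn : Nat.card (commutator G) = p ^ n) (hs : s ≤ n) :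
    Nat.card (powerClosure p (n - s) (⊤ : Subgroup G)) = Nat.card (center G) * p ^ (2 * s) := by
  set U := powerClosure p (n - s) (⊤ : Subgroup G)
  have h1 : center G ≤ U := h.pc_eq_center hn ▸ pc_le_iff.2 fun x _ => by
    rw [show n = s + (n - s) by omega, pow_add, pow_mul]; exact pow_mem_pc trivial
  have h2 : powerClosure p s ⊤ ≤ (center G).subgroupOf U := pc_le_iff.2 fun x _ =>
    h.index_cent.1 (((h.mem_pc_iff hn (by omega)).1 x.2).trans_eq (by rw [Nat.sub_sub_self hs]))
  have h3 := (index_antitone h2).trans ((h.sub U).index_pc_le s)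
  have h4 := h.index_pc_le (n - s)
  have h5 := (relIndex_mul_index h1).trans (h.index_center hn)
  rw [← card_mul_relIndex h1]
  congr 1
  refine h3.antisymm (Nat.le_of_mul_le_mul_right ?_ (pow_pos hp.out.pos (2 * (n - s))))
  rw [← pow_add, show 2 * s + 2 * (n - s) = 2 * n by omega, ← h5]
  exact Nat.mul_le_mul_left _ h4

theorem pc_top_eq {n : ℕ} : closure {x : G | ∃ y : G, y ^ p ^ n = x} = powerClosure p n ⊤ := by
  simp [powerClosure, eq_comm]

end H1
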