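import Cfsg.Agent.H9.Quad
import Cfsg.Agent.H9.Sec
import Cfsg.Agent.H9.MS1
import Cfsg.Agent.H1.Hall
import Cfsg.Agent.H1.Fitting
import Cfsg.Agent.H1.SylN

/-! H1.PN2: groups whose maximal subgroups are `p`-nilpotent or of prime index. -/

open Cfsg Subgroup H9
open scoped commutatorElement

namespace H1

universe u

section
variable {G : Type*} [Group G] [Finite G] {p : ℕ} [hp : Fact p.Prime]

theorem syl_ker_Ores {G' : Type*} [Group G'] [Finite G'] (f : G →* G') {X : Subgroup G}
    (hk : IsPGroup p f.ker) (h : NPC p (X.map f)) :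
    Syl p (f.ker ⊓ Ores p X) (Ores p X) ∧
      (f.ker ⊓ Ores p X).relIndex (Ores p X) = Nat.card ((Ores p X).map f) := by
  have e : (f.ker ⊓ Ores p X).relIndex (Ores p X) = Nat.card ((Ores p X).map f) := by
    have a := card_eq_card_map_mul f (Ores p X)
    have b := H1.card_mul_relIndex (H := f.ker ⊓ Ores p X) (K := Ores p X) inf_le_right
    rw [← b, mul_comm] at a
    exact Nat.eq_of_mul_eq_mul_right Nat.card_pos a
  refine ⟨⟨inf_le_right, hk.to_le inf_le_left, ?_⟩, e⟩
  rw [e, map_Ores]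
  exact cop_iff.1 h

theorem npc_of_central {G' : Type*} [Group G'] [Finite G'] (f : G →* G') {X : Subgroup G}
    (hk : IsPGroup p f.ker) (hc : f.ker ⊓ X ≤ centralizer (X : Set G)) (h : NPC p (X.map f)) :
    NPC p X := by
  have hS := (syl_ker_Ores f hk h).1
  have : NPC p (Ores p X) := by
    refine npc_of_central_syl hS (inf_le_left.trans ((Ores_le p X).trans ?_))
    exact le_centralizer_iff.1 ((inf_le_inf_left _ (Ores_le p X)).trans hc)
  rwa [NPC, Ores_Ores] at this

theorem npc_of_frattini {G' : Type*} [Group G'] [Finite G'] (f : G →* G') {X : Subgroup G} [X.Normal]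
    (hk : IsPGroup p f.ker) (hc : f.ker ≤ frattini G) (h : NPC p (X.map f)) : NPC p X := by
  obtain ⟨hS, e⟩ := syl_ker_Ores f hk h
  set Y := Ores p X with hY
  haveI : Y.Normal := normal_of_top_le (normalizer_Ores (top_le_normalizer X))
  set P := f.ker ⊓ Y with hP
  haveI : P.Normal := inferInstance
  have nP : ∀ Z : Subgroup G, Z ≤ normalizer (P : Set G) := fun Z => le_top.trans (top_le_normalizer P)
  obtain ⟨k, hk'⟩ := hS.isP.exists_card_eq
  have c1 : (P.relIndex Y).Coprime p := cop_iff.2 hS.not_dvd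
  obtain ⟨A, a1, a2, a3, a4⟩ := exists_complement_rel hS.le (nP Y) (by rw [hk']; exact (c1.symm.pow_left k))
  have hA : normalizer (A : Set G) = ⊤ := by
    refine frattini_nongenerating (eq_top_iff.2 fun g _ => ?_)
    haveI := hS.isP.isNilpotent
    obtain ⟨n, hn, hn'⟩ := exists_conj_le_of_solvable_right (A := A) (N := P) inferInstance (nP A) a2
      (B := cj g A) (by rw [a3, ← cj_eq_of_normal g Y]; exact cj_mono g a1)
      (by rw [card_cj, a4, hk']; exact c1.pow_right k)
    have : n * g ∈ normalizer (A : Set G) := mem_normalizer_of_cj_le (by rw [cj_mul]; exact hn')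
    have e : g = n⁻¹ * (n * g) := by group
    rw [e]
    exact mul_mem (inv_mem (mem_sup_right (hc hn.1))) (mem_sup_left this)
  have : Ores p Y ≤ A := Ores_le_of_sup hS.isP (by rw [hA]; exact le_top) a3.ge
  rw [hY, Ores_Ores] at this
  exact cop_of_le (by rw [a4]; exact c1) this

theorem npc_of_index {M : Subgroup G}
    (h : ∃ K : Subgroup M, K.Normal ∧ ¬ p ∣ Nat.card K ∧ ∃ k : ℕ, K.index = p ^ k) : NPC p M := by
  obtain ⟨K, hK, h1, k, h2⟩ := h
  have : Ores p M ≤ K.map M.subtype := by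
    refine (Ores_le_iff_relIndex ?_).2 ⟨k, ?_⟩
    · have := map_le_normalizer_map M.subtype (top_le_normalizer K)
      rwa [← MonoidHom.range_eq_map, range_subtype] at this
    · rw [relIndex, ← h2]
      congr 1
      exact comap_map_eq_self_of_injective M.subtype_injective K
  refine cop_of_le ?_ this
  rw [card_map_of_injective M.subtype_injective]
  exact cop_iff.2 h1

end

theorem le_Opp_of_max {p : ℕ} [hp : Fact p.Prime] (G₀ : Type u) [Group G₀]
    (h0 : ∀ (Q : Type u) [Group Q] (f : G₀ →* Q), Function.Surjective f → Nontrivial Q →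
      ∃ M : Subgroup Q, M.Normal ∧ M ≠ ⊥ ∧ (IsPGroup p M ∨ (Nat.card M).Coprime p)) (n : ℕ) :
    ∀ (G : Type u) [Group G] [Finite G] (f₀ : G₀ →* G), Function.Surjective f₀ → Nat.card G = n →
      (∀ M : Subgroup G, IsCoatom M → NPC p M ∨ M.index.Prime) →
      ∀ T : Subgroup G, IsPGroup p T → T ≤ Ores p ⊤ → T ≤ Opp p ⊤ := by
  induction n using Nat.strong_induction_on with
  | _ n ih =>
  intro G _ _ f₀ hf₀ hn hmax T hT hTO
  rcases subsingleton_or_nontrivial G with hG | hG
  · intro x _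
    rw [Subsingleton.elim x 1]; exact one_mem _
  obtain ⟨N₀, n1, n2, n3⟩ := h0 G f₀ hf₀ hG
  obtain ⟨N, m1, m2, m3, m4⟩ := exists_minimal_normal_le N₀ n2
  set f := QuotientGroup.mk' N with hf
  have fs : Function.Surjective f := QuotientGroup.mk'_surjective N
  have fk : f.ker = N := QuotientGroup.ker_mk' N
  have ft : (⊤ : Subgroup G).map f = ⊤ := map_top_of_surjective f fs
  have hlt : Nat.card (G ⧸ N) < n := by
    rw [← hn, card_eq_card_quotient_mul_card_subgroup N]
    exact lt_mul_of_one_lt_right Nat.card_pos ((one_lt_card_iff_ne_bot N).2 m2)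
  have tO : T.map f ≤ Ores p ⊤ := by rw [← ft, ← map_Ores]; exact map_mono hTO
  have IH := ih _ hlt (G ⧸ N) (f.comp f₀) (fs.comp hf₀) rfl (fun M hM => by
    rcases hmax _ (isCoatom_comap_of_surjective fs hM) with h | h
    · left
      have := h.map f
      rwa [map_comap_eq_self_of_surjective fs] at this
    · right
      rwa [index_comap_of_surjective M fs] at h) (T.map f) (hT.map f) tO
  haveI : (Opp p (⊤ : Subgroup (G ⧸ N))).Normal := normal_of_top_le (le_normalizer_Opp p ⊤)
  set X := (Opp p (⊤ : Subgroup (G ⧸ N))).comap f with hX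
  have tX : T ≤ X := map_le_iff_le_comap.1 IH
  have xn : NPC p (X.map f) := (Opp_npc p ⊤).mono (map_comap_le _ _)
  have fin : ∀ Z : Subgroup G, Z.Normal → T ≤ Z → NPC p Z → T ≤ Opp p ⊤ := fun Z _ a b =>
    a.trans (le_Opp le_top (top_le_normalizer Z) b)
  rcases n3 with n3 | n3
  swap
  · exact fin X inferInstance tX (xn.of_map f (cop_of_le n3 (inf_le_left.trans (fk.le.trans m3))))
  have np : IsPGroup p N := n3.to_le m3
  by_cases hF : N ≤ frattini G
  · exact fin X inferInstance tX (npc_of_frattini f (fk.symm ▸ np) (fk.le.trans hF) xn)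
  obtain ⟨M, hM, hNM⟩ : ∃ M : Subgroup G, IsCoatom M ∧ ¬ N ≤ M := by
    by_contra hc
    push Not at hc
    exact hF (le_iInf₂ hc)
  have sup : M ⊔ N = ⊤ := hM.2 _ (lt_of_le_of_ne le_sup_left fun e => hNM (e ▸ le_sup_right))
  rcases hmax M hM with h | h
  · have h1 : NPC p (⊤ : Subgroup (G ⧸ N)) := by
      have := h.map f
      rwa [← sup_bot_eq (M.map f), ← (Subgroup.map_eq_bot_iff N).2 fk.ge, ← Subgroup.map_sup, sup, ft] at this
    have h2 : T.map f = ⊥ := eq_bot_of_p_p' (hT.map f) (cop_of_le h1 tO)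
    rw [Subgroup.map_eq_bot_iff, fk] at h2
    exact fin N m1 h2 (npc_of_p np)
  have hlt' : N ⊓ M < N := lt_of_le_of_ne inf_le_left fun e => hNM (e ▸ inf_le_right)
  have hb : N ⊓ M = ⊥ := by
    have a := lt_normalizer_of_nilpotent np.isNilpotent hlt'
    obtain ⟨x, hx, hx'⟩ := SetLike.exists_of_lt a
    have b : M ≤ normalizer ((N ⊓ M : Subgroup G) : Set G) :=
      H1.le_normalizer_inf (le_top.trans (top_le_normalizer N)) Subgroup.le_normalizer
    have c : normalizer ((N ⊓ M : Subgroup G) : Set G) = ⊤ :=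
      hM.2 _ (lt_of_le_of_ne b fun e => hx' ⟨hx.2, e ▸ hx.1⟩)
    exact (m4 _ (normalizer_eq_top_iff.1 c) inf_le_left).resolve_right hlt'.ne
  have hc : Nat.card N = M.index := by
    have a := relIndex_mul_card_inf M N
    rw [hb, card_bot, mul_one] at a
    rw [← a, ← relIndex_top_right, ← sup, relIndex_sup_of_le le_rfl (le_top.trans (top_le_normalizer N))]
  haveI : Fact (Nat.card N).Prime := ⟨hc ▸ h⟩
  have hcT : N ≤ centralizer (T : Set G) := by
    have a := inf_centralizer_ne_bot_of_p np hT (le_top.trans (top_le_normalizer N)) m2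
    rcases (((N ⊓ centralizer (T : Set G)).subgroupOf N).eq_bot_or_eq_top_of_prime_card) with e | e
    · rw [subgroupOf_eq_bot, disjoint_iff, inf_eq_left.2 inf_le_left] at e
      exact absurd e a
    · exact (subgroupOf_eq_top.1 e).trans inf_le_right
  refine fin (X ⊓ centralizer (N : Set G)) inferInstance (le_inf tX (le_centralizer_iff.1 hcT)) ?_
  refine npc_of_central f (fk.symm ▸ np) ?_ (xn.mono (map_mono inf_le_left))
  exact inf_le_left.trans (fk.le.trans (le_centralizer_iff.1 inf_le_right))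

theorem chain_of_max {p : ℕ} [hp : Fact p.Prime] {G : Type u} [Group G] [Finite G]
    (h0 : ∀ (Q : Type u) [Group Q] (f : G →* Q), Function.Surjective f → Nontrivial Q →
      ∃ M : Subgroup Q, M.Normal ∧ M ≠ ⊥ ∧ (IsPGroup p M ∨ (Nat.card M).Coprime p))
    (hmax : ∀ M : Subgroup G, IsCoatom M →
      (∃ K : Subgroup ↥M, K.Normal ∧ ¬ p ∣ Nat.card K ∧ ∃ k : ℕ, K.index = p ^ k) ∨ (M.index).Prime) :
    ∃ A B C : Subgroup G, A.Normal ∧ B.Normal ∧ C.Normal ∧ A ≤ B ∧ B ≤ C ∧ ¬ p ∣ Nat.card A ∧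
      (∃ k : ℕ, A.relIndex B = p ^ k) ∧ ¬ p ∣ B.relIndex C ∧ ∃ k : ℕ, C.index = p ^ k := by
  obtain ⟨T, hT⟩ := exists_syl (p := p) (Ores p (⊤ : Subgroup G))
  have h := le_Opp_of_max G h0 _ G (MonoidHom.id G) Function.surjective_id rfl
    (fun M hM => (hmax M hM).imp_left npc_of_index) T hT.isP hT.le
  haveI n1 : (Opp p (⊤ : Subgroup G)).Normal := normal_of_top_le (le_normalizer_Opp p ⊤)
  haveI n2 : (Op' p (⊤ : Subgroup G)).Normal := normal_of_top_le (le_normalizer_Op' p ⊤)
  haveI n3 : (Ores p (⊤ : Subgroup G)).Normal := normal_of_top_le (le_normalizer_Ores p ⊤)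
  refine ⟨Op' p ⊤, Opp p ⊤, Ores p ⊤ ⊔ Opp p ⊤, n2, n1, inferInstance, Op'_le_Opp p ⊤, le_sup_right,
    cop_iff.1 (Op'_cop p ⊤), ?_, ?_, ?_⟩
  · refine (Ores_le_iff_relIndex (le_top.trans (top_le_normalizer _))).1 ?_
    rw [(Opp_npc p ⊤).Ores_eq, Op'_Opp]
  · rw [H1.relIndex_sup_of_le_normalizer (le_top.trans (top_le_normalizer _))]
    exact hT.not_dvd_of_le' h
  · rw [← relIndex_top_right]
    exact (Ores_le_iff_relIndex (top_le_normalizer _)).1 le_sup_left

end H1
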