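import Cfsg.Agent.H1.Sig0
import Cfsg.Agent.H1.FF4
import Cfsg.Agent.H1.Frattini
import Cfsg.Agent.H1.Misc3
import Cfsg.Agent.H1.Primitive
import Cfsg.Agent.H5.Dih
import Cfsg.Agent.H9.MS3
import Cfsg.Agent.L.PG1

/-! H1.Q1: small offenders for `p = 2`; two conjugates of an abelian `p`-subgroup. -/

open Pointwise Cfsg Subgroup H9
open scoped commutatorElement

namespace H1

universe u

variable {G : Type*} [Group G] [Finite G] {p : ℕ} [hp : Fact p.Prime]

theorem exists_relIndex_p {A : Subgroup G} (hA : IsPGroup p A) (h : A ≠ ⊥) : ∃ B ≤ A, B.relIndex A = p := by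
  have : Nontrivial A := (nontrivial_iff_ne_bot A).2 h
  obtain ⟨M, hM, -⟩ := exists_coatom_ge (G := A) (H := ⊥) bot_ne_top
  refine ⟨M.map A.subtype, map_subtype_le _, ?_⟩
  rw [relIndex, subgroupOf, comap_map_eq_self_of_injective A.subtype_injective]
  exact index_coatom_of_isPGroup hA hM

omit hp in
theorem exists_prime_inverted {R : Subgroup G} {a : G} (ha : a * a = 1) (hn : a ∈ normalizer (R : Set G))
    (h : ¬ R ≤ centralizer {a}) : ∃ y ∈ R, (orderOf y).Prime ∧ a * y * a⁻¹ = y⁻¹ := by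
  obtain ⟨x, hx, h⟩ := SetLike.not_le_iff_exists.1 h
  have ai : a⁻¹ = a := inv_eq_of_mul_eq_one_right ha
  set w := x⁻¹ * (a * x * a⁻¹) with hw
  have wR : w ∈ R := R.mul_mem (R.inv_mem hx) ((mem_normalizer_iff.1 hn x).1 hx)
  have wi : a * w * a⁻¹ = w⁻¹ := by
    rw [hw, ai]; simp only [mul_inv_rev, inv_inv, ai]
    calc a * (x⁻¹ * (a * x * a)) * a = a * x⁻¹ * a * x * (a * a) := by group
      _ = _ := by rw [ha]; group
  have w1 : w ≠ 1 := fun e => h (mem_centralizer_singleton_iff.2 (by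
    have : a * x * a⁻¹ = x := by rw [hw, inv_mul_eq_one] at e; exact e.symm
    rw [mul_inv_eq_iff_eq_mul] at this; exact this.symm))
  have o1 : orderOf w ≠ 1 := fun e => w1 (orderOf_eq_one_iff.1 e)
  refine ⟨w ^ (orderOf w / (orderOf w).minFac), R.pow_mem wR _, ?_, by rw [← conj_pow, wi, inv_pow]⟩
  rw [orderOf_pow_orderOf_div (orderOf_pos w).ne' (Nat.minFac_dvd _)]
  exact Nat.minFac_prime o1

omit hp in
theorem le_cent_inverted {W : Subgroup G} {a y : G} (hy : Odd (orderOf y)) (ha : a * a = 1) (hi : a * y * a⁻¹ = y⁻¹) :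
    centralizer {a} ⊓ centralizer {y * a * y⁻¹} ≤ centralizer (zpowers y : Set G) := by
  have ai : a⁻¹ = a := inv_eq_of_mul_eq_one_right ha
  rw [le_centralizer_iff]
  refine (zpowers_le.2 ((mem_zpowers_pow_iff (k := 2)).2 ?_)).trans (zpowers_le.2 ?_)
  swap
  · intro v hv
    have h1 := mem_centralizer_singleton_iff.1 hv.1
    have h2 := mem_centralizer_singleton_iff.1 hv.2
    have e : y ^ 2 = y * a * y⁻¹ * a := by
      have : a * y⁻¹ * a⁻¹ = y := by rw [← conj_inv, hi, inv_inv]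
      rw [ai] at this
      calc y ^ 2 = y * (a * y⁻¹ * a) := by rw [this, sq]
        _ = _ := by group
    rw [e]
    calc v * (y * a * y⁻¹ * a) = (v * (y * a * y⁻¹)) * a := by group
      _ = y * a * y⁻¹ * (v * a) := by rw [h2]; group
      _ = _ := by rw [h1]; group
  · exact (Nat.coprime_two_left.2 hy)

omit hp in
theorem three_of_small {W : Subgroup G} {a y : G} (hW : IsPGroup 2 W) (hy : (orderOf y).Prime) (h2 : orderOf y ≠ 2)
    (ha : a * a = 1) (hi : a * y * a⁻¹ = y⁻¹) (n : y ∈ normalizer (W : Set G))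
    (hc : ¬ W ≤ centralizer (zpowers y : Set G)) (hs : (centralizer {a}).relIndex W < 4) : orderOf y = 3 := by
  haveI : Fact (orderOf y).Prime := ⟨hy⟩
  haveI : Fact (Nat.Prime 2) := ⟨Nat.prime_two⟩
  have s2 : (centralizer {a}).relIndex W ≤ 2 := by
    obtain ⟨k, hk⟩ := L.exists_relIndex_eq_pow (N := centralizer {a}) hW
    rw [hk] at hs ⊢
    rcases k with _ | _ | k
    · norm_num
    · norm_num
    · have : 0 < 2 ^ k := by positivity
      rw [pow_succ, pow_succ] at hs; omega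
  have s3 : (centralizer {y * a * y⁻¹}).relIndex W = (centralizer {a}).relIndex W := by
    rw [← cj_centralizer_singleton]
    conv_lhs => rw [← (mem_normalizer_iff_cj.1 n)]
    exact relIndex_map_map_of_injective _ _ (MulAut.conj y).injective
  have s4 : (centralizer (zpowers y : Set G)).relIndex W ≤ 4 :=
    (relIndex_le_of_le_left (le_cent_inverted (W := W) (hy.odd_of_ne_two h2) ha hi) (L.relIndex_pos _ _).ne').trans
      (relIndex_inf_le.trans (by rw [s3]; nlinarith))
  obtain ⟨k, hk⟩ := L.exists_relIndex_eq_pow (N := centralizer (zpowers y : Set G)) hW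
  have m := card_modEq_card_inf_centralizer (q := orderOf y) (isPGroup_zpowers_of_orderOf rfl) (zpowers_le.2 n)
  have e : Nat.card W = 2 ^ k * Nat.card (W ⊓ centralizer (zpowers y : Set G) : Subgroup G) := by
    rw [← hk, ← inf_relIndex_left, mul_comm, ← relIndex_bot_left, ← relIndex_bot_left,
      relIndex_mul_relIndex _ _ _ bot_le inf_le_left]
  have co : (Nat.card (W ⊓ centralizer (zpowers y : Set G) : Subgroup G)).Coprime (orderOf y) :=
    cop_of_isPGroup_ne (Ne.symm h2) (hW.to_le inf_le_left)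
  rw [e] at m
  have m' : 2 ^ k ≡ 1 [MOD orderOf y] := Nat.ModEq.cancel_right_of_coprime co.symm (by rwa [one_mul])
  have d := (Nat.modEq_iff_dvd' (Nat.one_le_two_pow)).1 m'.symm
  rcases k with _ | _ | _ | k
  · exact absurd (relIndex_eq_one.1 (by simpa using hk)) hc
  · exact absurd (Nat.dvd_one.1 (by simpa using d)) hy.ne_one
  · exact (Nat.prime_dvd_prime_iff_eq hy Nat.prime_three).1 (by simpa using d)
  · rw [hk, pow_succ, pow_succ, pow_succ] at s4
    have : 0 < 2 ^ k := by positivity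
    omega

theorem perm3_dih : Nonempty (Equiv.Perm (Fin 3) ≃* DihedralGroup 3) :=
  H5.dih_equiv_of_card (by norm_num) (Equiv.swap 0 1 * Equiv.swap 1 2) (Equiv.swap 0 1)
    (orderOf_eq_prime (by decide) (by decide)) (by decide) (by decide)
    (fun h => absurd (orderOf_dvd_of_mem_zpowers h) (by
      rw [orderOf_eq_prime (p := 2) (by decide) (by decide), orderOf_eq_prime (p := 3) (by decide) (by decide)]
      norm_num))
    (by rw [Nat.card_perm, Nat.card_eq_fintype_card, Fintype.card_fin]; rfl)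

omit hp [Finite G] in
theorem s3_of_inv {a y : G} (hy : orderOf y = 3) (ha : a * a = 1) (hi : a * y * a⁻¹ = y⁻¹) :
    Nonempty (closure {y, a} ≃* Equiv.Perm (Fin 3)) := by
  obtain ⟨e⟩ := H5.dih_equiv_closure (by norm_num) y a hy ha hi fun h => by
    have c : a * y = y * a := by
      obtain ⟨k, rfl⟩ := h
      exact ((Commute.refl y).zpow_left k).eq
    rw [c, mul_inv_cancel_right] at hi
    have : y ^ 2 = 1 := by rw [sq]; nth_rw 1 [hi]; exact inv_mul_cancel y
    have := orderOf_dvd_of_pow_eq_one this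
    rw [hy] at this; norm_num at this
  obtain ⟨e'⟩ := perm3_dih
  exact ⟨e.trans e'.symm⟩

omit hp in
theorem sect_s3 {M : Subgroup G} {a y : G} (hy : orderOf y = 3) (ha : a * a = 1) (hi : a * y * a⁻¹ = y⁻¹) (h1 : a ∈ M)
    (h2 : y ∈ M) : Sect (Equiv.Perm (Fin 3)) M := by
  obtain ⟨e⟩ := s3_of_inv hy ha hi
  refine ⟨_, (closure_le _).2 ?_, e.toMonoidHom, e.surjective⟩
  rintro x (rfl | rfl)
  · exact h2
  · exact h1

omit hp in
theorem sq_le_of_no_s3 {M V : Subgroup G} (hV : IsPGroup 2 V) (n : M ≤ normalizer (V : Set G))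
    (hf : M ⊓ centralizer (V : Set G) = ⊥) (hc : M ⊓ centralizer (Op' 2 M : Set G) ≤ Op' 2 M)
    (hs : ¬ Sect (Equiv.Perm (Fin 3)) M) (k : ℕ) : ∀ A ≤ M, Nat.card A ≤ k → IsElementaryAbelian 2 A →
      Nat.card A ^ 2 ≤ (centralizer (A : Set G)).relIndex V := by
  haveI : Fact (Nat.Prime 2) := ⟨Nat.prime_two⟩
  induction k with
  | zero => exact fun A _ h => absurd h (not_le.2 Nat.card_pos)
  | succ k ih =>
    intro A hA hk el
    by_cases h0 : A = ⊥
    · subst h0; rw [card_bot, one_pow]; exact Nat.one_le_iff_ne_zero.2 (L.relIndex_pos _ _).ne'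
    have nQ : A ≤ normalizer (Op' 2 M : Set G) := hA.trans (le_normalizer_Op' 2 M)
    obtain ⟨B, hB, h1⟩ := exists_hyp el nQ (Op'_cop 2 M) (H := centralizer (A : Set G)) fun h =>
      h0 (eq_bot_of_p_p' (elem_isP el) (cop_of_le (Op'_cop 2 M) ((le_inf hA (le_centralizer_iff.1 h)).trans hc)))
    have i2 : B.relIndex A = 2 := ((Nat.dvd_prime Nat.prime_two).1 hB.dvd).resolve_left fun h =>
      h1 (inf_le_right.trans (centralizer_le (relIndex_eq_one.1 h)))
    have cA : Nat.card A = 2 * Nat.card B := by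
      rw [← i2, mul_comm, ← relIndex_bot_left, ← relIndex_bot_left, relIndex_mul_relIndex _ _ _ bot_le hB.le]
    have elB : IsElementaryAbelian 2 B := ⟨isMulCommutative_of_le hB.le el.1, fun b hb => el.2 b (hB.le hb)⟩
    have AB : A ≤ centralizer (B : Set G) := (have := el.1; Subgroup.le_centralizer A).trans (centralizer_le hB.le)
    obtain ⟨a, ha, h2⟩ : ∃ a ∈ A, ¬ Op' 2 M ⊓ centralizer (B : Set G) ≤ centralizer {a} := by
      by_contra h; push Not at h
      exact h1 fun x hx a ha => (mem_centralizer_singleton_iff.1 (h a ha hx)).symm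
    have a2 : a * a = 1 := by rw [← sq]; exact el.2 a ha
    obtain ⟨y, hy, yp, yi⟩ := exists_prime_inverted a2
      (le_normalizer_inf nQ (AB.trans Subgroup.le_normalizer) ha) h2
    have yc : (Nat.card (zpowers y)).Coprime 2 := cop_of_le (Op'_cop 2 M) (zpowers_le.2 hy.1)
    have y2 : orderOf y ≠ 2 := fun e => by rw [Nat.card_zpowers, e] at yc; norm_num at yc
    have yM : y ∈ M := Op'_le 2 M hy.1
    have aB : a ∉ B := fun h => h2 (inf_le_right.trans (centralizer_le (Set.singleton_subset_iff.2 h)))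
    have i4 : 4 ≤ (centralizer {a}).relIndex (V ⊓ centralizer (B : Set G)) := by
      by_contra h
      refine hs (sect_s3 (three_of_small (hV.to_le inf_le_left) yp y2 a2 yi
        (le_normalizer_inf (zpowers_le.2 (n yM)) (zpowers_le.2 (Subgroup.le_normalizer hy.2)) (mem_zpowers y))
        (fun h' => ?_) (not_le.1 h)) a2 yi (hA ha) yM)
      have := a_times_b (elem_isP elB) yc hV (zpowers_le.2 hy.2) (hB.le.trans (hA.trans n)) (zpowers_le.2 (n yM)) h'
      have y1 : y ∈ M ⊓ centralizer (V : Set G) := ⟨yM, le_centralizer_iff.1 this (mem_zpowers y)⟩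
      rw [hf, mem_bot] at y1
      rw [y1, orderOf_one] at yp; exact Nat.not_prime_one yp
    have l : centralizer (A : Set G) ≤ centralizer {a} ⊓ centralizer (B : Set G) :=
      le_inf (centralizer_le (Set.singleton_subset_iff.2 ha)) (centralizer_le hB.le)
    refine le_trans ?_ (relIndex_le_of_le_left l (L.relIndex_pos _ _).ne')
    rw [← relIndex_inf_mul_relIndex, inf_comm, cA, mul_pow]
    exact Nat.mul_le_mul i4 (ih B (hB.le.trans hA) (by have := Nat.card_pos (α := B); omega) elB)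

omit hp [Finite G] in
theorem nrm (X N : Subgroup G) [N.Normal] : X ≤ normalizer (N : Set G) := by rw [normalizer_eq_top]; exact le_top

theorem two_conj' {Γ : Type*} [Group Γ] [Finite Γ] {f : G →* Γ} (hf : Function.Surjective f) (kf : f.ker = pCore p G)
    {Q : Subgroup Γ} [Q.Normal] (cQ : (Nat.card Q).Coprime p) (cc : centralizer (Q : Set Γ) ≤ Q)
    {A : Subgroup G} (hA : IsPGroup p A) (hΦ : (frattini A).map A.subtype ≤ pCore p G) (hnot : ¬ A ≤ pCore p G) :
    ∃ x ∈ Q.comap f, x ∈ Ores p (A ⊔ cj x A) ∧ Ores p (A ⊔ cj x A) ≤ Q.comap f ∧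
      ⁅Ores p (A ⊔ cj x A), A⁆ = Ores p (A ⊔ cj x A) ∧ (A ⊓ Op p (A ⊔ cj x A)).relIndex A = p ∧
      ⁅A ⊓ Op p (A ⊔ cj x A), A ⊔ cj x A⁆ ≤ pCore p G := by
  have pA : IsPGroup p (A.map f) := hA.map f
  have el : IsElementaryAbelian p (A.map f) := by
    refine ⟨le_centralizer_iff_isMulCommutative.1 ?_, ?_⟩
    · rw [← commutator_eq_bot_iff_le_centralizer, ← map_commutator, Subgroup.map_eq_bot_iff, kf]
      exact le_trans (commutator_le_map_frattini hA.isNilpotent) hΦ
    · rintro _ ⟨a, ha, rfl⟩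
      rw [← map_pow, ← MonoidHom.mem_ker, kf]
      exact hΦ (pow_mem_map_frattini hA ha)
  obtain ⟨B, hB, h1⟩ := exists_hyp el (nrm _ Q) cQ (H := centralizer (A.map f : Set _))
    fun h => hnot (kf ▸ (Subgroup.map_eq_bot_iff _).1
      (eq_bot_of_p_p' pA (cop_of_le cQ ((le_centralizer_iff.1 h).trans cc))))
  have i2 : B.relIndex (A.map f) = p := ((Nat.dvd_prime hp.out).1 hB.dvd).resolve_left fun h =>
    h1 (inf_le_right.trans (centralizer_le (relIndex_eq_one.1 h)))
  have AB : A.map f ≤ centralizer (B : Set _) := (have := el.1; Subgroup.le_centralizer _).trans (centralizer_le hB.le)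
  let S : G → Prop := fun x => f x ∈ Q ∧ f x ∈ centralizer (B : Set _) ∧ cj (f x) (A.map f) ≠ A.map f
  have ne : ∃ x, S x := by
    obtain ⟨y, hy, h2⟩ := SetLike.not_le_iff_exists.1 h1
    obtain ⟨x, rfl⟩ := hf y
    refine ⟨x, hy.1, hy.2, fun e => h2 (zpowers_le.1 ?_)⟩
    rw [← commutator_eq_bot_iff_le_centralizer, ← le_bot_iff, ← inf_eq_bot_of_p_p' pA cQ]
    exact le_inf (commutator_le_right' (zpowers_le.2 (mem_normalizer_iff_cj.2 e)))
      ((commutator_mono (zpowers_le.2 hy.1) le_rfl).trans (commutator_le_left' (nrm _ _)))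
  have oK : ∀ x, S x → Ores p (A ⊔ cj x A) ≤ Q.comap f := fun x hx =>
    Ores_le_of_sup hA (nrm _ _) (sup_le le_sup_right (cj_le_of_mem (mem_sup_left hx.1) le_sup_right))
  have cB : ∀ x, S x → (A ⊔ cj x A).map f ≤ centralizer (B : Set _) := fun x hx => by
    rw [Subgroup.map_sup, map_cj]; exact sup_le AB (cj_le_of_mem hx.2.1 AB)
  have sy : ∀ x, S x → Syl p (A.map f) ((A ⊔ cj x A).map f) := fun x hx =>
    (syl_sup_of_cop pA cQ (.inl (nrm _ _))).mono (map_mono le_sup_left) (by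
      rw [Subgroup.map_sup, map_cj]; exact sup_le le_sup_left (cj_le_of_mem (mem_sup_right hx.1) le_sup_left))
  obtain ⟨x, hx, hm⟩ := (measure fun x => Nat.card (A ⊔ cj x A : Subgroup G)).wf.has_min {x | S x} ne
  obtain ⟨y, hy, hy'⟩ : ∃ y ∈ Ores p (A ⊔ cj x A), cj (f y) (A.map f) = cj (f x) (A.map f) := by
    obtain ⟨g, hg, e⟩ := (sy x hx).conj (syl_of_card_le (P := cj (f x) (A.map f)) (isPGroup_cj _ pA)
      (by rw [← map_cj]; exact map_mono le_sup_right) (sy x hx) (card_cj _ _).ge)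
    obtain ⟨P, hP, hAP⟩ := exists_syl_ge hA (le_sup_left (b := cj x A))
    have e1 : P.map f ≤ A.map f := ((sy x hx).maximal (hP.isP.map f) (map_mono hP.le) (map_mono hAP)).le
    obtain ⟨g, hg, rfl⟩ := hg
    rw [SetLike.mem_coe, ← hP.Ores_sup] at hg
    obtain ⟨y, hy, s, hs, rfl⟩ := (mem_sup_of_le_normalizer'
      (hP.le.trans (normalizer_Ores Subgroup.le_normalizer))).1 hg
    refine ⟨y, hy, ?_⟩
    rw [← e, map_mul, cj_mul, cj_eq_of_mem (e1 ⟨s, hs, rfl⟩)]
  have yL := Ores_le _ _ hy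
  have Sy : S y := ⟨oK x hx hy, cB x hx ⟨y, yL, rfl⟩, hy' ▸ hx.2.2⟩
  have eL : A ⊔ cj y A = A ⊔ cj x A :=
    eq_of_le_of_card_ge (sup_le le_sup_left (cj_le_of_mem yL le_sup_left)) (not_lt.1 (hm y Sy))
  rw [← eL] at hy yL
  have h3 := cB y Sy
  have h4 := sy y Sy
  have h5 := oK y Sy
  have h6 : ∀ z ∈ cj y A, z ∈ ⁅Ores p (A ⊔ cj y A), A⁆ ⊔ A := by
    rintro _ ⟨a, ha, rfl⟩
    have : (MulAut.conj y).toMonoidHom a = ⁅y, a⁆ * a := by simp [commutatorElement_def]
    rw [this]
    exact mul_mem_sup (commutator_mem_commutator hy ha) ha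
  have h7 : A ⊔ cj y A ≤ ⁅Ores p (A ⊔ cj y A), A⁆ ⊔ A := sup_le le_sup_right h6
  have AL : A ≤ A ⊔ cj y A := le_sup_left
  refine ⟨y, Sy.1, ?_⟩
  generalize A ⊔ cj y A = L at *
  have c1 : ⁅A ⊓ B.comap f, L⁆ ≤ pCore p G := by
    rw [← kf, ← Subgroup.map_eq_bot_iff, map_commutator, commutator_eq_bot_iff_le_centralizer, le_centralizer_iff]
    exact h3.trans (centralizer_le ((map_mono inf_le_right).trans (map_comap_le _ _)))
  have c2 : A ⊓ B.comap f ≤ A ⊓ Op p L := le_inf inf_le_left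
    (le_Op_of_commutator_le (hA.to_le inf_le_left) (inf_le_left.trans AL)
      ((le_inf (c1.trans (Op_top p).ge) (commutator_le_of_le (inf_le_left.trans AL) le_rfl)).trans (Op_inf_le le_top)))
  have c3 : (A ⊓ B.comap f).relIndex (A ⊓ Op p L) * (A ⊓ Op p L).relIndex A = p := by
    rw [relIndex_mul_relIndex _ _ _ c2 inf_le_left, inf_relIndex_left, relIndex_comap, i2]
  have c4 : (A ⊓ Op p L).relIndex A = p := ((Nat.dvd_prime hp.out).1 (Dvd.intro_left _ c3)).resolve_left fun h => by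
    have e := h4.maximal ((Op_p p L).map f) (map_mono (Op_le p L)) (map_mono ((relIndex_eq_one.1 h).trans inf_le_right))
    refine Sy.2.2 ?_
    rw [← e]
    exact mem_normalizer_iff_cj.1 (map_le_normalizer_map f (le_normalizer_Op p L) ⟨y, yL, rfl⟩)
  refine ⟨hy, h5, le_antisymm (commutator_le_left' (AL.trans (normalizer_Ores Subgroup.le_normalizer)))
    (Ores_le_of_sup hA (le_normalizer_commutator_right _ _) h7), c4, (commutator_mono ?_ le_rfl).trans c1⟩
  rw [c4] at c3
  exact relIndex_eq_one.1 (Nat.eq_of_mul_eq_mul_right hp.out.pos (by rw [c3, one_mul]))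

end H1
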