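import Cfsg.Agent.H1.Q1
import Cfsg.Agent.H1.MC
import Cfsg.Agent.H9.LE1
import Cfsg.Agent.H2.MinN
import Cfsg.Agent.S0617

/-! H1.Q2: abelian offenders for `p = 2` are elementary. -/

open Pointwise Cfsg Subgroup H9
open scoped commutatorElement MatrixGroups

namespace H1

universe u

variable {G : Type*} [Group G] [Finite G] {V H A : Subgroup G}

theorem FP.sq_eq_one (h : FP 2 V H) (h1 : A ≤ H) (hb : IsBestOffenderOn 2 V A) {d : G} (hd : d ∈ H)
    (hc : d ∈ centralizer (A : Set G)) (h2 : d ^ 2 ∈ A) : d ^ 2 = 1 := by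
  have el := h.elem h1 hb
  have p2 : IsPGroup 2 (zpowers d) := isPGroup_zpowers_of_pow (k := 2) (by
    have := el.2 _ h2; rwa [← pow_mul] at this)
  have tH : zpowers (d ^ 2) ≤ H := zpowers_le.2 (h1 h2)
  have pt : IsPGroup 2 (zpowers (d ^ 2)) := (elem_isP el).to_le (zpowers_le.2 h2)
  have key : ∀ T ≤ A, Tv 2 V H T → ⁅Op' 2 H, T⁆ ≤ Op' 2 H ⊓ centralizer (zpowers (d ^ 2) : Set G) := fun T hT t => by
    have e : cj d T = T := mem_normalizer_iff_cj.1 (centralizer_le_normalizer _ (centralizer_le hT hc))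
    have nE : zpowers d ≤ normalizer (Ea 2 H T : Set G) :=
      zpowers_le.2 (mem_normalizer_iff_cj.2 (by rw [cj_Ea (Subgroup.le_normalizer hd), e]))
    have nW := normalizer_commutator ((zpowers_le.2 hd).trans h.nv) nE
    have pW := h.pV.to_le (h.W_le t)
    have i := L.relIndex_centralizer_le_pow (p := 2) (L := ⁅V, Ea 2 H T⁆ ⊔ zpowers d)
      (pW.to_sup_of_normal_left' p2 nW) 2 le_sup_left (sup_le Subgroup.le_normalizer nW) (h.card_W t)
    have m : d ^ 2 ∈ centralizer ((⁅V, Ea 2 H T⁆ : Subgroup G) : Set G) :=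
      (pow_mem_of_relIndex_ne_zero_of_dvd (L.relIndex_pos _ _).ne' (mem_sup_right (mem_zpowers d)) fun m h0 hm => by
        have : m ≤ 2 := hm.trans i
        interval_cases m <;> norm_num).1
    refine le_inf t.Q_le (le_sup_left.trans (b := Ea 2 H T) ?_)
    rw [← commutator_eq_bot_iff_le_centralizer, ← le_bot_iff, ← h.E_faith t]
    exact le_inf (commutator_le_left' ((zpowers_le.2 (pow_mem (mem_zpowers d) 2)).trans nE))
      ((commutator_mono le_rfl (zpowers_le.2 m)).trans (commutator_le_right'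
        (normalizer_centralizer (le_normalizer_commutator_right _ _))))
  have k2 : ⁅Op' 2 H, A⁆ ≤ Op' 2 H ⊓ centralizer (zpowers (d ^ 2) : Set G) :=
    (commutator_mono le_rfl (h.le_of_tv (K := ⨆ T : {T // T ≤ A ∧ Tv 2 V H T}, T.1) h1 hb fun T h3 h4 =>
      le_iSup_of_le ⟨T, h3, h4⟩ le_rfl)).trans (comm_iSup_le_of_le inf_le_left fun T => key _ T.2.1 T.2.2)
  exact zpowers_eq_bot.1 (h.p_bot tH pt (le_centralizer_iff.1 (cop_le_centralizer (tH.trans (le_normalizer_Op' 2 H))
    (copA_of_p pt (Op'_cop 2 H)) ((commutator_mono le_rfl (zpowers_le.2 h2)).trans k2) inf_le_right)))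

theorem le_cent_of_sq {U : Subgroup G} (hU : IsElementaryAbelian 2 U) {d : G} (p2 : IsPGroup 2 (zpowers d))
    (n : d ∈ normalizer (U : Set G)) (h : U ⊓ centralizer (zpowers (d ^ 2) : Set G) ≤ centralizer (zpowers d : Set G)) :
    U ≤ centralizer (zpowers d : Set G) := by
  by_contra hc
  have n' : U ⊔ zpowers d ≤ normalizer (U : Set G) := sup_le Subgroup.le_normalizer (zpowers_le.2 n)
  have pL := (elem_isP hU).to_sup_of_normal_left' p2 (zpowers_le.2 n)
  have n2 : U ⊔ zpowers d ≤ normalizer ((U ⊓ centralizer (zpowers d : Set G) : Subgroup G) : Set G) :=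
    sup_le (le_normalizer_of_le_comm hU.1 le_rfl inf_le_left) (le_normalizer_inf (zpowers_le.2 n)
      (normalizer_centralizer Subgroup.le_normalizer))
  obtain ⟨M, h1, h2, h3, h4, c⟩ := exists_normal_relIndex_prime pL (inf_lt_left.2 hc) le_sup_left n2 n'
  have : M ≤ U ⊓ centralizer (zpowers d : Set G) := fun w hw => ⟨h2 hw, h ⟨h2 hw, ?_⟩⟩
  · rw [relIndex_eq_one.2 this] at h4; omega
  have z := c (commutator_mem_commutator hw (mem_sup_right (mem_zpowers d)))
  have z1 : d * ⁅w, d⁆ = ⁅w, d⁆ * d := z.2 d (mem_zpowers d)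
  have z2 : ⁅w, d⁆ * ⁅w, d⁆ = 1 := by rw [← sq]; exact hU.2 _ z.1
  rw [H9.centralizer_zpowers]
  refine mem_centralizer_singleton_iff.2 ?_
  have e : w * d = ⁅w, d⁆ * d * w := by simp [commutatorElement_def]
  calc w * d ^ 2 = (w * d) * d := by rw [sq, mul_assoc]
    _ = ⁅w, d⁆ * d * (w * d) := by rw [e]; group
    _ = ⁅w, d⁆ * (d * ⁅w, d⁆) * d * w := by rw [e]; group
    _ = (⁅w, d⁆ * ⁅w, d⁆) * d * d * w := by rw [z1]; group
    _ = _ := by rw [z2, sq, one_mul]

theorem FP.bo_of_comm (h : FP 2 V H) : ∀ A ≤ H, IsMulCommutative A → IsPGroup 2 A →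
    (∀ B ≤ A, ms V B ≤ ms V A) → ∀ a ∈ A, a ^ 2 = 1 := by
  intro A
  induction A using WellFoundedLT.induction with
  | ind A ih =>
  intro h1 hc hp hb a ha
  by_contra a2
  have nQ := h1.trans (le_normalizer_Op' 2 H)
  obtain ⟨B, hB, ⟨d, hd, hdB⟩, h3⟩ : ∃ B ≤ A, (∃ d ∈ A, A ≤ B ⊔ zpowers d) ∧
      ¬ Op' 2 H ⊓ centralizer (B : Set G) ≤ centralizer (A : Set G) := by
    by_contra hn
    push Not at hn
    have := h.p_bot h1 hp (le_centralizer_iff.1
      (le_of_centralizer_cocyclic_le hc nQ (card_cop_of_p hp (Op'_cop 2 H)) hn))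
    rw [this, mem_bot] at ha
    exact a2 (by rw [ha, one_pow])
  have cA : A ≤ centralizer (A : Set G) := L.le_centralizer_of_comm hc
  have l1 : B ⊔ zpowers (d ^ 2) ≤ A := sup_le hB (zpowers_le.2 (A.pow_mem hd 2))
  have n := le_normalizer_inf nQ (le_normalizer_centralizer_of_comm hc hB)
  have l := commutator_le_left' n
  have lH := (l.trans inf_le_left).trans (Op'_le 2 H)
  have h6 : V ⊓ centralizer (A : Set G) < V ⊓ centralizer ((B ⊔ zpowers (d ^ 2) : Subgroup G) : Set G) := by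
    refine lt_of_le_not_ge (inf_le_inf_left _ (centralizer_le l1)) fun t => h3 ?_
    have t' : V ⊓ centralizer (B : Set G) ≤ centralizer (A : Set G) := by
      have := le_cent_of_sq (U := V ⊓ centralizer (B : Set G)) ⟨isMulCommutative_of_le inf_le_left h.el.1,
        fun x hx => h.el.2 x hx.1⟩ (hp.to_le (zpowers_le.2 hd))
        (le_normalizer_inf (h1.trans h.nv) (le_normalizer_centralizer_of_comm hc hB) hd)
        (le_trans (le_inf (inf_le_left.trans inf_le_left) (le_centralizer_iff.1 (sup_le (le_centralizer_iff.1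
          (inf_le_left.trans inf_le_right)) (le_centralizer_iff.1 inf_le_right))))
          (t.trans (inf_le_right.trans (centralizer_le (zpowers_le.2 hd)))))
      exact le_centralizer_iff.1 (hdB.trans (sup_le (le_centralizer_iff.1 inf_le_right) (le_centralizer_iff.1 this)))
    exact commutator_eq_bot_iff_le_centralizer.1 (h.eq_bot lH
      (le_centralizer_iff.1 (a_times_b (hp.to_le hB) (cop_of_le (Op'_cop 2 H) (l.trans inf_le_left)) h.pV
        (l.trans inf_le_right) ((hB.trans h1).trans h.nv) (lH.trans h.nv) (le_centralizer_iff.1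
          ((commutator_mono le_rfl (le_centralizer_iff.1 t')).trans (commutator_le_right'
            (normalizer_centralizer (le_normalizer_inf ((inf_le_left.trans (Op'_le 2 H)).trans h.nv)
              (inf_le_right.trans Subgroup.le_normalizer)))))))))
  set A₁ := B ⊔ zpowers (d ^ 2) with hA₁
  have lt : A₁ < A := lt_of_le_of_ne l1 fun e => h6.ne (by rw [e])
  have e : A₁ ⊔ zpowers d = A := le_antisymm (sup_le l1 (zpowers_le.2 hd))
    (hdB.trans (sup_le_sup_right le_sup_left _))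
  have i2 : A₁.relIndex A = 2 := by
    rw [← e]
    exact relIndex_sup_zpowers_two (le_normalizer_of_le_comm hc le_rfl l1 hd) (mem_sup_right (mem_zpowers _))
      fun t => lt.not_ge (e.ge.trans (sup_le le_rfl (zpowers_le.2 t)))
  have h7 : ms V A ≤ ms V A₁ := by
    have := L.mul_card_le_of_lt (h.pV.to_le inf_le_left) h6
    have := (Hyp.mk (p := 2) l1 (by rw [i2])).card_le
    unfold ms; nlinarith
  have hb1 : ∀ B ≤ A₁, ms V B ≤ ms V A₁ := fun C hC => (hb C (hC.trans l1)).trans h7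
  have c1 := isMulCommutative_of_le l1 hc
  have := ih A₁ lt (l1.trans h1) c1 (hp.to_le l1) hb1
  refine a2 (h.sq_eq_one (l1.trans h1) ⟨hb1, by rw [L.commutator_eq_bot_iff_comm.2 c1]; exact bot_le,
    fun x hx => by rw [this x hx]; exact one_mem _⟩ (h1 ha) (centralizer_le l1 (cA ha)) ?_)
  exact (pow_mem_of_relIndex_ne_zero_of_dvd (L.relIndex_pos A₁ A).ne' ha fun m h0 hm => by
    rw [i2] at hm
    interval_cases m <;> norm_num).1

theorem sl2_perm3 : Nonempty (SL(2, ZMod 2) ≃* Equiv.Perm (Fin 3)) := by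
  obtain ⟨e⟩ := perm3_dih
  let r : SL(2, ZMod 2) := ⟨!![0, 1; 1, 1], by decide⟩
  let s : SL(2, ZMod 2) := ⟨!![0, 1; 1, 0], by decide⟩
  have o3 : orderOf r = 3 := orderOf_eq_prime (Subtype.ext (by decide)) fun h => absurd (congrArg Subtype.val h) (by decide)
  have o2 : orderOf s = 2 := orderOf_eq_prime (Subtype.ext (by decide)) fun h => absurd (congrArg Subtype.val h) (by decide)
  obtain ⟨e'⟩ := H5.dih_equiv_of_card (n := 3) (by norm_num) r s o3 (Subtype.ext (by decide))
    (by rw [mul_inv_eq_iff_eq_mul, eq_inv_mul_iff_mul_eq]; exact Subtype.ext (by decide))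
    (fun h => absurd (orderOf_dvd_of_mem_zpowers h) (by rw [o2, o3]; norm_num)) (by rw [card_sl2])
  exact ⟨e'.trans e.symm⟩

theorem equiv_pi {ι Δ : Type*} [Group Δ] [Finite ι] (E : ι → Subgroup G) (hn : ∀ i, H ≤ normalizer (E i : Set G))
    (hi : iSupIndep E) (hs : ⨆ i, E i = H) (he : ∀ i, Nonempty (E i ≃* Δ)) :
    Nonempty (H ≃* (Fin (Nat.card ι) → Δ)) := by
  have e := (Finite.equivFin ι).symm
  have l : ∀ i, E i ≤ H := fun i => hs ▸ le_iSup E i
  refine (H2M.exists_equiv_pi (V := fun k => (E (e k)).subgroupOf H)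
    (fun k => normal_subgroupOf_of_le_normalizer (hn _)) (fun k => ?_) ?_).elim fun φ _ =>
    ⟨φ.symm.trans (MulEquiv.piCongrRight fun k => (subgroupOfEquivOfLe (l _)).trans (he _).some)⟩
  · rw [disjoint_iff, ← map_eq_bot_iff_of_injective _ H.subtype_injective, ← le_bot_iff, ← (hi (e k)).eq_bot]
    refine (map_inf_le _ _ _).trans (inf_le_inf (map_comap_le _ _) (map_le_iff_le_comap.2 (iSup₂_le fun j hj => ?_)))
    exact comap_mono (le_iSup₂_of_le (f := fun j (_ : j ≠ e k) => E j) (e j) (fun t => hj (e.injective t)) le_rfl)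
  · rw [eq_top_iff, ← map_le_map_iff_of_injective H.subtype_injective, map_top_subtype, Subgroup.map_iSup]
    refine hs.ge.trans (iSup_le fun i => le_iSup_of_le (e.symm i) ?_)
    rw [e.apply_symm_apply, subgroupOf_map_subtype, inf_eq_left.2 (l i)]

theorem ms_le_of_MA {S W : Subgroup G} (hA : A ∈ MA S) (h1 : W ≤ S) (h2 : IsMulCommutative W) :
    ∀ B ≤ A, ms W B ≤ ms W A := fun B hB => by
  have c := isMulCommutative_of_le hB hA.2.1
  have l : B ≤ centralizer ((W ⊓ centralizer (B : Set G) : Subgroup G) : Set G) := le_centralizer_iff.1 inf_le_right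
  have := hA.2.2 (B ⊔ W ⊓ centralizer (B : Set G)) (sup_le (hB.trans hA.1) (inf_le_left.trans h1))
    (L.comm_of_le_centralizer (sup_le (le_centralizer_iff.1 (sup_le (L.le_centralizer_of_comm c) inf_le_right))
      (le_centralizer_iff.1 (sup_le l (L.le_centralizer_of_comm (isMulCommutative_of_le inf_le_left h2))))))
  unfold ms
  rw [← H9.card_sup_mul_card_inf (l.trans (centralizer_le_normalizer _))]
  exact Nat.mul_le_mul this (card_le_of_le (le_inf (inf_le_right.trans inf_le_left)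
    ((inf_le_left.trans hB).trans (L.le_centralizer_of_comm hA.2.1))))

theorem Hol.bo_comm {Γ : Type*} [Group Γ] [Finite Γ] {i : V →* Γ} {f : normalizer (V : Set G) →* Γ} (h : Hol V i f)
    (t : FP 2 (im i V) (im f H)) (h1 : A ≤ H) (n : A ≤ normalizer (V : Set G)) (hc : IsMulCommutative A)
    (hp : IsPGroup 2 A) (hb : ∀ B ≤ A, ms V B ≤ ms V A) : IsBestOffenderOn 2 (im i V) (im f A) := by
  refine h.bo n ⟨hb, by rw [L.commutator_eq_bot_iff_comm.2 hc]; exact bot_le, fun a ha => ?_⟩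
  rw [← h.kr_f]
  refine (mem_kr f).2 ⟨pow_mem (n ha) 2, ?_⟩
  refine (map_pow f ⟨a, n ha⟩ 2).trans (t.bo_of_comm _ (im_mono f h1) (isMulCommutative_im f hc) (isPGroup_im f hp)
    (fun B hB => ?_) _ (mem_im_of_mem f ha))
  have := hb (pre f B ⊓ A) inf_le_right
  rw [h.ms_eq n, h.ms_eq (inf_le_right.trans n), im_pre_inf f hB, ← inf_assoc, inf_eq_left.2 (kr_le_pre f B)] at this
  exact Nat.le_of_mul_le_mul_left this Nat.card_pos

end H1
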