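import Cfsg.Agent.H1.HP
import Cfsg.Agent.L.PG2
import Cfsg.Prelude.Def_PLocal

/-! H1.Reg: regular p-groups. -/

open Pointwise Cfsg Subgroup
open scoped commutatorElement

namespace H1

universe u

variable {G : Type u} [Group G] {p : ℕ}

theorem pc_le_iff {n : ℕ} {H K : Subgroup G} :
    powerClosure p n H ≤ K ↔ ∀ x ∈ H, x ^ p ^ n ∈ K := by
  rw [powerClosure, closure_le]
  exact ⟨fun h x hx => h ⟨x, hx, rfl⟩, by rintro h _ ⟨x, hx, rfl⟩; exact h x hx⟩

theorem pow_mem_pc {n : ℕ} {H : Subgroup G} {x : G} (hx : x ∈ H) : x ^ p ^ n ∈ powerClosure p n H :=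
  pc_le_iff.1 le_rfl x hx

theorem pc_le (n : ℕ) (H : Subgroup G) : powerClosure p n H ≤ H :=
  pc_le_iff.2 fun _ h => pow_mem h _

theorem pc_mono {n : ℕ} {H K : Subgroup G} (h : H ≤ K) : powerClosure p n H ≤ powerClosure p n K :=
  pc_le_iff.2 fun _ hx => pow_mem_pc (h hx)

theorem map_pc {G' : Type*} [Group G'] (f : G →* G') (n : ℕ) (H : Subgroup G) :
    (powerClosure p n H).map f = powerClosure p n (H.map f) := by
  refine le_antisymm (map_le_iff_le_comap.2 (pc_le_iff.2 fun x hx => ?_)) (pc_le_iff.2 ?_)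
  · rw [mem_comap, map_pow]; exact pow_mem_pc (mem_map_of_mem f hx)
  · rintro _ ⟨x, hx, rfl⟩
    exact ⟨_, pow_mem_pc hx, map_pow f _ _⟩

instance pc_normal (n : ℕ) (H : Subgroup G) [h : H.Normal] : (powerClosure p n H).Normal :=
  ⟨fun x hx g => by
    have : (powerClosure p n H).map (MulAut.conj g).toMonoidHom ≤ powerClosure p n H := by
      rw [map_pc]; exact pc_mono (by rintro _ ⟨y, hy, rfl⟩; exact h.conj_mem y hy g)
    exact this ⟨x, hx, rfl⟩⟩

theorem map_closure_pair {G' : Type*} [Group G'] (f : G →* G') (a b : G) :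
    (closure ({a, b} : Set G)).map f = closure {f a, f b} := by
  rw [MonoidHom.map_closure, Set.image_pair]

theorem left_mem_pair (a b : G) : a ∈ closure ({a, b} : Set G) := subset_closure (by simp)
theorem right_mem_pair (a b : G) : b ∈ closure ({a, b} : Set G) := subset_closure (by simp)
theorem pair_le {a b : G} {H : Subgroup G} (ha : a ∈ H) (hb : b ∈ H) :
    closure ({a, b} : Set G) ≤ H := (closure_le _).2 (by rintro _ (rfl | rfl) <;> assumption)

theorem comm_pair_le {a b : G} {A : Subgroup G} (ha : a ∈ normalizer (A : Set G))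
    (hb : b ∈ normalizer (A : Set G)) (h : ⁅a, b⁆ ∈ A) :
    ⁅closure ({a, b} : Set G), closure ({a, b} : Set G)⁆ ≤ A := by
  have h0 : ∀ s ∈ ({a, b} : Set G), s ∈ normalizer (A : Set G) := by
    rintro _ (rfl | rfl) <;> assumption
  refine L.commutator_closure_le h0 fun s hs x hx => ?_
  induction hx using closure_induction with
  | mem t ht =>
    rcases hs with rfl | rfl <;> rcases ht with rfl | rfl
    · simp
    · exact h
    · rw [← commutatorElement_inv]; exact inv_mem h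
    · simp
  | one => simp
  | mul x y hx _ h1 h2 =>
    rw [L.commutatorElement_mul_right']
    exact mul_mem h1 (conj_mem_of_mem_normalizer (pair_le ha hb hx) h2)
  | inv x hx h1 =>
    simpa [commutatorElement_def, mul_assoc] using
      conj_mem_of_mem_normalizer (inv_mem (pair_le ha hb hx)) (inv_mem h1)

/-- Huppert's form of regularity -/
def R1 (p : ℕ) (G : Type u) [Group G] : Prop := IsPGroup p G ∧
  ∀ a b : G, ∃ c ∈ powerClosure p 1 ⁅closure ({a, b} : Set G), closure ({a, b} : Set G)⁆,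
    (a * b) ^ p = a ^ p * b ^ p * c

theorem R1.of_reg (h : IsRegularPGroup p G) : R1 p G :=
  ⟨h.1, fun a b => by simpa using h.2 a b 1⟩

theorem R1.map {G' : Type*} [Group G'] (h : R1 p G) (f : G →* G') (hf : Function.Surjective f) :
    R1 p G' := ⟨h.1.of_surjective f hf, fun a b => by
  obtain ⟨a, rfl⟩ := hf a
  obtain ⟨b, rfl⟩ := hf b
  obtain ⟨c, h1, h2⟩ := h.2 a b
  refine ⟨f c, ?_, by simpa using congrArg f h2⟩
  rw [← map_closure_pair, ← map_commutator, ← map_pc]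
  exact mem_map_of_mem f h1⟩

theorem R1.sub (h : R1 p G) (H : Subgroup G) : R1 p H := ⟨h.1.to_subgroup H, fun a b => by
  obtain ⟨c, h1, h2⟩ := h.2 a b
  rw [← coe_subtype, ← map_closure_pair, ← map_commutator, ← map_pc] at h1
  obtain ⟨c, h1, rfl⟩ := h1
  exact ⟨c, h1, Subtype.ext (by simpa using h2)⟩⟩

theorem R1.mul_pow (h : R1 p G) {a b : G} {A : Subgroup G} (ha : a ∈ normalizer (A : Set G))
    (hb : b ∈ normalizer (A : Set G)) (h1 : ⁅a, b⁆ ∈ A) (h2 : ∀ x ∈ A, x ^ p = 1) :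
    (a * b) ^ p = a ^ p * b ^ p := by
  obtain ⟨c, h3, h4⟩ := h.2 a b
  have : c ∈ (⊥ : Subgroup G) := pc_le_iff.2 (fun x hx => by
    simpa using h2 x (comm_pair_le ha hb h1 hx)) h3
  rw [h4, mem_bot.1 this, mul_one]

variable [Finite G] [hp : Fact p.Prime]

theorem sup_comm_lt (hG : IsPGroup p G) {K : Subgroup G} {x a b : G} (hx : x ∈ K) (ha : a ∈ K)
    (hb : b ∈ K) (h : ¬ Commute a b) : zpowers x ⊔ ⁅K, K⁆ < K := by
  refine lt_of_le_of_ne (sup_le (zpowers_le.2 hx) 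
    (commutator_le_of_le_normalizer le_normalizer)) fun e => h ?_
  have := eq_of_sup_frattini (zpowers_le.2 hx) (e.ge.trans (sup_le_sup_left
    (L.commutator_le_Phi (hG.to_subgroup K)) _))
  rw [← this] at ha hb
  obtain ⟨i, rfl⟩ := ha
  obtain ⟨j, rfl⟩ := hb
  exact Commute.zpow_zpow_self ..

omit [Finite G] hp in
theorem le_norm_sup_comm {K : Subgroup G} {x : G} (hx : x ∈ K) :
    K ≤ normalizer ((zpowers x ⊔ ⁅K, K⁆ : Subgroup G) : Set G) :=
  le_normalizer_iff_commutator_le_right.2 ((commutator_mono le_rfl (sup_le (zpowers_le.2 hx)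
    (commutator_le_of_le_normalizer le_normalizer))).trans le_sup_right)

theorem R1.omega (h : R1 p G) {x y : G} (hx : x ^ p = 1) (hy : y ^ p = 1) : (x * y) ^ p = 1 := by
  suffices ∀ H : Subgroup G, ∀ x ∈ H, ∀ y ∈ H, x ^ p = 1 → y ^ p = 1 → (x * y) ^ p = 1 from
    this ⊤ x trivial y trivial hx hy
  intro H
  induction H using WellFoundedLT.induction with | _ H ih
  intro x hx y hy h1 h2
  by_cases hc : Commute x y
  · rw [hc.mul_pow, h1, h2, mul_one]
  have h3 := L.normalizer_omegaOne (p := p) (le_norm_sup_comm hx)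
  rw [h.mul_pow (h3 hx) (h3 hy) ?_ fun z hz => L.pow_eq_one_of_mem_omegaOne
    (ih _ (sup_comm_lt h.1 hx hx hy hc)) hz, h1, h2, mul_one]
  have h4 := L.mem_omegaOne (mem_sup_left (T := ⁅H, H⁆) (mem_zpowers x)) h1
  simpa [commutatorElement_def, mul_assoc] using
    mul_mem h4 (conj_mem_of_mem_normalizer (h3 hy) (inv_mem h4))

theorem R1.mem_omega (h : R1 p G) {x : G} : x ∈ omegaOne p (⊤ : Subgroup G) ↔ x ^ p = 1 :=
  ⟨L.pow_eq_one_of_mem_omegaOne fun _ _ _ _ => h.omega, L.mem_omegaOne trivial⟩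

theorem R1.mul_pow' (h : R1 p G) {a b : G} (h1 : ⁅a, b⁆ ^ p = 1) : (a * b) ^ p = a ^ p * b ^ p :=
  h.mul_pow (le_normalizer_of_normal (mem_top _)) (le_normalizer_of_normal (mem_top _))
    (h.mem_omega.2 h1) fun _ => h.mem_omega.1

theorem R1.pow_eq_iff (h : R1 p G) {x y : G} : x ^ p = y ^ p ↔ (x * y⁻¹) ^ p = 1 := by
  refine ⟨?_, fun h1 => ?_⟩
  · suffices ∀ H : Subgroup G, ∀ x ∈ H, ∀ y ∈ H, x ^ p = y ^ p → (x * y⁻¹) ^ p = 1 from
      this ⊤ x trivial y trivial
    intro H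
    induction H using WellFoundedLT.induction with | _ H ih
    intro x hx y hy h1
    rw [h.mul_pow', h1, inv_pow, mul_inv_cancel]
    by_cases hc : Commute x y
    · rw [commutatorElement_eq_one_iff_commute.2 hc.inv_right, one_pow]
    have h4 := mem_sup_left (T := ⁅H, H⁆) (mem_zpowers x)
    have := ih _ (sup_comm_lt h.1 hx hx hy hc) x h4 _
      (conj_mem_of_mem_normalizer (le_norm_sup_comm hx (inv_mem hy)) h4) (by
        rw [conj_pow, h1]; group)
    simpa [commutatorElement_def, mul_assoc] using this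
  · have := h.mul_pow' (a := x * y⁻¹) (b := y) (by
      have := h.omega h1 (y := y * (x * y⁻¹)⁻¹ * y⁻¹) (by rw [conj_pow, inv_pow, h1]; simp)
      simpa only [commutatorElement_def, mul_assoc] using this)
    simpa [h1] using this

theorem r1_pow_aux (k : ℕ) : ∀ (G : Type u) [Group G] [Finite G], R1 p G → ∀ x y : G,
    x ^ p ^ k = y ^ p ^ k ↔ (x * y⁻¹) ^ p ^ k = 1 := by
  induction k with
  | zero => intro G _ _ _ x y; simp [mul_inv_eq_one]
  | succ k ih =>
    intro G _ _ h x y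
    have := ih _ (h.map (QuotientGroup.mk' (omegaOne p ⊤)) (QuotientGroup.mk'_surjective _)) x y
    rw [pow_succ, pow_mul, pow_mul, pow_mul, h.pow_eq_iff, ← h.mem_omega, ← h.mem_omega,
      ← QuotientGroup.eq_one_iff, ← QuotientGroup.eq_one_iff]
    simpa [mul_inv_eq_one] using this

theorem R1.pow_pow_eq_iff (h : R1 p G) (k : ℕ) (x y : G) :
    x ^ p ^ k = y ^ p ^ k ↔ (x * y⁻¹) ^ p ^ k = 1 := r1_pow_aux k G h x y

theorem R1.commute_iff (h : R1 p G) (k : ℕ) (a b : G) :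
    Commute (a ^ p ^ k) b ↔ ⁅a, b⁆ ^ p ^ k = 1 := by
  rw [show ⁅a, b⁆ = a * (b * a * b⁻¹)⁻¹ by simp [commutatorElement_def, mul_assoc],
    ← h.pow_pow_eq_iff, conj_pow, eq_mul_inv_iff_mul_eq]
  rfl

omit [Finite G] hp in
theorem mem_pc_of {n : ℕ} {H : Subgroup G} (hfin : ∀ x ∈ H, ∀ y ∈ H, ∃ z ∈ H,
    x ^ p ^ n * y ^ p ^ n = z ^ p ^ n) {c : G} (hc : c ∈ powerClosure p n H) :
    ∃ z ∈ H, c = z ^ p ^ n := by
  induction hc using closure_induction with
  | mem x hx => exact hx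
  | one => exact ⟨1, one_mem _, by simp⟩
  | mul x y _ _ h1 h2 =>
    obtain ⟨x, hx, rfl⟩ := h1
    obtain ⟨y, hy, rfl⟩ := h2
    exact hfin x hx y hy
  | inv x _ h1 =>
    obtain ⟨x, hx, rfl⟩ := h1
    exact ⟨x⁻¹, inv_mem hx, by simp⟩

theorem R1.pow_mul_pow (h : R1 p G) (H : Subgroup G) :
    ∀ x ∈ H, ∀ y ∈ H, ∃ z ∈ H, x ^ p ^ 1 * y ^ p ^ 1 = z ^ p ^ 1 := by
  induction H using WellFoundedLT.induction with | _ H ih
  intro x hx y hy
  by_cases hc : Commute x y
  · exact ⟨_, mul_mem hx hy, (hc.mul_pow _).symm⟩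
  have h1 := sup_comm_lt h.1 (mul_mem hx hy) hx hy hc
  obtain ⟨c, h2, h3⟩ := h.2 x y
  obtain ⟨d, h4, h5⟩ := mem_pc_of (ih _ (le_sup_right.trans_lt h1)) (inv_mem (pc_mono
    (commutator_mono (pair_le hx hy) (pair_le hx hy)) h2))
  obtain ⟨z, h6, h7⟩ := ih _ h1 _ (mem_sup_left (mem_zpowers _)) d (mem_sup_right h4)
  exact ⟨z, h1.le h6, by rw [← h7, ← h5, pow_one, h3, mul_inv_cancel_right]⟩

theorem R1.mem_pc (h : R1 p G) (n : ℕ) (H : Subgroup G) :
    ∀ c ∈ powerClosure p n H, ∃ z ∈ H, c = z ^ p ^ n := by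
  induction n with
  | zero => intro c hc; exact ⟨c, pc_le _ _ hc, by simp⟩
  | succ n ih =>
    intro c hc
    refine mem_pc_of (fun x hx y hy => ?_) hc
    obtain ⟨z, h1, h2⟩ := h.pow_mul_pow _ _ (pow_mem_pc (n := n) hx) _ (pow_mem_pc hy)
    obtain ⟨z, h3, rfl⟩ := ih z h1
    exact ⟨z, h3, by simpa only [pow_one, ← pow_mul, ← pow_succ] using h2⟩

theorem R1.comm_pc (h : R1 p G) (n : ℕ) (H : Subgroup G) :
    ⁅powerClosure p n H, H⁆ ≤ powerClosure p n ⁅H, H⁆ := by
  suffices ∀ (G : Type u) [Group G] [Finite G], R1 p G →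
      ⁅powerClosure p n (⊤ : Subgroup G), (⊤ : Subgroup G)⁆ ≤ powerClosure p n ⁅(⊤ : Subgroup G), (⊤ : Subgroup G)⁆ by
    have := map_mono (f := H.subtype) (this H (h.sub H))
    rwa [map_commutator, map_pc, map_pc, map_commutator, ← MonoidHom.range_eq_map,
      range_subtype] at this
  intro G _ _ h
  refine commutator_le.2 fun c hc b _ => ?_
  obtain ⟨a, -, rfl⟩ := h.mem_pc n _ c hc
  have := ((h.map (QuotientGroup.mk' (powerClosure p n ⁅(⊤ : Subgroup G), (⊤ : Subgroup G)⁆)) (QuotientGroup.mk'_surjective _)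
    ).commute_iff n a b).2 (by
      exact (QuotientGroup.eq_one_iff (⁅a, b⁆ ^ p ^ n)).2
        (pow_mem_pc (commutator_mem_commutator trivial trivial)))
  rw [← QuotientGroup.eq_one_iff]
  exact commutatorElement_eq_one_iff_commute.2 this

theorem r1_reg_aux (n : ℕ) : ∀ (G : Type u) [Group G] [Finite G], R1 p G → ∀ a b : G,
    (a ^ p ^ n * b ^ p ^ n)⁻¹ * (a * b) ^ p ^ n ∈ powerClosure p n ⁅(⊤ : Subgroup G), (⊤ : Subgroup G)⁆ := by
  induction n with
  | zero => intro G _ _ _ a b; simp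
  | succ n ih =>
    intro G _ _ h a b
    set N := powerClosure p (n + 1) ⁅(⊤ : Subgroup G), (⊤ : Subgroup G)⁆
    let f := QuotientGroup.mk' N
    have h1 := h.map f (QuotientGroup.mk'_surjective _)
    have h2 : ∀ c ∈ powerClosure p n ⁅(⊤ : Subgroup (G ⧸ N)), (⊤ : Subgroup (G ⧸ N))⁆,
        c ^ p = 1 := fun c hc => by
      obtain ⟨z, h3, rfl⟩ := h1.mem_pc n _ c hc
      rw [← map_top_of_surjective f (QuotientGroup.mk'_surjective _), ← map_commutator] at h3
      obtain ⟨z, h3, rfl⟩ := h3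
      rw [← pow_mul, ← pow_succ, ← map_pow]
      exact (QuotientGroup.eq_one_iff _).2 (pow_mem_pc h3)
    have h3 := h1.pow_eq_iff (x := (f a ^ p ^ n * f b ^ p ^ n)⁻¹) (y := ((f a * f b) ^ p ^ n)⁻¹)
    rw [inv_inv, inv_pow, inv_pow, inv_inj, h1.mul_pow' (h2 _ (h1.comm_pc n ⊤
      (commutator_mem_commutator (pow_mem_pc trivial) trivial)))] at h3
    rw [← QuotientGroup.eq_one_iff]
    change f _ = 1
    simp only [map_mul, map_inv, map_pow, pow_succ, pow_mul]
    rw [h3.2 (h2 _ (ih _ h1 _ _)), inv_mul_cancel]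

theorem R1.reg (h : R1 p G) : IsRegularPGroup p G := ⟨h.1, fun a b n => by
  have := mem_map_of_mem (closure {a, b}).subtype (r1_reg_aux n _ (h.sub (closure {a, b}))
    ⟨a, left_mem_pair a b⟩ ⟨b, right_mem_pair a b⟩)
  simp only [map_commutator, map_pc, ← MonoidHom.range_eq_map, range_subtype] at this
  exact ⟨_, this, by simp [mul_assoc]⟩⟩

end H1
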