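import Cfsg.Agent.H1.Q2
import Cfsg.Agent.H1.HB3
import Cfsg.Agent.H1.Schmidt
import Cfsg.Agent.H1.Reg

/-! H1.Q3: semi-extraspecial Sylow subgroups of `p`-solvable groups; Schmidt groups. -/

open Pointwise Cfsg Subgroup H9
open scoped commutatorElement

namespace H1

universe u

variable {G : Type*} [Group G] [Finite G] {p : ℕ} [hp : Fact p.Prime] {V H A D : Subgroup G}

theorem FP.lt_of_hyp (h : FP p V H) (h1 : A ≤ H) (hA : IsElementaryAbelian p A) (h0 : A ≠ ⊥) :
    ∃ B ≤ A, B.relIndex A = p ∧ ¬ V ⊓ centralizer (B : Set G) ≤ centralizer (A : Set G) := by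
  have nF := h1.trans (le_normalizer_Op' p H)
  obtain ⟨B, hB, h3⟩ := exists_hyp hA nF (Op'_cop p H) (H := centralizer (A : Set G)) fun t =>
    h0 (h.p_bot h1 (elem_isP hA) (le_centralizer_iff.1 t))
  have n := le_normalizer_inf nF (le_normalizer_centralizer_of_comm hA.1 hB.le)
  have l := commutator_le_left' n
  have lH := (l.trans inf_le_left).trans (Op'_le p H)
  refine ⟨B, hB.le, ((Nat.dvd_prime hp.out).1 hB.dvd).resolve_left fun e =>
    h3 (inf_le_right.trans (centralizer_le (relIndex_eq_one.1 e))), fun t => h3 ?_⟩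
  exact commutator_eq_bot_iff_le_centralizer.1 (h.eq_bot lH
    (le_centralizer_iff.1 (a_times_b ((elem_isP hA).to_le hB.le) (cop_of_le (Op'_cop p H) (l.trans inf_le_left)) h.pV
      (l.trans inf_le_right) ((hB.le.trans h1).trans h.nv) (lH.trans h.nv) (le_centralizer_iff.1
        ((commutator_mono le_rfl (le_centralizer_iff.1 t)).trans (commutator_le_right'
          (normalizer_centralizer (le_normalizer_inf ((inf_le_left.trans (Op'_le p H)).trans h.nv)
            (inf_le_right.trans Subgroup.le_normalizer)))))))))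

theorem FP.semi (h : FP p V H) (h1 : A ≤ H) (hA : IsElementaryAbelian p A) (h0 : A ≠ ⊥)
    (hD : D ≤ centralizer (A : Set G)) (hVD : ⁅V, A⁆ ≤ D) (hDV : D ≤ V)
    (hs : ∀ v ∈ V, v ∉ centralizer (A : Set G) → D ≤ ⁅zpowers v, A⁆) :
    (p = 2 ∨ p = 3) ∧ Nat.card A = p ∧ (centralizer (A : Set G)).relIndex V = p := by
  obtain ⟨B, hB, iB, h3⟩ := h.lt_of_hyp h1 hA h0
  obtain ⟨v, hv, h4⟩ := SetLike.not_le_iff_exists.1 h3
  obtain ⟨a, ha, aB⟩ := SetLike.not_le_iff_exists.1 fun t : A ≤ B => hp.out.ne_one (iB ▸ relIndex_eq_one.2 t)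
  have m : ⁅v, a⁆ ∈ D := hVD (commutator_mem_commutator hv.1 ha)
  have nA : A ≤ normalizer (zpowers ⁅v, a⁆ : Set G) :=
    (le_centralizer_iff.1 ((zpowers_le.2 m).trans hD)).trans (centralizer_le_normalizer _)
  have cD : Nat.card D ≤ p := by
    refine (card_le_of_le ((hs v hv.1 h4).trans (?_ : _ ≤ zpowers ⁅v, a⁆))).trans ?_
    · rw [← L.sup_zpowers_eq_of_relIndex_prime (iB ▸ hp.out) hB ha aB]
      refine commutator_sup_le' (hB.trans nA) ((zpowers_le.2 ha).trans nA)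
        ((commutator_eq_bot_iff_le_centralizer.2 (zpowers_le.2 hv.2)).le.trans bot_le) ?_
      exact (commutator_mono (zpowers_le.2 (left_mem_pair v a)) (zpowers_le.2 (right_mem_pair v a))).trans
        (comm_pair_le (le_normalizer_of_le_comm h.el.1 le_rfl (zpowers_le.2 (hDV m)) hv.1) (nA ha) (mem_zpowers _))
    · rw [Nat.card_zpowers]
      exact Nat.le_of_dvd hp.out.pos (orderOf_dvd_of_pow_eq_one (h.el.2 _ (hDV m)))
  have tv : ∀ b ∈ A, b ≠ 1 → Tv p V H (zpowers b) ∧ D ≤ ⁅V, zpowers b⁆ := fun b hb b1 => by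
    have l := (zpowers_le.2 hb).trans h1
    have c : Nat.card (zpowers b) = p := by rw [Nat.card_zpowers, orderOf_eq_prime (hA.2 b hb) b1]
    have i : (centralizer {b}).relIndex V = p := L.relIndex_eq_of_le h.pV
      (fun t => b1 (zpowers_eq_bot.1 (h.eq_bot l (le_centralizer_iff.1 (t.trans (H9.centralizer_zpowers b).ge)))))
      ((L.relIndex_centralizer_le fun g hg => hVD (commutator_comm A V ▸ commutator_mem_commutator hb hg)).trans cD)
    have t : Tv p V H (zpowers b) := ⟨l, c, by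
      rw [ms, c, H9.centralizer_zpowers, ← i, ← inf_relIndex_left, mul_comm, ← relIndex_bot_left, ← relIndex_bot_left,
        relIndex_mul_relIndex _ _ _ bot_le inf_le_left]⟩
    exact ⟨t, (eq_of_le_of_card_ge ((commutator_mono le_rfl (zpowers_le.2 hb)).trans hVD)
      (cD.trans (h.card_comm t).ge)).ge⟩
  have a1 : a ≠ 1 := fun e => aB (e ▸ B.one_mem)
  obtain ⟨t, t'⟩ := tv a ha a1
  have cA : A ≤ centralizer (A : Set G) := L.le_centralizer_of_comm hA.1
  have nW : A ≤ normalizer ((⁅V, Ea p H (zpowers a)⁆ : Subgroup G) : Set G) := fun g hg =>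
    mem_normalizer_iff_cj.2 (by
      rw [h.cj_W (h.nv (h1 hg)) (Subgroup.le_normalizer (h1 hg)), mem_normalizer_iff_cj.1
        (centralizer_le_normalizer _ (centralizer_le (zpowers_le.2 ha) (cA hg)))])
  have i := L.relIndex_centralizer_le_pow (p := p) (L := ⁅V, Ea p H (zpowers a)⁆ ⊔ A)
    ((h.pV.to_le (h.W_le t)).to_sup_of_normal_left' (elem_isP hA) nW) 2 le_sup_left (sup_le Subgroup.le_normalizer nW)
    (h.card_W t)
  have e : A ⊓ centralizer ((⁅V, Ea p H (zpowers a)⁆ : Subgroup G) : Set G) = ⊥ := by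
    by_contra hn
    obtain ⟨⟨b, hb⟩, b1⟩ := ne_bot_iff_exists_ne_one.1 hn
    have b1 : b ≠ 1 := fun e => b1 (Subtype.ext e)
    obtain ⟨s, s'⟩ := tv b hb.1 b1
    rcases h.W_eq_or t s with e | e
    · refine b1 (mem_bot.1 ((h.E_faith s).le ⟨mem_sup_right (mem_zpowers b), ?_⟩))
      rw [← e]; exact hb.2
    · refine h.comm_ne t (le_bot_iff.1 (((commutator_mono le_rfl (zpowers_le.2 ha)).trans hVD).trans (le_trans ?_ e.le)))
      exact le_inf (t'.trans (commutator_mono le_rfl le_sup_right)) (s'.trans (commutator_mono le_rfl le_sup_right))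
  have c : Nat.card A ≤ p := by
    rw [← relIndex_bot_left, ← e, inf_relIndex_left]
    exact (relIndex_le_of_le_right le_sup_right (L.relIndex_pos _ _).ne').trans (by simpa using i)
  have eA : zpowers a = A := eq_of_le_of_card_ge (zpowers_le.2 ha) (c.trans t.card.ge)
  rw [eA] at t
  exact ⟨h.p23 t, t.card, by rw [← inf_relIndex_left]; exact t.relIndex⟩

/-- semi-extraspecial `p`-subgroups. -/
structure SX (p : ℕ) {G : Type*} [Group G] (P : Subgroup G) : Prop where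
  isP : IsPGroup p P
  cen : ⁅P, P⁆ ≤ centralizer (P : Set G)
  pw : ∀ s ∈ P, s ^ p ∈ ⁅P, P⁆
  se : ∀ s ∈ P, s ∉ ⁅P, P⁆ → ⁅P, P⁆ ≤ ⁅zpowers s, P⁆

omit [Finite G] hp in
theorem SX.im {Γ : Type*} [Group Γ] {P : Subgroup G} (h : SX p P) (f : P →* Γ) : SX p (im f P) := by
  refine ⟨isPGroup_im f h.isP, ?_, ?_, ?_⟩ <;> rw [← im_commutator f le_rfl le_rfl]
  · exact im_le_centralizer f h.cen
  · rintro _ ⟨s, hs, rfl⟩
    rw [← map_pow]
    exact mem_im_of_mem f (h.pw s hs)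
  · rintro _ ⟨s, hs, rfl⟩ h1
    rw [← im_zpowers, ← im_commutator f (zpowers_le.2 s.2) le_rfl]
    exact im_mono f (h.se s hs fun t => h1 (mem_im_of_mem f t))

theorem Red.semi {Γ : Type u} [Group Γ] [Finite Γ] (h : Red p Γ) {S : Subgroup Γ} (hS : SX p S) (h1 : pCore p Γ ≤ S)
    (h2 : ¬ S ≤ pCore p Γ) : (p = 2 ∨ p = 3) ∧ (⁅S, S⁆).relIndex S = p ^ 2 ∧ ⁅S, S⁆ < pCore p Γ ∧ ⁅S, S⁆ ≠ ⊥ := by
  have cV : centralizer (pCore p Γ : Set Γ) = pCore p Γ := le_antisymm h.cc (L.le_centralizer_of_comm h.el.1)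
  have dV : ⁅S, S⁆ ≤ pCore p Γ := hS.cen.trans ((centralizer_le h1).trans h.cc)
  have d0 : ⁅S, S⁆ ≠ ⊥ := fun e => h2 ((commutator_eq_bot_iff_le_centralizer.1 e).trans ((centralizer_le h1).trans h.cc))
  have zS : pCore p Γ ⊓ centralizer (S : Set Γ) = ⁅S, S⁆ := le_antisymm (fun v hv => by
    by_contra t
    exact d0 (le_bot_iff.1 ((hS.se v (h1 hv.1) t).trans
      (commutator_eq_bot_iff_le_centralizer.2 (zpowers_le.2 hv.2)).le))) (le_inf dV hS.cen)
  have hO : Opm p ⊤ (centralizer (pCore p Γ : Set Γ)) ≤ centralizer (pCore p Γ : Set Γ) := by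
    rw [cV]; exact (Opm_le_Op ((pCore_p p).to_le inf_le_left)).trans (Op_top p).le
  have n := nrm ⊤ (pCore p Γ)
  have el := h.el
  generalize pCore p Γ = V at *
  obtain ⟨Δ, _, _, i, f, k⟩ := exists_hol V
  have t := k.fp el n h.ps hO (SN.refl ⊤)
  have nS : S ≤ normalizer (V : Set Γ) := le_top.trans n
  have kf : kr f = V := k.kr_f.trans cV
  have hc : ∀ (v : V) (g : normalizer (V : Set Γ)), ∃ w : V, (w : Γ) = ⁅(v : Γ), (g : Γ)⁆ ∧ i w = ⁅i v, f g⁆ := fun v g =>
    ⟨v * V.normalizerMonoidHom g v⁻¹, by rw [commutatorElement_def, mul_assoc, mul_assoc, ← mul_assoc (g : Γ)]; rfl, by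
      rw [map_mul, ← k.act, map_inv, commutatorElement_def, mul_assoc, mul_assoc, mul_assoc]⟩
  obtain ⟨p23, c1, c2⟩ := t.semi (D := im i ⁅S, S⁆) (im_mono f le_top) (A := im f S)
    ⟨L.commutator_eq_bot_iff_comm.1 (by rw [← im_commutator f nS nS, im_eq_bot_iff f (dV.trans Subgroup.le_normalizer), kf]; exact dV),
      by
        rintro _ ⟨s, hs, rfl⟩
        rw [← map_pow]
        exact (coe_mem_kr f).1 (kf.ge (dV (hS.pw s hs)))⟩
    (by rwa [Ne, im_eq_bot_iff f nS, kf]) (le_centralizer_iff.1 ((k.cent nS dV).2 (le_centralizer_iff.1 hS.cen)))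
    (commutator_le.2 (by
      rintro _ ⟨v, hv, rfl⟩ _ ⟨g, hg, rfl⟩
      obtain ⟨w, e1, e2⟩ := hc v g
      exact e2 ▸ mem_im_of_mem i (e1 ▸ commutator_mem_commutator (h1 hv) hg))) (im_mono i dV) (by
      rintro _ ⟨v, hv, rfl⟩ hv'
      refine (im_le_iff i dV).2 ((hS.se v (h1 hv) fun t => hv' ?_).trans (commutator_le.2 fun x hx g hg => ?_))
      · exact le_centralizer_iff.1 ((k.cent nS dV).2 (le_centralizer_iff.1 hS.cen)) (mem_im_of_mem i t)
      · obtain ⟨m, rfl⟩ := hx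
        obtain ⟨w, e1, e2⟩ := hc (v ^ m) ⟨g, nS hg⟩
        refine e1 ▸ (coe_mem_pre i).2 (e2 ▸ commutator_mem_commutator ?_ (mem_im_of_mem f hg))
        rw [map_zpow]; exact zpow_mem_zpowers _ m)
  have e1 : V.relIndex S = p := by
    have := card_eq_card_im_mul f nS
    rw [c1, kf, inf_eq_left.2 h1, ← relIndex_bot_left (H := S), ← relIndex_mul_relIndex _ _ _ bot_le h1,
      relIndex_bot_left, mul_comm] at this
    exact Nat.eq_of_mul_eq_mul_right Nat.card_pos this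
  have e2 : (⁅S, S⁆).relIndex V = p := by
    rw [← inf_relIndex_left, ← k.inf_cent nS, zS] at c2
    refine Nat.eq_of_mul_eq_mul_left (Nat.card_pos (α := (⁅S, S⁆ : Subgroup Γ))) ?_
    rw [← c2, ← relIndex_bot_left, relIndex_mul_relIndex _ _ _ bot_le dV, relIndex_bot_left, relIndex_bot_left,
      ← k.card_i dV, ← k.card_i le_rfl, ← relIndex_bot_left, ← relIndex_bot_left,
      relIndex_mul_relIndex _ _ _ bot_le (im_mono i dV)]
  exact ⟨p23, by rw [← relIndex_mul_relIndex _ _ _ dV h1, e1, e2, sq],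
    lt_of_le_not_ge dV fun t => hp.out.ne_one (e2 ▸ relIndex_eq_one.2 t), d0⟩

/-- data of a Schmidt group -/
structure SD (p q : ℕ) {G : Type*} [Group G] (P : Subgroup G) (x : G) : Prop where
  isP : IsPGroup p P
  isQ : IsPGroup q (zpowers x)
  ne : q ≠ p
  nm : P.Normal
  nc : x ∉ centralizer (P : Set G)
  top : P ⊔ zpowers x = ⊤
  nil : ∀ M : Subgroup G, M ≠ ⊤ → Group.IsNilpotent M

theorem exists_SD (hX : IsMinimalNonNilpotent G) {P : Subgroup G} (hP : Syl p P ⊤) (hn : P.Normal) (h0 : P ≠ ⊥) :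
    ∃ q, ∃ _ : Fact q.Prime, ∃ x, SD p q P x := by
  obtain ⟨q, r, x, Q, hq, hr, qr, h1, h2, h3, h4, h5⟩ := minimalNonNilpotent_structure hX.1 hX.2
  have : Fact q.Prime := ⟨hq⟩
  have : Fact r.Prime := ⟨hr⟩
  by_cases e : r = p
  · subst e
    have := hP.maximal h2.isPGroup le_top (Syl.le_of_le_normalizer ⟨le_top, h2.isPGroup, h2.not_dvd⟩ hP.isP le_top
      (.inl (nrm _ _)))
    subst this
    exact ⟨q, ⟨hq⟩, x, hP.isP, h1.isPGroup, qr, hn, h5, (sup_comm _ _).trans h4, hX.2⟩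
  by_cases e' : q = p
  · subst e'
    exact absurd (zpowers_le.1 ((hP.le_of_le_normalizer h1.isPGroup le_top (.inl (nrm _ _))).trans
      (commutator_eq_bot_iff_le_centralizer.1 (commutator_eq_bot_of_p_p' hP.isP (cop_of_isPGroup_ne e h2.isPGroup)
        (nrm _ _) (nrm _ _))))) h5
  · exact absurd (eq_bot_of_p_p' hP.isP (cop_of_le (cop_sup (cop_of_isPGroup_ne e' h1.isPGroup)
      (cop_of_isPGroup_ne e h2.isPGroup) (nrm _ _)) (le_top.trans h4.ge))) h0

namespace SD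
variable {q : ℕ} [hq : Fact q.Prime] {P U : Subgroup G} {x : G} (h : SD p q P x)
include h

theorem cop : (Nat.card (zpowers x)).Coprime p := cop_of_isPGroup_ne h.ne h.isQ

theorem cent (h1 : U < P) (h2 : x ∈ normalizer (U : Set G)) : U ≤ centralizer (zpowers x : Set G) := by
  refine le_centralizer_of_coprime_of_nilpotent (h.nil (zpowers x ⊔ U) fun e => h1.not_ge ?_) le_sup_right le_sup_left
    (card_cop_of_p (h.isP.to_le h1.le) h.cop)
  exact ((syl_sup_of_cop (h.isP.to_le h1.le) h.cop (.inr (zpowers_le.2 h2))).maximal h.isP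
    (le_top.trans (e.ge.trans (sup_comm _ _).le)) h1.le).le

theorem comm : ⁅P, zpowers x⁆ = P := by
  have := h.nm
  by_contra e
  exact h.nc (zpowers_le.1 (le_centralizer_iff.1 (cop_le_centralizer (nrm _ _) (copA_of_p' h.isP h.cop) le_rfl
    (h.cent (lt_of_le_of_ne (commutator_le_left _ _) e) (le_normalizer_commutator_right _ _ (mem_zpowers x))))))

theorem central (h1 : U < P) (h2 : x ∈ normalizer (U : Set G)) (h3 : P ≤ normalizer (U : Set G)) :
    U ≤ centralizer ((⊤ : Subgroup G) : Set G) := by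
  have c := le_centralizer_iff.1 (h.cent h1 h2)
  rw [le_centralizer_iff, ← h.top]
  refine sup_le (h.comm.ge.trans ((commutator_mono le_rfl c).trans (commutator_le_right' (normalizer_centralizer h3)))) c

theorem le_der (h1 : U < P) (h2 : x ∈ normalizer (U : Set G)) : U ≤ ⁅P, P⁆ := by
  have := h.nm
  let f := QuotientGroup.mk' ⁅P, P⁆
  have kf : f.ker = ⁅P, P⁆ := QuotientGroup.ker_mk' _
  rw [← kf, ← Subgroup.map_eq_bot_iff, ← le_bot_iff, ← cop_abelian_inf (A := (zpowers x).map f) (V := P.map f)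
    (L.commutator_eq_bot_iff_comm.1 (by rw [← map_commutator, Subgroup.map_eq_bot_iff, kf]))
    (map_le_normalizer_map f (nrm _ _)) (card_cop_of_p (h.isP.map f) (cop_map f h.cop)).symm, ← map_commutator, h.comm]
  exact le_inf (le_inf (map_mono h1.le) (map_le_centralizer_map f (h.cent h1 h2))) (map_mono h1.le)

variable (hna : ⁅P, P⁆ ≠ ⊥)
include hna

theorem der_lt : ⁅P, P⁆ < P := commutator_lt_of_p h.isP h.isP Subgroup.le_normalizer fun e => hna (by rw [e, commutator_bot_left])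

theorem der_central : ⁅P, P⁆ ≤ centralizer ((⊤ : Subgroup G) : Set G) :=
  have := h.nm
  h.central (h.der_lt hna) (nrm ⊤ _ (mem_top x)) (nrm _ _)

theorem sx : SX p P := by
  have := h.nm
  have c := h.der_central hna
  refine ⟨h.isP, c.trans (centralizer_le le_top), fun s hs => h.le_der (U := L.Phi P) (lt_of_le_not_ge (L.Phi_le P) fun t =>
    hna (L.commutator_eq_bot_iff_comm.2 ?_)) (L.normalizer_Phi (nrm ⊤ P) (mem_top x)) (L.pow_mem_Phi h.isP hs), fun s hs h1 => ?_⟩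
  · have := L.isCyclic_of_relIndex_Phi h.isP le_rfl (by rw [relIndex_eq_one.2 t]; exact hp.out.pos)
    infer_instance
  have : (⁅zpowers s, P⁆).Normal := normalizer_eq_top_iff.1 (top_le_iff.1 ((le_centralizer_iff.1
    ((commutator_mono (zpowers_le.2 hs) le_rfl).trans c)).trans (centralizer_le_normalizer _)))
  let f := QuotientGroup.mk' ⁅zpowers s, P⁆
  have kf : f.ker = ⁅zpowers s, P⁆ := QuotientGroup.ker_mk' _
  have : (P.map f).Normal := h.nm.map f (QuotientGroup.mk'_surjective _)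
  by_contra t
  refine h1 (h.le_der (U := P ⊓ (centralizer (P.map f : Set _)).comap f) (inf_lt_left.2 fun e => t ?_)
    (nrm ⊤ _ (mem_top x)) ⟨hs, ?_⟩)
  · rw [← kf, ← Subgroup.map_eq_bot_iff, map_commutator, commutator_eq_bot_iff_le_centralizer]
    exact map_le_iff_le_comap.2 e
  · refine zpowers_le.1 (map_le_iff_le_comap.1 ?_)
    rw [← commutator_eq_bot_iff_le_centralizer, ← map_commutator, Subgroup.map_eq_bot_iff, kf]

theorem cyc {y : G} (hy : y ∈ P) (h1 : x * y * x⁻¹ ∈ zpowers y ⊔ ⁅P, P⁆) : y ∈ ⁅P, P⁆ := by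
  have := h.nm
  refine h.le_der (U := zpowers y ⊔ ⁅P, P⁆) (lt_of_le_of_ne (sup_le (zpowers_le.2 hy) (h.der_lt hna).le) fun e => hna ?_)
    (mem_normalizer_iff_cj.2 (eq_of_le_of_card_ge ?_ (card_cj _ _).ge)) (mem_sup_left (mem_zpowers y))
  · have := L.isMulCommutative_sup_zpowers (isMulCommutative_of_le (le_inf (h.der_lt hna).le (h.sx hna).cen)
      (L.isMulCommutative_inf_centralizer P)) (le_centralizer_iff.1 (h.sx hna).cen hy)
    rw [sup_comm, e] at this
    exact L.commutator_eq_bot_iff_comm.2 this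
  · rw [cj_sup, cj_zpowers, cj_eq_of_normal]
    exact sup_le (zpowers_le.2 h1) le_sup_right

theorem pow_cent : x ^ q ∈ centralizer (P : Set G) := by
  have := h.nm
  refine zpowers_le.1 (le_centralizer_of_coprime_of_nilpotent (h.nil (zpowers (x ^ q) ⊔ P) fun e => ?_) le_sup_left
    le_sup_right (card_cop_of_p h.isP (cop_of_le h.cop (zpowers_le.2 (pow_mem (mem_zpowers x) q)))).symm)
  have l : zpowers (x ^ q) ≤ zpowers x := zpowers_le.2 (pow_mem (mem_zpowers x) q)
  have := (syl_sup_of_cop (h.isQ.to_le l) (cop_of_isPGroup_ne h.ne.symm h.isP) (.inl (nrm _ _))).maximal h.isQ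
    (le_top.trans e.ge) l
  have m := mem_zpowers_pow_iff.1 (this ▸ mem_zpowers x)
  obtain ⟨k, hk⟩ := L.exists_card_eq_pow h.isQ
  rw [Nat.card_zpowers] at hk
  rcases k with _ | k
  · exact h.nc (orderOf_eq_one_iff.1 hk ▸ one_mem _)
  · exact hq.out.ne_one (Nat.Coprime.eq_one_of_dvd m (hk ▸ dvd_pow_self q k.succ_ne_zero))

theorem dvd (hi : (⁅P, P⁆).relIndex P = p ^ 2) : q ∣ p ^ 2 - 1 := by
  have := h.nm
  have m := card_modEq_card_inf_centralizer h.isQ (nrm _ P)
  have e : P ⊓ centralizer (zpowers x : Set G) = ⁅P, P⁆ := le_antisymm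
    (h.le_der (inf_lt_left.2 fun t => h.nc (le_centralizer_iff.1 t (mem_zpowers x)))
      (le_normalizer_inf (nrm _ P) (normalizer_centralizer Subgroup.le_normalizer) (mem_zpowers x)))
    (le_inf (h.der_lt hna).le ((h.der_central hna).trans (centralizer_le le_top)))
  rw [e, ← relIndex_bot_left (H := P), ← relIndex_mul_relIndex _ _ _ bot_le (h.der_lt hna).le, relIndex_bot_left, hi] at m
  exact (Nat.modEq_iff_dvd' (Nat.one_le_pow _ _ hp.out.pos)).1 (Nat.ModEq.cancel_left_of_coprime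
    (cop_of_isPGroup_ne h.ne.symm (h.isP.to_le (h.der_lt hna).le)).symm (by rwa [mul_one])).symm

theorem swap {a b : G} (ha : a ∈ P) (hb : b ∈ P) (e : x * (a * b) * x⁻¹ = b * a) : a * b ∈ ⁅P, P⁆ := by
  refine h.cyc hna (P.mul_mem ha hb) ?_
  rw [e, show b * a = a * b * ⁅b⁻¹, a⁻¹⁆⁻¹⁻¹ by simp [commutatorElement_def, mul_assoc], inv_inv]
  exact mul_mem_sup (mem_zpowers _) (commutator_mem_commutator (P.inv_mem hb) (P.inv_mem ha))

omit hna in
theorem le_pCore {Γ : Type u} [Group Γ] [Finite Γ] (hR : Red p Γ) (φ : P →* Γ) (h1 : pCore p Γ ≤ H9.im φ P) :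
    H9.im φ P ≤ pCore p Γ := by
  have := h.nm
  by_contra h2
  have eD := im_commutator φ (le_refl P) le_rfl
  have hna : ⁅P, P⁆ ≠ ⊥ := fun e => h2 ((commutator_eq_bot_iff_le_centralizer.1 (by rw [← eD, e, im_bot])).trans
    ((centralizer_le h1).trans hR.cc))
  have sx := h.sx hna
  have dl := (h.der_lt hna).le
  obtain ⟨p23, hi, lt, d0⟩ := hR.semi (sx.im φ) h1 h2
  have k : kr φ ≤ ⁅P, P⁆ := fun s hs => by
    by_contra t
    refine d0 (eD ▸ (im_eq_bot_iff φ dl).2 ((sx.se s (kr_le φ hs) t).trans ?_))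
    exact (commutator_mono (zpowers_le.2 hs) le_rfl).trans (commutator_le_left' (le_normalizer_kr φ))
  have d : q ∣ p ^ 2 - 1 := h.dvd hna (by
    rw [← hi, im_self_eq_range, MonoidHom.range_eq_map, ← relIndex_comap, relIndex_top_right, ← MonoidHom.range_eq_map,
      ← im_self_eq_range, ← eD, ← subgroupOf_pre, pre_im φ dl, sup_eq_left.2 k]; rfl)
  have cj : ∀ a ∈ P, x * a * x⁻¹ ∈ P := fun a ha => h.nm.conj_mem a ha x
  have xq : ∀ a ∈ P, x ^ q * a * (x ^ q)⁻¹ = a := fun a ha => by rw [← h.pow_cent hna a ha, mul_inv_cancel_right]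
  rcases p23 with rfl | rfl
  · obtain rfl : q = 3 := (Nat.prime_dvd_prime_iff_eq hq.out Nat.prime_three).1 d
    obtain ⟨v, hv, v1⟩ := SetLike.exists_of_lt lt
    obtain ⟨⟨a, ha⟩, -, rfl⟩ := h1 hv
    have a1 : a ∉ ⁅P, P⁆ := fun t => v1 (eD ▸ mem_im_of_mem φ t)
    have hb := cj a ha
    have hc := cj _ hb
    have sq : ∀ y ∈ P, (x * y * x⁻¹) ^ 2 = y ^ 2 := fun y hy => by
      rw [conj_pow, h.der_central hna (sx.pw y hy) x trivial, mul_inv_cancel_right]
    have x3 : x * (x * (x * a * x⁻¹) * x⁻¹) * x⁻¹ = a :=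
      calc _ = x ^ 3 * a * (x ^ 3)⁻¹ := by simp only [pow_succ, pow_zero, one_mul, mul_inv_rev, mul_assoc]
        _ = a := xq a ha
    set b := x * a * x⁻¹ with eb
    set c := x * b * x⁻¹ with ec
    have hN : a * (b * c) ∈ ⁅P, P⁆ := h.swap hna ha (P.mul_mem hb hc) (by
      calc x * (a * (b * c)) * x⁻¹ = (x * a * x⁻¹) * (x * b * x⁻¹) * (x * c * x⁻¹) := by group
        _ = _ := by rw [x3])
    have A2 : φ ⟨a, ha⟩ ^ 2 = 1 := hR.el.2 _ hv
    have B2 : φ ⟨b, hb⟩ ^ 2 = 1 := by rw [← A2, ← map_pow, ← map_pow]; exact congrArg φ (Subtype.ext (sq a ha))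
    have C2 : φ ⟨c, hc⟩ ^ 2 = 1 := by rw [← B2, ← map_pow, ← map_pow]; exact congrArg φ (Subtype.ext (sq b hb))
    have mN : φ ⟨a, ha⟩ * (φ ⟨b, hb⟩ * φ ⟨c, hc⟩) ∈ ⁅H9.im φ P, H9.im φ P⁆ := by
      rw [← map_mul, ← map_mul, ← eD]; exact mem_im_of_mem φ hN
    have N2 := hR.el.2 _ (lt.le mN)
    have cN := (sx.im φ).cen mN _ (mem_im_of_mem φ (x := ⟨c, hc⟩) hc)
    have AB : φ ⟨a, ha⟩ * φ ⟨b, hb⟩ = φ ⟨b, hb⟩ * φ ⟨a, ha⟩ := by
      generalize φ ⟨a, ha⟩ = A at *
      generalize φ ⟨b, hb⟩ = B at *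
      generalize φ ⟨c, hc⟩ = C at *
      rw [_root_.sq] at A2 B2 C2 N2
      have e1 : C * (A * B) * C = A * B := by rw [mul_assoc, mul_assoc A, cN, mul_assoc, mul_assoc, C2, mul_one]
      have e2 : A * B * (A * B) = 1 := by
        rw [← N2]; nth_rw 2 [← e1]; group
      calc A * B = (A * B)⁻¹ := (inv_eq_of_mul_eq_one_right e2).symm
        _ = _ := by rw [mul_inv_rev, inv_eq_of_mul_eq_one_right A2, inv_eq_of_mul_eq_one_right B2]
    have eU : closure {a, b} ⊔ ⁅P, P⁆ = P := by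
      by_contra t
      refine a1 (h.le_der (lt_of_le_of_ne (sup_le (pair_le ha hb) dl) t) (mem_normalizer_iff_cj.2
        (eq_of_le_of_card_ge ?_ (card_cj _ _).ge)) (mem_sup_left (left_mem_pair a b)))
      rw [cj_sup, cj_eq_of_normal x ⁅P, P⁆, cj_def, map_closure_pair]
      refine sup_le (pair_le (mem_sup_left (right_mem_pair a b)) ?_) le_sup_right
      change c ∈ _
      rw [show c = (a * b)⁻¹ * (a * (b * c)) by group]
      exact mul_mem_sup (inv_mem (mul_mem (left_mem_pair a b) (right_mem_pair a b))) hN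
    refine d0 (eD ▸ (im_eq_bot_iff φ dl).2 ?_)
    have n := le_normalizer_kr φ
    have c0 : ⁅⁅P, P⁆, P⁆ ≤ kr φ := (commutator_eq_bot_iff_le_centralizer.2 sx.cen).le.trans bot_le
    have l := pair_le ha hb
    refine (commutator_mono eU.ge le_rfl).trans (H9.commutator_sup_le (l.trans n) (dl.trans n)
      ((commutator_mono le_rfl eU.ge).trans (commutator_sup_le' (l.trans n) (dl.trans n) (comm_pair_le (n ha) (n hb) ?_)
        ((commutator_mono l le_rfl).trans ((commutator_comm _ _).le.trans c0)))) c0)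
    refine (coe_mem_kr φ (x := ⁅(⟨a, ha⟩ : P), (⟨b, hb⟩ : P)⁆)).2 ?_
    rw [map_commutatorElement, commutatorElement_eq_one_iff_mul_comm, AB]
  · obtain rfl : q = 2 := (Nat.prime_dvd_prime_iff_eq hq.out Nat.prime_two).1 (hq.out.dvd_of_dvd_pow (n := 3) d)
    obtain ⟨a, ha, a1⟩ := SetLike.exists_of_lt (h.der_lt hna)
    have hN := h.swap hna ha (cj a ha) (by
      calc x * (a * (x * a * x⁻¹)) * x⁻¹ = x * a * x⁻¹ * (x ^ 2 * a * (x ^ 2)⁻¹) := by
            simp only [pow_succ, pow_zero, one_mul, mul_inv_rev, mul_assoc, inv_mul_cancel_left]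
        _ = _ := by rw [xq a ha])
    refine a1 (h.cyc hna ha ?_)
    rw [show x * a * x⁻¹ = a⁻¹ * (a * (x * a * x⁻¹)) by group]
    exact mul_mem_sup (inv_mem (mem_zpowers a)) hN

end SD

end H1
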