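import Cfsg.Agent.H1.ES
import Cfsg.Agent.H1.Sig0
import Cfsg.Agent.H1.Primitive
import Cfsg.Agent.H9.SPE

/-! H1.Q5: small p-group facts. -/

open Pointwise Cfsg Subgroup H9
open scoped commutatorElement

namespace H1

variable {G : Type*} [Group G] [Finite G] {p : ℕ} [hp : Fact p.Prime]

theorem card_sup_zp {P K : Subgroup G} {g : G} (hP : IsPGroup p P) (hK : K ≤ P) (hg : g ∈ P)
    (h1 : g ∈ normalizer (K : Set G)) (h2 : g ^ p ∈ K) (h3 : g ∉ K) :
    Nat.card (K ⊔ zpowers g : Subgroup G) = Nat.card K * p :=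
  le_antisymm (card_sup_zp_le hp.out h1 h2) (mul_comm p _ ▸ L.mul_card_le_of_lt
    (hP.to_le (sup_le hK (zpowers_le.2 hg))) (left_lt_sup.2 fun h => h3 (zpowers_le.1 h)))

theorem exists_not_mem_of_card {A B : Subgroup G} (h : Nat.card A < Nat.card B) : ∃ x ∈ B, x ∉ A := by
  by_contra hc
  push Not at hc
  exact h.not_ge (card_le_of_le hc)

/-- a group of exponent `p` and order at least `p ^ 4` has an abelian subgroup of order `p ^ 3`. -/
theorem exists_comm_cube {P : Subgroup G} (hP : IsPGroup p P) (he : ∀ x ∈ P, x ^ p = 1) (h : p ^ 4 ≤ Nat.card P) :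
    ∃ A ≤ P, IsMulCommutative A ∧ Nat.card A = p ^ 3 := by
  have p1 := hp.out.one_lt
  obtain ⟨N, n1, n2, n3⟩ := L.exists_normal_card' hP le_rfl Subgroup.le_normalizer 2
    ((Nat.pow_le_pow_right p1.le (by norm_num)).trans h)
  have i := L.relIndex_centralizer_le_pow hP 2 n1 n2 n3
  have c := relIndex_mul_relIndex ⊥ (centralizer (N : Set G) ⊓ P) P bot_le inf_le_right
  rw [inf_relIndex_right, relIndex_bot_left, relIndex_bot_left] at c
  obtain ⟨x, hx, x1⟩ := exists_not_mem_of_card (A := N) (B := centralizer (N : Set G) ⊓ P) (by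
    rw [n3]
    by_contra t
    have := Nat.mul_le_mul (not_lt.1 t) i
    rw [c, ← pow_add] at this
    exact absurd ((Nat.pow_le_pow_iff_right p1).1 (h.trans this)) (by norm_num))
  exact ⟨_, sup_le n1 (zpowers_le.2 hx.2), L.isMulCommutative_sup_zpowers (L.isMulCommutative_of_card_le_sq
    (hP.to_le n1) n3.le) hx.1, by rw [card_sup_zp hP n1 hx.2 (n2 hx.2) (he x hx.2 ▸ one_mem _) x1, n3, ← pow_succ]⟩

theorem exists_noncomm_cube {P : Subgroup G} (hP : IsPGroup p P) (he : ∀ x ∈ P, x ^ p = 1) (h : ¬ IsMulCommutative P) :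
    ∃ A ≤ P, ¬ IsMulCommutative A ∧ Nat.card A = p ^ 3 := by
  have lt : P ⊓ centralizer (P : Set G) < P :=
    lt_of_le_of_ne inf_le_left fun e => h (L.comm_of_le_centralizer (e.ge.trans inf_le_right))
  obtain ⟨x, hx, x1, -, x2⟩ := L.exists_central_mod_pow hP lt le_rfl (normalizer_inf Subgroup.le_normalizer
    (normalizer_centralizer Subgroup.le_normalizer)) Subgroup.le_normalizer
  obtain ⟨y, hy, y1⟩ : ∃ y ∈ P, y * x ≠ x * y := by
    by_contra t
    push Not at t
    exact x1 ⟨hx, t⟩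
  have z1 : ⁅x, y⁆ ≠ 1 := fun e => y1 (commutatorElement_eq_one_iff_mul_comm.1 e).symm
  have z2 := x2 y hy
  have z3 := zpowers_le.2 z2
  have cz : Nat.card (zpowers ⁅x, y⁆) = p := by rw [Nat.card_zpowers, orderOf_eq_prime (he _ z2.1) z1]
  have cx : zpowers ⁅x, y⁆ ⊔ zpowers x ≤ centralizer {x} :=
    sup_le (zpowers_le.2 (mem_centralizer_singleton_iff.2 (z2.2 x hx).symm))
      (zpowers_le.2 (mem_centralizer_singleton_iff.2 rfl))
  have l := sup_le (z3.trans inf_le_left) (zpowers_le.2 hx)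
  refine ⟨zpowers ⁅x, y⁆ ⊔ zpowers x ⊔ zpowers y, sup_le l (zpowers_le.2 hy), fun c => y1 (ab_comm c
    (mem_sup_right (mem_zpowers y)) (mem_sup_left (mem_sup_right (mem_zpowers x)))), ?_⟩
  have nz : P ≤ normalizer (zpowers ⁅x, y⁆ : Set G) :=
    (le_centralizer_iff.1 (z3.trans inf_le_right)).trans (Subgroup.centralizer_le_normalizer _)
  rw [card_sup_zp hP l hy ?_ (he y hy ▸ one_mem _) fun t => y1 (mem_centralizer_singleton_iff.1 (cx t)),
    card_sup_zp hP (z3.trans inf_le_left) hx (nz hx) (he x hx ▸ one_mem _) fun t => x1 (z3 t), cz]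
  · ring
  · rw [mem_normalizer_iff_cj]
    refine eq_of_le_of_card_ge ?_ (card_cj _ _).ge
    rw [cj_sup, mem_normalizer_iff_cj.1 (nz hy), cj_zpowers]
    refine sup_le le_sup_left (zpowers_le.2 ?_)
    rw [show y * x * y⁻¹ = ⁅x, y⁆⁻¹ * x by group]
    exact mul_mem_sup (inv_mem (mem_zpowers _)) (mem_zpowers _)

end H1
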